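import Mathlib

/-!
# Number theory for automorphisms of cyclic `p`-groups

If `r ^ p ≡ 1`, `r ≢ 1` and `r * s ≡ s` modulo `p ^ m`, then the congruence
`i * (1 + r + ⋯ + r ^ (p - 1)) + s ≡ 0` is solvable, except when `p = 2`, `r ≡ -1` and `s ≡ 2 ^ (m - 1)`.
-/

set_option autoImplicit false

namespace Cfsg.Agent.Helper73

open Finset

theorem geomSum_mul_pred (r n : ℕ) (hr : 1 ≤ r) :
    (∑ j ∈ range n, r ^ j) * (r - 1) = r ^ n - 1 := by
  have h := geom_sum_mul (r : ℤ) n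
  have h1 : 1 ≤ r ^ n := Nat.one_le_pow _ _ hr
  zify [hr, h1]
  exact_mod_cast h

/-- solving `i * (p * u) + p * s' ≡ 0` when `u` is prime to `p`. -/
theorem exists_solution_of_unit (p m u s' : ℕ) (hp : p.Prime) (hu : ¬ p ∣ u) :
    ∃ i : ℕ, i * (p * u) + p * s' ≡ 0 [MOD p ^ m] := by
  have hcop : Nat.Coprime u (p ^ m) := Nat.Coprime.pow_right m ((Nat.Prime.coprime_iff_not_dvd hp).2 hu).symm
  -- work in ZMod (p ^ m)
  have : NeZero (p ^ m) := ⟨pow_ne_zero m hp.ne_zero⟩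
  have hunit : IsUnit ((u : ZMod (p ^ m))) := (ZMod.isUnit_iff_coprime u (p ^ m)).2 hcop
  obtain ⟨v, hv⟩ := hunit.exists_left_inv
  refine ⟨((-(s' : ZMod (p ^ m))) * v).val, ?_⟩
  rw [← ZMod.natCast_eq_natCast_iff]
  push_cast
  rw [ZMod.natCast_zmod_val]
  have : (-(s' : ZMod (p ^ m)) * v) * ((p : ZMod (p ^ m)) * u) + p * s' =
      (p : ZMod (p ^ m)) * s' * (1 - v * u) := by ring
  rw [this, hv]; ring

theorem solution_odd (p m r s : ℕ) (hp : p.Prime) (hodd : p ≠ 2) (hm : 1 ≤ m)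
    (H1 : r ^ p ≡ 1 [MOD p ^ m]) (H2 : ¬ r ≡ 1 [MOD p ^ m]) (H3 : r * s ≡ s [MOD p ^ m]) :
    ∃ i : ℕ, i * (∑ j ∈ range p, r ^ j) + s ≡ 0 [MOD p ^ m] := by
  have : Fact p.Prime := ⟨hp⟩
  have hpodd : Odd p := hp.odd_of_ne_two hodd
  -- r ≥ 2
  have hr0 : r ≠ 0 := by
    rintro rfl
    rw [zero_pow hp.ne_zero] at H1
    have := (Nat.modEq_zero_iff_dvd.1 H1.symm)
    have h2 := Nat.dvd_one.1 this
    have : 1 < p ^ m := Nat.one_lt_pow (by omega) hp.one_lt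
    omega
  have hr1 : r ≠ 1 := by
    rintro rfl
    exact H2 rfl
  have hr2 : 1 < r := by omega
  have hrp1 : 1 ≤ r ^ p := Nat.one_le_pow _ _ (by omega)
  -- divisibility statements
  have D1 : p ^ m ∣ r ^ p - 1 := (Nat.modEq_iff_dvd' hrp1).1 H1.symm
  have D2 : ¬ p ^ m ∣ r - 1 := fun h => H2 ((Nat.modEq_iff_dvd' (by omega)).2 h).symm
  -- p ∣ r - 1
  have hpr : p ∣ r - 1 := by
    have h1 : p ∣ r ^ p - 1 := dvd_trans (dvd_pow_self p (by omega)) D1
    have h2 : (r : ZMod p) ^ p = 1 := by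
      have := (ZMod.natCast_eq_zero_iff (r ^ p - 1) p).2 h1
      rw [Nat.cast_sub hrp1] at this
      push_cast at this
      exact sub_eq_zero.1 this
    rw [ZMod.pow_card] at h2
    have : ((r - 1 : ℕ) : ZMod p) = 0 := by
      rw [Nat.cast_sub (by omega)]
      push_cast
      rw [h2]; ring
    exact (ZMod.natCast_eq_zero_iff _ _).1 this
  have hpr' : ¬ p ∣ r := by
    intro h
    have := (Nat.dvd_sub_iff_right (by omega : 1 ≤ r) h).1 hpr
    exact hp.one_lt.ne' (Nat.dvd_one.1 this)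
  -- LTE
  have hLTE := padicValNat.pow_sub_pow hpodd hr2 (by simpa using hpr) hpr' hp.ne_zero (x := r) (y := 1)
  rw [one_pow, padicValNat_self] at hLTE
  have hne1 : r ^ p - 1 ≠ 0 := by
    have : 1 < r ^ p := Nat.one_lt_pow hp.ne_zero hr2
    omega
  have hne2 : r - 1 ≠ 0 := by omega
  have hv1 : m ≤ padicValNat p (r ^ p - 1) := (padicValNat_dvd_iff_le hne1).1 D1
  have hv2 : padicValNat p (r - 1) < m := by
    by_contra h
    push Not at h
    exact D2 ((padicValNat_dvd_iff_le hne2).2 h)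
  -- ρ
  set ρ := ∑ j ∈ range p, r ^ j with hρ
  have hgs : ρ * (r - 1) = r ^ p - 1 := geomSum_mul_pred r p (by omega)
  have hρ0 : ρ ≠ 0 := by
    intro h
    rw [h, zero_mul] at hgs
    exact hne1 hgs.symm
  have hvρ : padicValNat p ρ = 1 := by
    have := padicValNat.mul (p := p) hρ0 hne2
    rw [hgs] at this
    omega
  -- ρ = p * u
  have hpρ : p ∣ ρ := by
    have : p ^ 1 ∣ ρ := (padicValNat_dvd_iff_le hρ0).2 (by omega)
    simpa using this
  obtain ⟨u, hu⟩ := hpρ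
  have hpu : ¬ p ∣ u := by
    intro h
    obtain ⟨u', rfl⟩ := h
    have : p ^ 2 ∣ ρ := ⟨u', by rw [hu]; ring⟩
    have := (padicValNat_dvd_iff_le hρ0).1 this
    omega
  -- p ∣ s
  have hps : p ∣ s := by
    by_contra h
    apply D2
    have hcop : Nat.Coprime (p ^ m) s := Nat.Coprime.pow_left m ((Nat.Prime.coprime_iff_not_dvd hp).2 h)
    have h3 : p ^ m ∣ r * s - s := (Nat.modEq_iff_dvd' (by nlinarith)).1 H3.symm
    have h4 : r * s - s = (r - 1) * s := by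
      rw [Nat.sub_mul, one_mul]
    rw [h4] at h3
    exact hcop.dvd_of_dvd_mul_right h3
  obtain ⟨s', rfl⟩ := hps
  obtain ⟨i, hi⟩ := exists_solution_of_unit p m u s' hp hpu
  exact ⟨i, by rw [hu]; exact hi⟩

theorem odd_coprime_two_pow (k n : ℕ) (hk : k % 2 = 1) : Nat.Coprime k (2 ^ n) := by
  apply Nat.Coprime.pow_right
  rw [Nat.coprime_comm, Nat.Prime.coprime_iff_not_dvd Nat.prime_two]
  omega

theorem solution_two (m r s : ℕ) (hm : 1 ≤ m)
    (H1 : r ^ 2 ≡ 1 [MOD 2 ^ m]) (H2 : ¬ r ≡ 1 [MOD 2 ^ m]) (H3 : r * s ≡ s [MOD 2 ^ m]) :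
    (∃ i : ℕ, i * (1 + r) + s ≡ 0 [MOD 2 ^ m]) ∨
      (2 ≤ m ∧ r + 1 ≡ 0 [MOD 2 ^ m] ∧ s ≡ 2 ^ (m - 1) [MOD 2 ^ m]) := by
  obtain ⟨n, rfl⟩ : ∃ n, m = n + 1 := ⟨m - 1, by omega⟩
  -- r is odd
  have hrodd : r % 2 = 1 := by
    have h2 : (2 : ℕ) ∣ 2 ^ (n + 1) := dvd_pow_self 2 (by omega)
    have := (H1.of_dvd h2)
    have h3 : r ^ 2 % 2 = 1 := by simpa [Nat.ModEq] using this
    rcases Nat.mod_two_eq_zero_or_one r with h | h
    · exfalso
      have : r ^ 2 % 2 = 0 := by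
        rw [Nat.pow_mod, h]
      omega
    · exact h
  have hr1 : r ≠ 1 := by rintro rfl; exact H2 rfl
  have hr3 : 3 ≤ r := by omega
  have hrsq : 1 ≤ r ^ 2 := Nat.one_le_pow _ _ (by omega)
  have D1 : 2 ^ (n + 1) ∣ r ^ 2 - 1 := (Nat.modEq_iff_dvd' hrsq).1 H1.symm
  have D2 : ¬ 2 ^ (n + 1) ∣ r - 1 := fun h => H2 ((Nat.modEq_iff_dvd' (by omega)).2 h).symm
  have D3 : 2 ^ (n + 1) ∣ (r - 1) * s := by
    have h3 : 2 ^ (n + 1) ∣ r * s - s := (Nat.modEq_iff_dvd' (by nlinarith)).1 H3.symm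
    have h4 : r * s - s = (r - 1) * s := by rw [Nat.sub_mul, one_mul]
    rwa [h4] at h3
  have hfac : r ^ 2 - 1 = (r - 1) * (r + 1) := by
    have : (r - 1 + 1) ^ 2 - 1 = (r - 1) * (r - 1 + 1 + 1) := by
      generalize r - 1 = t
      have : (t + 1) ^ 2 = t * (t + 1 + 1) + 1 := by ring
      rw [this]; simp
    have h1 : r - 1 + 1 = r := by omega
    rwa [h1] at this
  rw [hfac] at D1
  have hm2 : 1 ≤ n := by
    by_contra h
    have : n = 0 := by omega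
    subst this
    apply D2
    simp only [zero_add, pow_one]
    omega
  rcases (by omega : r % 4 = 1 ∨ r % 4 = 3) with h4 | h4
  · -- r ≡ 1 mod 4 : r + 1 = 2 u, u odd
    left
    obtain ⟨u, hu⟩ : ∃ u, r + 1 = 2 * u := ⟨(r + 1) / 2, by omega⟩
    have huodd : u % 2 = 1 := by omega
    -- 2^n ∣ r - 1
    have h1 : 2 ^ n ∣ r - 1 := by
      rw [hu, pow_succ] at D1
      have : 2 ^ n * 2 ∣ ((r - 1) * u) * 2 := by
        have e : (r - 1) * (2 * u) = ((r - 1) * u) * 2 := by ring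
        rwa [e] at D1
      have h2 : 2 ^ n ∣ (r - 1) * u := Nat.dvd_of_mul_dvd_mul_right (by norm_num) this
      exact (odd_coprime_two_pow u n huodd).symm.dvd_of_dvd_mul_right h2
    obtain ⟨k, hk⟩ := h1
    have hkodd : k % 2 = 1 := by
      by_contra h
      apply D2
      obtain ⟨k', hk'⟩ : ∃ k', k = 2 * k' := ⟨k / 2, by omega⟩
      exact ⟨k', by rw [hk, hk', pow_succ]; ring⟩
    -- 2 ∣ s
    have hs : 2 ∣ s := by
      rw [hk, pow_succ] at D3
      have : 2 ^ n * 2 ∣ 2 ^ n * (k * s) := by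
        have e : 2 ^ n * k * s = 2 ^ n * (k * s) := by ring
        rwa [e] at D3
      have h2 : 2 ∣ k * s := Nat.dvd_of_mul_dvd_mul_left (by positivity) this
      rcases (Nat.Prime.dvd_mul Nat.prime_two).1 h2 with h | h
      · omega
      · exact h
    obtain ⟨s', rfl⟩ := hs
    obtain ⟨i, hi⟩ := exists_solution_of_unit 2 (n + 1) u s' Nat.prime_two (by omega)
    refine ⟨i, ?_⟩
    have e : 1 + r = 2 * u := by omega
    rw [e]; exact hi
  · -- r ≡ 3 mod 4 : r - 1 = 2 k, k odd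
    obtain ⟨k, hk⟩ : ∃ k, r - 1 = 2 * k := ⟨(r - 1) / 2, by omega⟩
    have hkodd : k % 2 = 1 := by omega
    have h1 : 2 ^ n ∣ r + 1 := by
      rw [hk, pow_succ] at D1
      have : 2 ^ n * 2 ∣ (k * (r + 1)) * 2 := by
        have e : 2 * k * (r + 1) = (k * (r + 1)) * 2 := by ring
        rwa [e] at D1
      have h2 : 2 ^ n ∣ k * (r + 1) := Nat.dvd_of_mul_dvd_mul_right (by norm_num) this
      exact (odd_coprime_two_pow k n hkodd).symm.dvd_of_dvd_mul_left h2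
    have h2 : 2 ^ n ∣ s := by
      rw [hk, pow_succ] at D3
      have : 2 ^ n * 2 ∣ (k * s) * 2 := by
        have e : 2 * k * s = (k * s) * 2 := by ring
        rwa [e] at D3
      have h2 : 2 ^ n ∣ k * s := Nat.dvd_of_mul_dvd_mul_right (by norm_num) this
      exact (odd_coprime_two_pow k n hkodd).symm.dvd_of_dvd_mul_left h2
    obtain ⟨u, hu⟩ := h1
    obtain ⟨s', hs'⟩ := h2
    rcases Nat.mod_two_eq_zero_or_one u with huev | huodd
    · -- 2^(n+1) ∣ r + 1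
      obtain ⟨u', hu'⟩ : ∃ u', u = 2 * u' := ⟨u / 2, by omega⟩
      have hr : 2 ^ (n + 1) ∣ r + 1 := ⟨u', by rw [hu, hu', pow_succ]; ring⟩
      rcases Nat.mod_two_eq_zero_or_one s' with hsev | hsodd
      · left
        obtain ⟨s'', hs''⟩ : ∃ s'', s' = 2 * s'' := ⟨s' / 2, by omega⟩
        refine ⟨0, ?_⟩
        rw [zero_mul, zero_add]
        exact (Nat.modEq_zero_iff_dvd).2 ⟨s'', by rw [hs', hs'', pow_succ]; ring⟩
      · right
        refine ⟨by omega, (Nat.modEq_zero_iff_dvd).2 hr, ?_⟩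
        obtain ⟨s'', hs''⟩ : ∃ s'', s' = 2 * s'' + 1 := ⟨s' / 2, by omega⟩
        have e : s = 2 ^ (n + 1) * s'' + 2 ^ n := by rw [hs', hs'', pow_succ]; ring
        rw [e, Nat.add_sub_cancel]
        have : 2 ^ (n + 1) * s'' + 2 ^ n ≡ 0 + 2 ^ n [MOD 2 ^ (n + 1)] :=
          Nat.ModEq.add_right _ ((Nat.modEq_zero_iff_dvd).2 (dvd_mul_right _ _))
        rwa [zero_add] at this
    · left
      refine ⟨s', ?_⟩
      obtain ⟨u', hu'⟩ : ∃ u', u + 1 = 2 * u' := ⟨(u + 1) / 2, by omega⟩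
      apply (Nat.modEq_zero_iff_dvd).2
      refine ⟨s' * u', ?_⟩
      have e : 1 + r = 2 ^ n * u := by omega
      rw [e, hs']
      have : s' * (2 ^ n * u) + 2 ^ n * s' = 2 ^ n * s' * (u + 1) := by ring
      rw [this, hu', pow_succ]; ring

end Cfsg.Agent.Helper73
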