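import Mathlib
import Cfsg.Agent.Helper63.PGroup
import Cfsg.Agent.Helper73.NumTheory

/-!
# Finite `p`-groups with a unique subgroup of order `p`

Main results (namespace `Cfsg.Agent.Helper73`):
* `mul_pow_of_conj` : `(a ^ i * x) ^ k = a ^ (i * ∑ j < k, r ^ j) * x ^ k` when `x * a * x⁻¹ = a ^ r`;
* `centralizer_le_of_maximal_normal_abelian` : a maximal normal abelian subgroup of a finite `p`-group
  is self-centralizing;
* `isCyclic_of_comm_of_uniqueOrderP` : a finite abelian `p`-group with a unique subgroup of order `p` is cyclic;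
* `cyclic_or_quaternion_structure` / `cyclic_or_quaternion` : a finite `p`-group with a unique subgroup of
  order `p` is cyclic or generalized quaternion.
-/

set_option autoImplicit false

namespace Cfsg.Agent.Helper73

open Subgroup Finset

section Metacyclic

variable {G : Type*} [Group G]

theorem conj_pow_of_conj {a x : G} {r : ℕ} (h : x * a * x⁻¹ = a ^ r) (i : ℕ) :
    x * a ^ i * x⁻¹ = a ^ (r * i) := by
  rw [← conj_pow, h, ← pow_mul]

theorem pow_conj_of_conj {a x : G} {r : ℕ} (h : x * a * x⁻¹ = a ^ r) (k i : ℕ) :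
    x ^ k * a ^ i * (x ^ k)⁻¹ = a ^ (r ^ k * i) := by
  induction k generalizing i with
  | zero => simp
  | succ k ih =>
    have : x ^ (k + 1) * a ^ i * (x ^ (k + 1))⁻¹ = x ^ k * (x * a ^ i * x⁻¹) * (x ^ k)⁻¹ := by
      rw [pow_succ]; group
    rw [this, conj_pow_of_conj h, ih]
    congr 1
    ring

theorem mul_pow_of_conj {a x : G} {r : ℕ} (h : x * a * x⁻¹ = a ^ r) (i k : ℕ) :
    (a ^ i * x) ^ k = a ^ (i * ∑ j ∈ range k, r ^ j) * x ^ k := by
  induction k with
  | zero => simp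
  | succ k ih =>
    rw [pow_succ, ih, sum_range_succ, mul_add, pow_add]
    have h1 := pow_conj_of_conj h k i
    have h2 : x ^ k * a ^ i = a ^ (r ^ k * i) * x ^ k := by
      rw [← h1]; group
    calc a ^ (i * ∑ j ∈ range k, r ^ j) * x ^ k * (a ^ i * x)
        = a ^ (i * ∑ j ∈ range k, r ^ j) * (x ^ k * a ^ i) * x := by group
      _ = a ^ (i * ∑ j ∈ range k, r ^ j) * (a ^ (r ^ k * i) * x ^ k) * x := by rw [h2]
      _ = a ^ (i * ∑ j ∈ range k, r ^ j) * a ^ (i * r ^ k) * x ^ (k + 1) := by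
          rw [mul_comm (r ^ k) i, pow_succ]; group

end Metacyclic

/-- every element of order `p` lies in the subgroup generated by any other one. -/
def UniqueOrderP (p : ℕ) (G : Type*) [Group G] : Prop :=
  ∀ x y : G, orderOf x = p → orderOf y = p → y ∈ zpowers x

theorem uniqueOrderP_of_subgroups {G : Type*} [Group G] (p : ℕ)
    (huniq : ∀ H K : Subgroup G, Nat.card H = p → Nat.card K = p → H = K) : UniqueOrderP p G := by
  intro x y hx hy
  have h := huniq (zpowers x) (zpowers y) (by rw [Nat.card_zpowers, hx]) (by rw [Nat.card_zpowers, hy])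
  rw [h]; exact mem_zpowers y

theorem UniqueOrderP.subgroup {G : Type*} [Group G] {p : ℕ} (h : UniqueOrderP p G) (H : Subgroup G) :
    UniqueOrderP p H := by
  intro x y hx hy
  have hx' : orderOf (x : G) = p := by rw [Subgroup.orderOf_coe]; exact hx
  have hy' : orderOf (y : G) = p := by rw [Subgroup.orderOf_coe]; exact hy
  obtain ⟨k, hk⟩ := mem_zpowers_iff.1 (h x y hx' hy')
  exact mem_zpowers_iff.2 ⟨k, Subtype.ext (by simpa using hk)⟩

section MaxNormalAbelian

variable {P : Type*} [Group P] [Finite P]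

theorem exists_maximal_normal_abelian :
    ∃ A : Subgroup P, A.Normal ∧ IsMulCommutative A ∧
      ∀ B : Subgroup P, B.Normal → IsMulCommutative B → A ≤ B → B ≤ A := by
  obtain ⟨A, -, hA⟩ := Finite.exists_le_maximal (p := fun A : Subgroup P => A.Normal ∧ IsMulCommutative A)
    (a := ⊥) ⟨inferInstance, inferInstance⟩
  exact ⟨A, hA.prop.1, hA.prop.2, fun B hBn hBc hAB => hA.le_of_ge ⟨hBn, hBc⟩ hAB⟩

theorem centralizer_le_of_maximal_normal_abelian {p : ℕ} [Fact p.Prime] (hP : IsPGroup p P)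
    (A : Subgroup P) [hAn : A.Normal] (hAc : IsMulCommutative A)
    (hmax : ∀ B : Subgroup P, B.Normal → IsMulCommutative B → A ≤ B → B ≤ A) :
    centralizer (A : Set P) ≤ A := by
  by_contra hle
  -- the image of the centralizer in P ⧸ A is a nontrivial normal subgroup
  let C : Subgroup P := centralizer (A : Set P)
  have hCn : C.Normal := inferInstance
  let Cbar : Subgroup (P ⧸ A) := C.map (QuotientGroup.mk' A)
  have hCbarn : Cbar.Normal := Subgroup.Normal.map hCn _ (QuotientGroup.mk'_surjective A)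
  have hCbar : Cbar ≠ ⊥ := by
    intro h
    apply hle
    intro c hc
    have : (QuotientGroup.mk' A) c ∈ Cbar := mem_map_of_mem _ hc
    rw [h, mem_bot] at this
    exact (QuotientGroup.eq_one_iff c).1 this
  have hQ : IsPGroup p (P ⧸ A) := hP.to_quotient A
  have hne := Cfsg.Agent.Helper63.normal_inf_center_ne_bot hQ Cbar hCbar
  obtain ⟨⟨xbar, hxbar⟩, hxbar1⟩ := (Subgroup.ne_bot_iff_exists_ne_one).1 hne
  have hxbar1' : xbar ≠ 1 := fun h => hxbar1 (Subtype.ext h)
  obtain ⟨x, hxC, rfl⟩ := mem_map.1 hxbar.1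
  have hxc : (QuotientGroup.mk' A) x ∈ center (P ⧸ A) := hxbar.2
  have hxA : x ∉ A := fun h => hxbar1' ((QuotientGroup.eq_one_iff x).2 h)
  -- B := preimage of ⟨x̄⟩
  let B : Subgroup P := (zpowers ((QuotientGroup.mk' A) x)).comap (QuotientGroup.mk' A)
  have hZn : (zpowers ((QuotientGroup.mk' A) x)).Normal := by
    constructor
    intro n hn g
    have hnc : n ∈ center (P ⧸ A) := (zpowers_le.2 hxc) hn
    have : g * n * g⁻¹ = n := by
      rw [mem_center_iff.1 hnc g]; group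
    rw [this]; exact hn
  have hBn : B.Normal := Subgroup.Normal.comap hZn _
  have hAB : A ≤ B := by
    intro y hy
    show (QuotientGroup.mk' A) y ∈ zpowers ((QuotientGroup.mk' A) x)
    have : (QuotientGroup.mk' A) y = 1 := (QuotientGroup.eq_one_iff y).2 hy
    rw [this]; exact one_mem _
  have hxB : x ∈ B := mem_zpowers _
  -- elements of B have the form x ^ k * y with y ∈ A
  have hform : ∀ b ∈ B, ∃ k : ℤ, ∃ y ∈ A, b = x ^ k * y := by
    intro b hb
    obtain ⟨k, hk⟩ := mem_zpowers_iff.1 (show (QuotientGroup.mk' A) b ∈ zpowers ((QuotientGroup.mk' A) x) from hb)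
    refine ⟨k, (x ^ k)⁻¹ * b, ?_, by group⟩
    rw [← QuotientGroup.eq_one_iff]
    have : (QuotientGroup.mk ((x ^ k)⁻¹ * b) : P ⧸ A) =
        ((QuotientGroup.mk' A) x ^ k)⁻¹ * (QuotientGroup.mk' A) b := by simp
    rw [this, hk]; group
  have hBc : IsMulCommutative B := by
    refine ⟨⟨fun b₁ b₂ => Subtype.ext ?_⟩⟩
    obtain ⟨k₁, y₁, hy₁, e₁⟩ := hform b₁ b₁.2
    obtain ⟨k₂, y₂, hy₂, e₂⟩ := hform b₂ b₂.2
    have hxy : ∀ y ∈ A, ∀ k : ℤ, y * x ^ k = x ^ k * y := by
      intro y hy k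
      have : x ^ k ∈ centralizer (A : Set P) := zpow_mem hxC k
      exact (mem_centralizer_iff.1 this) y hy
    have hyy : y₁ * y₂ = y₂ * y₁ := by
      have := hAc.is_comm.comm ⟨y₁, hy₁⟩ ⟨y₂, hy₂⟩
      exact congrArg Subtype.val this
    show (b₁ : P) * b₂ = b₂ * b₁
    rw [e₁, e₂]
    calc x ^ k₁ * y₁ * (x ^ k₂ * y₂) = x ^ k₁ * (y₁ * x ^ k₂) * y₂ := by group
      _ = x ^ k₁ * (x ^ k₂ * y₁) * y₂ := by rw [hxy y₁ hy₁ k₂]
      _ = x ^ k₂ * x ^ k₁ * (y₁ * y₂) := by
          rw [← mul_assoc, ← zpow_add, add_comm, zpow_add]; group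
      _ = x ^ k₂ * x ^ k₁ * (y₂ * y₁) := by rw [hyy]
      _ = x ^ k₂ * (x ^ k₁ * y₂) * y₁ := by group
      _ = x ^ k₂ * (y₂ * x ^ k₁) * y₁ := by rw [hxy y₂ hy₂ k₁]
      _ = x ^ k₂ * y₂ * (x ^ k₁ * y₁) := by group
  exact hxA (hmax B hBn hBc hAB hxB)

end MaxNormalAbelian

section CyclicCriterion

variable {G : Type*} [Group G]

/-- an element of a group of finite order: membership in `zpowers` gives a natural exponent. -/
theorem exists_pow_eq_of_mem_zpowers {a b : G} (ha : 0 < orderOf a) (hb : b ∈ zpowers a) :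
    ∃ j : ℕ, b = a ^ j := by
  have hfin : IsOfFinOrder a := orderOf_pos_iff.1 ha
  obtain ⟨j, hj⟩ := (Submonoid.mem_powers_iff _ _).1 (hfin.mem_powers_iff_mem_zpowers.2 hb)
  exact ⟨j, hj.symm⟩

/-- `a ^ (p ^ (m-1))` has order `p` when `a` has order `p ^ m`, `m ≥ 1`. -/
theorem orderOf_pow_pred {p : ℕ} [hp : Fact p.Prime] {a : G} {m : ℕ} (ha : orderOf a = p ^ m)
    (hm : 1 ≤ m) : orderOf (a ^ (p ^ (m - 1))) = p := by
  apply orderOf_eq_prime
  · rw [← pow_mul, ← pow_succ, Nat.sub_add_cancel hm, ← ha, pow_orderOf_eq_one]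
  · intro h
    have hdvd : orderOf a ∣ p ^ (m - 1) := orderOf_dvd_iff_pow_eq_one.2 h
    rw [ha] at hdvd
    have := (Nat.pow_dvd_pow_iff_le_right hp.out.one_lt).1 hdvd
    omega

/-- no element of order `p` lies outside `⟨a⟩` (when `a ≠ 1` has `p`-power order and the subgroup
of order `p` is unique). -/
theorem mem_zpowers_of_pow_eq_one {p : ℕ} [hp : Fact p.Prime] (hu : UniqueOrderP p G) {a y : G} {m : ℕ}
    (ha : orderOf a = p ^ m) (hm : 1 ≤ m) (hyp : y ^ p = 1) : y ∈ zpowers a := by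
  by_cases hy1 : y = 1
  · rw [hy1]; exact one_mem _
  have hy : orderOf y = p := orderOf_eq_prime hyp hy1
  have h := hu (a ^ (p ^ (m - 1))) y (orderOf_pow_pred ha hm) hy
  exact (zpowers_le.2 (pow_mem (mem_zpowers a) _)) h

/-- Key step: if `a` has order `p ^ m`, `b` commutes with `a`, `b ^ p ∈ ⟨a⟩`, `b ^ (p ^ m) = 1`,
then `b ∈ ⟨a⟩`, provided the subgroup of order `p` is unique. -/
theorem mem_zpowers_of_commute {p : ℕ} [hp : Fact p.Prime] (hu : UniqueOrderP p G) {a b : G} {m : ℕ}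
    (ha : orderOf a = p ^ m) (hab : Commute a b) (hbp : b ^ p ∈ zpowers a) (hb : b ^ (p ^ m) = 1) :
    b ∈ zpowers a := by
  have hppos : 0 < p := hp.out.pos
  -- m ≥ 1
  by_cases hm : m = 0
  · subst hm
    rw [pow_zero, pow_one] at hb
    rw [hb]; exact one_mem _
  have hm1 : 1 ≤ m := by omega
  have hapos : 0 < orderOf a := by rw [ha]; positivity
  obtain ⟨j, hj⟩ := exists_pow_eq_of_mem_zpowers hapos hbp
  -- p ∣ j
  have hpj : p ∣ j := by
    have h1 : a ^ (j * p ^ (m - 1)) = 1 := by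
      rw [pow_mul, ← hj, ← pow_mul, ← pow_succ', Nat.sub_add_cancel hm1, hb]
    have h2 : p ^ m ∣ j * p ^ (m - 1) := by
      rw [← ha]; exact orderOf_dvd_iff_pow_eq_one.2 h1
    have h3 : p ^ m = p * p ^ (m - 1) := by
      rw [← pow_succ', Nat.sub_add_cancel hm1]
    rw [h3] at h2
    exact (Nat.mul_dvd_mul_iff_right (by positivity)).1 h2
  obtain ⟨j', rfl⟩ := hpj
  -- c = b * (a ^ j')⁻¹ has c ^ p = 1
  have hcomm : Commute b (a ^ j')⁻¹ := (hab.symm.pow_right j').inv_right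
  have hc : (b * (a ^ j')⁻¹) ^ p = 1 := by
    rw [hcomm.mul_pow, hj, inv_pow, ← pow_mul, mul_comm j' p, mul_inv_cancel]
  have hcm := mem_zpowers_of_pow_eq_one hu ha hm1 hc
  have : b = (b * (a ^ j')⁻¹) * a ^ j' := by group
  rw [this]
  exact mul_mem hcm (pow_mem (mem_zpowers a) _)

/-- in a `p`-group, an element outside a subgroup `K` has a `p`-power power outside `K` whose
`p`-th power is in `K`. -/
theorem exists_pow_mem {p : ℕ} (hG : IsPGroup p G) (K : Subgroup G) {x : G} (hx : x ∉ K) :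
    ∃ k : ℕ, x ^ (p ^ k) ∉ K ∧ (x ^ (p ^ k)) ^ p ∈ K := by
  classical
  obtain ⟨n, hn⟩ := hG x
  have hex : ∃ k : ℕ, x ^ (p ^ k) ∈ K := ⟨n, by rw [hn]; exact one_mem _⟩
  have hfind := Nat.find_spec hex
  have hne : Nat.find hex ≠ 0 := by
    intro h0
    rw [h0, pow_zero, pow_one] at hfind
    exact hx hfind
  refine ⟨Nat.find hex - 1, Nat.find_min hex (by omega), ?_⟩
  rw [← pow_mul, ← pow_succ, Nat.sub_add_cancel (by omega)]
  exact hfind

/-- a finite abelian `p`-group with a unique subgroup of order `p` is cyclic. -/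
theorem isCyclic_of_comm_of_uniqueOrderP {p : ℕ} [hp : Fact p.Prime] [Finite G] (hG : IsPGroup p G)
    (hc : ∀ a b : G, a * b = b * a) (hu : UniqueOrderP p G) : IsCyclic G := by
  obtain ⟨a, hamax⟩ := Finite.exists_max (fun g : G => orderOf g)
  obtain ⟨m, hm⟩ := (IsPGroup.iff_orderOf.1 hG) a
  rw [isCyclic_iff_exists_zpowers_eq_top]
  refine ⟨a, eq_top_iff.2 fun b _ => ?_⟩
  by_contra hb
  obtain ⟨k, hk1, hk2⟩ := exists_pow_mem hG (zpowers a) hb
  apply hk1
  apply mem_zpowers_of_commute hu hm (hc _ _) hk2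
  obtain ⟨l, hl⟩ := (IsPGroup.iff_orderOf.1 hG) (b ^ p ^ k)
  have hle : p ^ l ≤ p ^ m := by rw [← hl, ← hm]; exact hamax _
  have hlm : l ≤ m := (Nat.pow_le_pow_iff_right hp.out.one_lt).1 hle
  apply orderOf_dvd_iff_pow_eq_one.1
  rw [hl]; exact pow_dvd_pow p hlm

end CyclicCriterion

section Structure

variable {P : Type*} [Group P]

/-- Key step of the structure theorem: let `⟨a⟩` be a self-centralizing cyclic subgroup of order `p ^ m`
normalized by `x ∉ ⟨a⟩` with `x ^ p ∈ ⟨a⟩`. If the subgroup of order `p` is unique then `p = 2`,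
`x` inverts `a` and `x ^ 2 = a ^ (2 ^ (m - 1))`. -/
theorem key_step {p : ℕ} [hp : Fact p.Prime] (hu : UniqueOrderP p P) {a x : P} {m : ℕ}
    (ha : orderOf a = p ^ m) (hn : x * a * x⁻¹ ∈ zpowers a)
    (hcent : ∀ y : P, y * a = a * y → y ∈ zpowers a)
    (hx : x ∉ zpowers a) (hxp : x ^ p ∈ zpowers a) :
    p = 2 ∧ 2 ≤ m ∧ x * a * x⁻¹ = a⁻¹ ∧ x ^ 2 = a ^ (2 ^ (m - 1)) := by
  have hapos : 0 < orderOf a := by rw [ha]; exact pow_pos hp.out.pos m
  -- m ≥ 1
  have hm : 1 ≤ m := by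
    by_contra hm
    have hm0 : m = 0 := by omega
    rw [hm0, pow_zero, orderOf_eq_one_iff] at ha
    apply hx
    apply hcent
    rw [ha, mul_one, one_mul]
  obtain ⟨r, hr⟩ := exists_pow_eq_of_mem_zpowers hapos hn
  obtain ⟨s, hs⟩ := exists_pow_eq_of_mem_zpowers hapos hxp
  -- H1
  have H1 : r ^ p ≡ 1 [MOD p ^ m] := by
    rw [← ha, ← pow_eq_pow_iff_modEq]
    have h1 := pow_conj_of_conj hr p 1
    rw [mul_one, pow_one, hs] at h1
    rw [← h1, pow_one]
    have : Commute (a ^ s) a := (Commute.refl a).pow_left s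
    rw [this.eq]; group
  -- H2
  have H2 : ¬ r ≡ 1 [MOD p ^ m] := by
    intro h
    rw [← ha, ← pow_eq_pow_iff_modEq, pow_one] at h
    apply hx
    apply hcent
    rw [h] at hr
    calc x * a = x * a * x⁻¹ * x := by group
      _ = a * x := by rw [hr]
  -- H3
  have H3 : r * s ≡ s [MOD p ^ m] := by
    rw [← ha, ← pow_eq_pow_iff_modEq]
    rw [← conj_pow_of_conj hr s, ← hs]
    group
  -- an element `a ^ i * x` of order `p` is impossible
  have hno : ∀ i : ℕ, ¬ (i * (∑ j ∈ range p, r ^ j) + s ≡ 0 [MOD p ^ m]) := by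
    intro i hi
    have hy : (a ^ i * x) ^ p = 1 := by
      rw [mul_pow_of_conj hr, hs, ← pow_add]
      apply orderOf_dvd_iff_pow_eq_one.1
      rw [ha]
      exact (Nat.modEq_zero_iff_dvd).1 hi
    have hmem := mem_zpowers_of_pow_eq_one hu ha hm hy
    apply hx
    have : x = (a ^ i)⁻¹ * (a ^ i * x) := by group
    rw [this]
    exact mul_mem (inv_mem (pow_mem (mem_zpowers a) _)) hmem
  by_cases hp2 : p = 2
  · subst hp2
    rcases solution_two m r s hm H1 H2 H3 with ⟨i, hi⟩ | ⟨hm2, hr1, hs1⟩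
    · exfalso
      apply hno i
      have : ∑ j ∈ range 2, r ^ j = 1 + r := by
        simp [sum_range_succ]
      rw [this]; exact hi
    · refine ⟨rfl, hm2, ?_, ?_⟩
      · rw [hr]
        apply eq_inv_of_mul_eq_one_left
        rw [← pow_succ]
        apply orderOf_dvd_iff_pow_eq_one.1
        rw [ha]
        exact (Nat.modEq_zero_iff_dvd).1 hr1
      · rw [hs, pow_eq_pow_iff_modEq, ha]
        exact hs1
  · exfalso
    obtain ⟨i, hi⟩ := solution_odd p m r s hp.out hp2 hm H1 H2 H3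
    exact hno i hi

/-- Structure theorem: a finite `p`-group with a unique subgroup of order `p` is cyclic, or `p = 2` and
it has a cyclic subgroup `⟨a⟩` of index 2 and order `2 ^ m ≥ 4`, and `x ∉ ⟨a⟩` inverting `a` with
`x ^ 2 = a ^ (2 ^ (m - 1))`. -/
theorem cyclic_or_quaternion_structure [Finite P] {p : ℕ} [hp : Fact p.Prime]
    (hP : IsPGroup p P) (hu : UniqueOrderP p P) :
    IsCyclic P ∨ (p = 2 ∧ ∃ (m : ℕ) (a x : P), 2 ≤ m ∧ orderOf a = 2 ^ m ∧ x ∉ zpowers a ∧
       x * a * x⁻¹ = a⁻¹ ∧ x ^ 2 = a ^ (2 ^ (m - 1)) ∧ (zpowers a).index = 2) := by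
  obtain ⟨A, hAn, hAc, hmax⟩ := exists_maximal_normal_abelian (P := P)
  have hCA := centralizer_le_of_maximal_normal_abelian hP A hAc hmax
  have hAcyc : IsCyclic A := by
    apply isCyclic_of_comm_of_uniqueOrderP (hP.to_subgroup A) _ (hu.subgroup A)
    intro a b
    exact hAc.is_comm.comm a b
  obtain ⟨⟨a, haA⟩, hgen⟩ := hAcyc.exists_generator
  have hAeq : A = zpowers a := by
    apply le_antisymm
    · intro y hy
      obtain ⟨k, hk⟩ := mem_zpowers_iff.1 (hgen ⟨y, hy⟩)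
      refine mem_zpowers_iff.2 ⟨k, ?_⟩
      have := congrArg Subtype.val hk
      simpa using this
    · exact zpowers_le.2 haA
  subst hAeq
  by_cases htop : zpowers a = ⊤
  · left
    exact isCyclic_iff_exists_zpowers_eq_top.2 ⟨a, htop⟩
  right
  obtain ⟨m, ha⟩ := (IsPGroup.iff_orderOf.1 hP) a
  have hapos : 0 < orderOf a := by rw [ha]; exact pow_pos hp.out.pos m
  -- normality and self-centralizing in elementwise form
  have hnorm : ∀ y : P, y * a * y⁻¹ ∈ zpowers a := fun y => hAn.conj_mem a (mem_zpowers a) y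
  have hcent : ∀ y : P, y * a = a * y → y ∈ zpowers a := by
    intro y hy
    apply hCA
    rw [mem_centralizer_iff]
    intro z hz
    obtain ⟨k, rfl⟩ := mem_zpowers_iff.1 hz
    have : Commute y a := hy
    exact (this.zpow_right k).eq.symm
  obtain ⟨x0, hx0⟩ : ∃ x0 : P, x0 ∉ zpowers a := by
    by_contra h
    push Not at h
    exact htop (eq_top_iff.2 fun y _ => h y)
  obtain ⟨k, hk1, hk2⟩ := exists_pow_mem hP (zpowers a) hx0
  obtain ⟨hp2, hm2, hxa, hx2⟩ := key_step hu ha (hnorm _) hcent hk1 hk2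
  subst hp2
  -- every square lies in ⟨a⟩
  have hsq : ∀ y : P, y ^ 2 ∈ zpowers a := by
    intro y
    by_contra hy
    obtain ⟨l, hl1, hl2⟩ := exists_pow_mem hP (zpowers a) hy
    obtain ⟨-, -, hza, -⟩ := key_step hu ha (hnorm _) hcent hl1 hl2
    obtain ⟨t, ht⟩ := exists_pow_eq_of_mem_zpowers hapos (hnorm (y ^ 2 ^ l))
    have h1 := pow_conj_of_conj ht 2 1
    rw [mul_one, pow_one] at h1
    have h2 : (y ^ 2 ^ l) ^ 2 = (y ^ 2) ^ 2 ^ l := by
      rw [← pow_mul, ← pow_mul, mul_comm]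
    rw [h2, hza] at h1
    have h3 : a ^ (t ^ 2 + 1) = 1 := by
      rw [pow_succ, ← h1]; group
    have h4 : 2 ^ m ∣ t ^ 2 + 1 := by
      rw [← ha]; exact orderOf_dvd_iff_pow_eq_one.2 h3
    have h5 : 4 ∣ t ^ 2 + 1 := by
      refine dvd_trans ?_ h4
      exact (show (4 : ℕ) = 2 ^ 2 by norm_num) ▸ pow_dvd_pow 2 hm2
    have h6 : (t ^ 2 + 1) % 4 = 0 := Nat.mod_eq_zero_of_dvd h5
    have h7 : t % 4 = 0 ∨ t % 4 = 1 ∨ t % 4 = 2 ∨ t % 4 = 3 := by omega
    rcases h7 with h | h | h | h <;>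
      · rw [Nat.add_mod, Nat.pow_mod, h] at h6
        norm_num at h6
  -- every element outside ⟨a⟩ inverts a
  have hinvert : ∀ y : P, y ∉ zpowers a → y * a * y⁻¹ = a⁻¹ := by
    intro y hy
    exact (key_step hu ha (hnorm _) hcent hy (hsq y)).2.2.1
  refine ⟨rfl, m, a, _, hm2, ha, hk1, hxa, hx2, ?_⟩
  rw [index_eq_two_iff]
  refine ⟨x0 ^ 2 ^ k, fun b => ?_⟩
  by_cases hb : b ∈ zpowers a
  · refine Or.inr ⟨hb, fun h => hk1 ?_⟩
    have : x0 ^ 2 ^ k = b⁻¹ * (b * x0 ^ 2 ^ k) := by group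
    rw [this]; exact mul_mem (inv_mem hb) h
  · refine Or.inl ⟨?_, hb⟩
    apply hcent
    have h1 := hinvert b hb
    calc b * x0 ^ 2 ^ k * a = b * (x0 ^ 2 ^ k * a * (x0 ^ 2 ^ k)⁻¹) * x0 ^ 2 ^ k := by group
      _ = b * a⁻¹ * x0 ^ 2 ^ k := by rw [hxa]
      _ = (b * a * b⁻¹)⁻¹ * b * x0 ^ 2 ^ k := by group
      _ = a * (b * x0 ^ 2 ^ k) := by rw [h1]; group

end Structure

section Quaternion

variable {G : Type*} [Group G]

theorem pow_val_add {a : G} {N : ℕ} [NeZero N] (ha : orderOf a = N) (i j : ZMod N) :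
    a ^ (i + j).val = a ^ i.val * a ^ j.val := by
  have h := pow_mod_orderOf a (i.val + j.val)
  rw [ha] at h
  rw [ZMod.val_add, h, pow_add]

theorem pow_val_neg {a : G} {N : ℕ} [NeZero N] (ha : orderOf a = N) (i : ZMod N) :
    a ^ (-i).val = (a ^ i.val)⁻¹ := by
  apply eq_inv_of_mul_eq_one_left
  rw [← pow_val_add ha, neg_add_cancel, ZMod.val_zero, pow_zero]

theorem pow_val_natCast {a : G} {N : ℕ} [NeZero N] (ha : orderOf a = N) (k : ℕ) :
    a ^ (k : ZMod N).val = a ^ k := by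
  have h := pow_mod_orderOf a k
  rw [ha] at h
  rw [ZMod.val_natCast, h]

/-- Recognition of the (generalized) quaternion group `QuaternionGroup n` (of order `4 n`):
a group with an element `a` of order `2 n` generating a subgroup of index 2 and `x ∉ ⟨a⟩` inverting `a`
with `x ^ 2 = a ^ n`. -/
theorem nonempty_mulEquiv_quaternionGroup [Finite G] {n : ℕ} [NeZero n] {a x : G}
    (ha : orderOf a = 2 * n) (hx : x ∉ zpowers a) (hconj : x * a * x⁻¹ = a⁻¹) (hx2 : x ^ 2 = a ^ n)
    (hidx : (zpowers a).index = 2) : Nonempty (G ≃* QuaternionGroup n) := by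
  classical
  have hn0 : 0 < n := NeZero.pos n
  have : NeZero (2 * n) := ⟨by omega⟩
  let φ : ZMod (2 * n) → G := fun i => a ^ i.val
  have hφadd : ∀ i j, φ (i + j) = φ i * φ j := pow_val_add ha
  have hφneg : ∀ i, φ (-i) = (φ i)⁻¹ := pow_val_neg ha
  have hφn : φ (n : ZMod (2 * n)) = a ^ n := pow_val_natCast ha n
  have hφcomm : ∀ i j, φ i * φ j = φ j * φ i := by
    intro i j
    rw [← hφadd, ← hφadd, add_comm]
  -- inversion on all of ⟨a⟩
  have hinv : ∀ i, φ i * x = x * (φ i)⁻¹ := by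
    intro i
    have h : x * a ^ i.val * x⁻¹ = (a ^ i.val)⁻¹ := by
      rw [← conj_pow, hconj, inv_pow]
    show a ^ i.val * x = x * (a ^ i.val)⁻¹
    calc a ^ i.val * x = (x * a ^ i.val * x⁻¹)⁻¹ * x := by rw [h, inv_inv]
      _ = x * (a ^ i.val)⁻¹ := by group
  let f : QuaternionGroup n → G := fun u =>
    match u with
    | .a i => φ i
    | .xa i => x * φ i
  have hfa : ∀ i, f (.a i) = φ i := fun i => rfl
  have hfxa : ∀ i, f (.xa i) = x * φ i := fun i => rfl
  have hmul : ∀ u v, f (u * v) = f u * f v := by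
    rintro (i | i) (j | j)
    · rw [QuaternionGroup.a_mul_a, hfa, hfa, hfa, hφadd]
    · have hc : φ j * (φ i)⁻¹ = (φ i)⁻¹ * φ j := by
        have := hφcomm j (-i)
        rw [hφneg] at this
        exact this
      rw [QuaternionGroup.a_mul_xa, hfa, hfxa, hfxa, sub_eq_add_neg, hφadd, hφneg, ← mul_assoc (φ i),
        hinv, mul_assoc, hc]
    · rw [QuaternionGroup.xa_mul_a, hfxa, hfxa, hfa, hφadd, mul_assoc]
    · have hc : φ j * (φ i)⁻¹ = (φ i)⁻¹ * φ j := by
        have := hφcomm j (-i)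
        rw [hφneg] at this
        exact this
      rw [QuaternionGroup.xa_mul_xa, hfa, hfxa, hfxa, sub_eq_add_neg, hφadd, hφadd, hφneg, hφn, ← hx2]
      calc x ^ 2 * φ j * (φ i)⁻¹ = x * (x * (φ i)⁻¹) * φ j := by
            rw [sq]
            simp only [mul_assoc]
            rw [hc]
        _ = x * (φ i * x) * φ j := by rw [hinv]
        _ = x * φ i * (x * φ j) := by simp only [mul_assoc]
  have hsurj : Function.Surjective f := by
    intro g
    by_cases hg : g ∈ zpowers a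
    · obtain ⟨k, hk⟩ := exists_pow_eq_of_mem_zpowers (by rw [ha]; omega) hg
      refine ⟨.a (k : ZMod (2 * n)), ?_⟩
      rw [hfa, hk]
      exact pow_val_natCast ha k
    · have hmem : x⁻¹ * g ∈ zpowers a := by
        rw [mul_mem_iff_of_index_two hidx, inv_mem_iff]
        exact ⟨fun h => (hx h).elim, fun h => (hg h).elim⟩
      obtain ⟨k, hk⟩ := exists_pow_eq_of_mem_zpowers (by rw [ha]; omega) hmem
      refine ⟨.xa (k : ZMod (2 * n)), ?_⟩
      rw [hfxa]
      show x * a ^ (k : ZMod (2 * n)).val = g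
      rw [pow_val_natCast ha k, ← hk]
      group
  have hcardG : Nat.card G = 4 * n := by
    rw [← (zpowers a).card_mul_index, hidx, Nat.card_zpowers, ha]
    ring
  have hcardQ : Nat.card (QuaternionGroup n) = 4 * n := by
    rw [Nat.card_eq_fintype_card, QuaternionGroup.card]
  have hbij : Function.Bijective f :=
    hsurj.bijective_of_nat_card_le (by rw [hcardG, hcardQ])
  exact ⟨(MulEquiv.ofBijective (MonoidHom.mk' f hmul) hbij).symm⟩

/-- a finite `p`-group with a unique subgroup of order `p` is cyclic or generalized quaternion. -/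
theorem cyclic_or_quaternion {P : Type*} [Group P] [Finite P] {p : ℕ} [hp : Fact p.Prime]
    (hP : IsPGroup p P) (hu : UniqueOrderP p P) :
    IsCyclic P ∨ (p = 2 ∧ ∃ n : ℕ, 1 ≤ n ∧ Nonempty (P ≃* QuaternionGroup (2 ^ n))) := by
  rcases cyclic_or_quaternion_structure hP hu with h | ⟨hp2, m, a, x, hm, ha, hx, hconj, hx2, hidx⟩
  · exact Or.inl h
  · refine Or.inr ⟨hp2, m - 1, by omega, ?_⟩
    have ha' : orderOf a = 2 * 2 ^ (m - 1) := by
      rw [ha, ← pow_succ', Nat.sub_add_cancel (by omega)]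
    exact nonempty_mulEquiv_quaternionGroup ha' hx hconj hx2 hidx

end Quaternion

end Cfsg.Agent.Helper73
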