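import Mathlib
import Cfsg.Agent.Helper73.PGroupCyclic
import Cfsg.Agent.S0646
import Cfsg.Agent.S4370

/-!
# 2-groups whose normal abelian subgroups are all cyclic

Tools (namespace `Cfsg.Agent.Helper73`):
* `sqrt_one_cases` : square roots of `1` modulo `2 ^ m` (in `Nat.ModEq` form);
* `commutator_mem_of_cyclic_normal` : if `⟨a⟩` is normal and self-centralizing then all commutators lie in `⟨a⟩`;
* `exists_normal_four` : a normal non-cyclic abelian subgroup from two suitable involutions;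
* `conj_data_two` : the data `r, s` of an element `x ∉ ⟨a⟩` with `x ^ 2 ∈ ⟨a⟩`.
-/

set_option autoImplicit false

namespace Cfsg.Agent.Helper73

open Subgroup Finset

/-- square roots of `1` modulo `2 ^ m` other than `1`. -/
theorem sqrt_one_cases (m r : ℕ) (H1 : r ^ 2 ≡ 1 [MOD 2 ^ m]) (H2 : ¬ r ≡ 1 [MOD 2 ^ m]) :
    2 ≤ m ∧ (r + 1 ≡ 0 [MOD 2 ^ m] ∨ (3 ≤ m ∧ r + 1 ≡ 2 ^ (m - 1) [MOD 2 ^ m]) ∨
      (3 ≤ m ∧ r ≡ 1 + 2 ^ (m - 1) [MOD 2 ^ m])) := by
  have hm2 : 2 ≤ m := by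
    by_contra hlt
    have hm : m = 0 ∨ m = 1 := by omega
    rcases hm with rfl | rfl
    · exact H2 (Nat.modEq_one)
    · apply H2
      rw [pow_one] at H1 ⊢
      have h1 : r ^ 2 % 2 = 1 := H1
      have h2 : r % 2 = 1 := by
        rcases Nat.mod_two_eq_zero_or_one r with h | h
        · rw [Nat.pow_mod, h] at h1; norm_num at h1
        · exact h
      exact h2
  refine ⟨hm2, ?_⟩
  obtain ⟨k, rfl⟩ : ∃ k, m = k + 2 := ⟨m - 2, by omega⟩
  have H1' : r * r ≡ 1 [MOD 2 ^ (k + 2)] := by rw [← sq]; exact H1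
  have e1 : k + 2 - 1 = k + 1 := by omega
  rw [e1]
  rcases Cfsg.Agent.S0646.sq_modEq_one_two_pow k r H1' with ⟨t, ht⟩ | ⟨t, ht⟩
  · rcases Nat.even_or_odd' t with ⟨u, rfl | rfl⟩
    · exfalso
      apply H2
      rw [ht]
      have : 1 + 2 ^ (k + 1) * (2 * u) = 1 + 2 ^ (k + 2) * u := by ring
      rw [this]
      show (1 + 2 ^ (k + 2) * u) % 2 ^ (k + 2) = 1 % 2 ^ (k + 2)
      rw [Nat.add_mul_mod_self_left]
    · have hr : r ≡ 1 + 2 ^ (k + 1) [MOD 2 ^ (k + 2)] := by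
        rw [ht]
        have : 1 + 2 ^ (k + 1) * (2 * u + 1) = 1 + 2 ^ (k + 1) + 2 ^ (k + 2) * u := by ring
        rw [this]
        show (1 + 2 ^ (k + 1) + 2 ^ (k + 2) * u) % 2 ^ (k + 2) = (1 + 2 ^ (k + 1)) % 2 ^ (k + 2)
        rw [Nat.add_mul_mod_self_left]
      rcases Nat.eq_zero_or_pos k with rfl | hk
      · left
        have h3 : r % 4 = 3 := hr
        show (r + 1) % 4 = 0 % 4
        omega
      · right; right
        exact ⟨by omega, hr⟩
  · rcases Nat.even_or_odd' t with ⟨u, rfl | rfl⟩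
    · left
      rw [ht]
      have : 2 ^ (k + 1) * (2 * u) = 2 ^ (k + 2) * u := by ring
      rw [this]
      show (2 ^ (k + 2) * u) % 2 ^ (k + 2) = 0 % 2 ^ (k + 2)
      rw [Nat.mul_mod_right]; simp
    · have hr : r + 1 ≡ 2 ^ (k + 1) [MOD 2 ^ (k + 2)] := by
        rw [ht]
        have : 2 ^ (k + 1) * (2 * u + 1) = 2 ^ (k + 1) + 2 ^ (k + 2) * u := by ring
        rw [this]
        show (2 ^ (k + 1) + 2 ^ (k + 2) * u) % 2 ^ (k + 2) = 2 ^ (k + 1) % 2 ^ (k + 2)
        rw [Nat.add_mul_mod_self_left]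
      rcases Nat.eq_zero_or_pos k with rfl | hk
      · exfalso
        apply H2
        have h3 : (r + 1) % 4 = 2 := hr
        show r % 4 = 1 % 4
        omega
      · right; left
        exact ⟨by omega, hr⟩

section CyclicNormal

variable {P : Type*} [Group P]

/-- if `⟨a⟩` is normal and self-centralizing, all commutators lie in `⟨a⟩` (the automorphism group of a
cyclic group is abelian). -/
theorem commutator_mem_of_cyclic_normal {a : P} (hapos : 0 < orderOf a)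
    (hnorm : ∀ y : P, y * a * y⁻¹ ∈ zpowers a) (hcent : ∀ y : P, y * a = a * y → y ∈ zpowers a)
    (g y : P) : g * y * g⁻¹ * y⁻¹ ∈ zpowers a := by
  apply hcent
  obtain ⟨t, ht⟩ := exists_pow_eq_of_mem_zpowers hapos (hnorm g)
  obtain ⟨t', ht'⟩ := exists_pow_eq_of_mem_zpowers hapos (hnorm g⁻¹)
  obtain ⟨r, hr⟩ := exists_pow_eq_of_mem_zpowers hapos (hnorm y)
  obtain ⟨r', hr'⟩ := exists_pow_eq_of_mem_zpowers hapos (hnorm y⁻¹)
  have h1 : a ^ (t * t') = a := by
    rw [← conj_pow_of_conj ht t', ← ht']; group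
  have h2 : a ^ (r * r') = a := by
    rw [← conj_pow_of_conj hr r', ← hr']; group
  have h3 : (g * y * g⁻¹ * y⁻¹) * a * (g * y * g⁻¹ * y⁻¹)⁻¹ = a := by
    calc (g * y * g⁻¹ * y⁻¹) * a * (g * y * g⁻¹ * y⁻¹)⁻¹
        = g * (y * (g⁻¹ * (y⁻¹ * a * y⁻¹⁻¹) * g⁻¹⁻¹) * y⁻¹) * g⁻¹ := by group
      _ = g * (y * (g⁻¹ * a ^ r' * g⁻¹⁻¹) * y⁻¹) * g⁻¹ := by rw [hr']
      _ = g * (y * a ^ (t' * r') * y⁻¹) * g⁻¹ := by rw [conj_pow_of_conj ht']
      _ = g * a ^ (r * (t' * r')) * g⁻¹ := by rw [conj_pow_of_conj hr]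
      _ = a ^ (t * (r * (t' * r'))) := by rw [conj_pow_of_conj ht]
      _ = a := by
          rw [show t * (r * (t' * r')) = (t * t') * (r * r') by ring, pow_mul, h1, h2]
  calc g * y * g⁻¹ * y⁻¹ * a
      = ((g * y * g⁻¹ * y⁻¹) * a * (g * y * g⁻¹ * y⁻¹)⁻¹) * (g * y * g⁻¹ * y⁻¹) := by group
    _ = a * (g * y * g⁻¹ * y⁻¹) := by rw [h3]

/-- two commuting involutions `z` (central) and `y` whose conjugates stay in `{y, z y}` span a normal abelian
non-cyclic subgroup. -/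
theorem exists_normal_four [Finite P] (z y : P) (hz : orderOf z = 2) (hy : orderOf y = 2) (hzy : y ≠ z)
    (hzc : ∀ g : P, g * z * g⁻¹ = z) (hyc : ∀ g : P, g * y * g⁻¹ = y ∨ g * y * g⁻¹ = z * y) :
    ∃ W : Subgroup P, W.Normal ∧ IsMulCommutative W ∧ ¬ IsCyclic W := by
  have hzW : z ∈ closure ({z, y} : Set P) := subset_closure (by simp)
  have hyW : y ∈ closure ({z, y} : Set P) := subset_closure (by simp)
  refine ⟨closure ({z, y} : Set P), ?_, ?_, ?_⟩
  · constructor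
    intro n hn g
    have hle : (closure ({z, y} : Set P)).map (MulAut.conj g).toMonoidHom ≤ closure ({z, y} : Set P) := by
      rw [MonoidHom.map_closure, closure_le]
      rintro _ ⟨s, (rfl | rfl), rfl⟩
      · show g * s * g⁻¹ ∈ _
        rw [hzc g]; exact hzW
      · show g * s * g⁻¹ ∈ _
        rcases hyc g with h | h
        · rw [h]; exact hyW
        · rw [h]; exact mul_mem hzW hyW
    exact hle ⟨n, hn, rfl⟩
  · apply Subgroup.isMulCommutative_closure
    have hcomm : z * y = y * z := by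
      have := hzc y
      calc z * y = (y * z * y⁻¹) * y := by rw [this]
        _ = y * z := by group
    rintro s (rfl | rfl) t (rfl | rfl)
    · rfl
    · exact hcomm
    · exact hcomm.symm
    · rfl
  · intro hcyc
    have h1 := Cfsg.Agent.S4370.mem_zpowers_of_isCyclic (C := closure ({z, y} : Set P)) (by norm_num : 0 < 2)
      (a := ⟨z, hzW⟩) (b := ⟨y, hyW⟩) (by rw [Subgroup.orderOf_mk]; exact hz)
      (by rw [Subgroup.orderOf_mk]; exact hy)
    obtain ⟨k, hk⟩ := mem_zpowers_iff.1 h1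
    have hk' : z ^ k = y := by simpa using congrArg Subtype.val hk
    have h2 := zpow_mod_orderOf z k
    rw [hz, hk', Nat.cast_ofNat] at h2
    have hy1 : y ≠ 1 := by
      rintro rfl
      rw [orderOf_one] at hy; omega
    rcases Int.emod_two_eq_zero_or_one k with h | h
    · rw [h, zpow_zero] at h2; exact hy1 h2.symm
    · rw [h, zpow_one] at h2; exact hzy h2.symm

/-- the data attached to `x ∉ ⟨a⟩` with `x ^ 2 ∈ ⟨a⟩`, where `⟨a⟩` of order `2 ^ m` is self-centralizing and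
normalized by `x`. -/
theorem conj_data_two {a x : P} {m : ℕ} (ha : orderOf a = 2 ^ m) (hn : x * a * x⁻¹ ∈ zpowers a)
    (hcent : ∀ y : P, y * a = a * y → y ∈ zpowers a) (hx : x ∉ zpowers a) (hx2 : x ^ 2 ∈ zpowers a) :
    ∃ r s : ℕ, x * a * x⁻¹ = a ^ r ∧ x ^ 2 = a ^ s ∧ r ^ 2 ≡ 1 [MOD 2 ^ m] ∧ ¬ r ≡ 1 [MOD 2 ^ m] ∧
      r * s ≡ s [MOD 2 ^ m] := by
  have hapos : 0 < orderOf a := by rw [ha]; positivity
  obtain ⟨r, hr⟩ := exists_pow_eq_of_mem_zpowers hapos hn
  obtain ⟨s, hs⟩ := exists_pow_eq_of_mem_zpowers hapos hx2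
  refine ⟨r, s, hr, hs, ?_, ?_, ?_⟩
  · rw [← ha, ← pow_eq_pow_iff_modEq]
    have h1 := pow_conj_of_conj hr 2 1
    rw [mul_one, pow_one, hs] at h1
    rw [← h1, pow_one]
    have : Commute (a ^ s) a := (Commute.refl a).pow_left s
    rw [this.eq]; group
  · intro h
    rw [← ha, ← pow_eq_pow_iff_modEq, pow_one] at h
    apply hx
    apply hcent
    rw [h] at hr
    calc x * a = x * a * x⁻¹ * x := by group
      _ = a * x := by rw [hr]
  · rw [← ha, ← pow_eq_pow_iff_modEq]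
    rw [← conj_pow_of_conj hr s, ← hs]
    group

end CyclicNormal

end Cfsg.Agent.Helper73
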