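import Mathlib
import Cfsg.Prelude.Def_CaseTheorems
import Cfsg.Agent.Helper73.CyclicNormal
import Cfsg.Agent.Helper45.Dihedral

/-!
# 2-groups all of whose normal abelian subgroups are cyclic

`two_group_normal_abelian_cyclic` : such a group is cyclic, generalized quaternion, dihedral of order `≥ 16`
or quasi-dihedral.
-/

set_option autoImplicit false

namespace Cfsg.Agent.Helper73

open Subgroup Finset

section

variable {P : Type*} [Group P]

/-- in a finite group, an element of order 2 of `⟨a⟩` is the involution `z` of `⟨a⟩`. -/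
theorem eq_of_orderOf_two_of_mem_zpowers [Finite P] {a z w : P} (hz : orderOf z = 2) (hw : orderOf w = 2)
    (hza : z ∈ zpowers a) (hwa : w ∈ zpowers a) : w = z := by
  have h1 := Cfsg.Agent.S4370.mem_zpowers_of_isCyclic (C := zpowers a) (by norm_num : 0 < 2)
    (a := ⟨z, hza⟩) (b := ⟨w, hwa⟩) (by rw [Subgroup.orderOf_mk]; exact hz)
    (by rw [Subgroup.orderOf_mk]; exact hw)
  obtain ⟨k, hk⟩ := mem_zpowers_iff.1 h1
  have hk' : z ^ k = w := by simpa using congrArg Subtype.val hk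
  have h2 := zpow_mod_orderOf z k
  rw [hz, hk', Nat.cast_ofNat] at h2
  have hw1 : w ≠ 1 := by
    rintro rfl
    rw [orderOf_one] at hw; omega
  rcases Int.emod_two_eq_zero_or_one k with h | h
  · rw [h, zpow_zero] at h2; exact absurd h2.symm hw1
  · rw [h, zpow_one] at h2; exact h2.symm

/-- powers of an involution. -/
theorem pow_of_orderOf_two {z : P} (hz : orderOf z = 2) (k : ℕ) : z ^ k = 1 ∨ z ^ k = z := by
  have h2 : z ^ 2 = 1 := by rw [← hz, pow_orderOf_eq_one]
  rcases Nat.even_or_odd' k with ⟨u, rfl | rfl⟩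
  · left; rw [pow_mul, h2, one_pow]
  · right; rw [pow_succ, pow_mul, h2, one_pow, one_mul]

end

/-- a finite 2-group all of whose normal abelian subgroups are cyclic is cyclic, generalized quaternion,
dihedral of order at least 16, or quasi-dihedral. -/
theorem two_group_normal_abelian_cyclic {P : Type*} [Group P] [Finite P] (hP : IsPGroup 2 P)
    (hn : ∀ A : Subgroup P, A.Normal → IsMulCommutative A → IsCyclic A) (hnc : ¬ IsCyclic P) :
    (∃ n : ℕ, Nonempty (P ≃* QuaternionGroup n)) ∨ (∃ n : ℕ, 8 ≤ n ∧ Nonempty (P ≃* DihedralGroup n)) ∨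
      Cfsg.IsQuasiDihedral P := by
  have : Fact (Nat.Prime 2) := ⟨Nat.prime_two⟩
  obtain ⟨A, hAn, hAc, hmax⟩ := exists_maximal_normal_abelian (P := P)
  have hCA := centralizer_le_of_maximal_normal_abelian hP A hAc hmax
  have hAcyc : IsCyclic A := hn A hAn hAc
  obtain ⟨⟨a, haA⟩, hgen⟩ := hAcyc.exists_generator
  have hAeq : A = zpowers a := by
    apply le_antisymm
    · intro y hy
      obtain ⟨k, hk⟩ := mem_zpowers_iff.1 (hgen ⟨y, hy⟩)
      refine mem_zpowers_iff.2 ⟨k, ?_⟩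
      have := congrArg Subtype.val hk
      simpa using this
    · exact zpowers_le.2 haA
  subst hAeq
  have htop : zpowers a ≠ ⊤ := fun h => hnc (isCyclic_iff_exists_zpowers_eq_top.2 ⟨a, h⟩)
  obtain ⟨m, ha⟩ := (IsPGroup.iff_orderOf.1 hP) a
  have hapos : 0 < orderOf a := by rw [ha]; positivity
  have hnorm : ∀ y : P, y * a * y⁻¹ ∈ zpowers a := fun y => hAn.conj_mem a (mem_zpowers a) y
  have hcent : ∀ y : P, y * a = a * y → y ∈ zpowers a := by
    intro y hy
    apply hCA
    rw [mem_centralizer_iff]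
    intro z hz
    obtain ⟨k, rfl⟩ := mem_zpowers_iff.1 hz
    have : Commute y a := hy
    exact (this.zpow_right k).eq.symm
  -- the involution of ⟨a⟩ is central
  have hzcentral : 1 ≤ m → ∀ g : P, g * a ^ 2 ^ (m - 1) * g⁻¹ = a ^ 2 ^ (m - 1) := by
    intro hm g
    have hz := orderOf_pow_pred ha hm
    apply eq_of_orderOf_two_of_mem_zpowers hz _ (pow_mem (mem_zpowers a) _)
    · rw [← conj_pow]; exact pow_mem (hnorm g) _
    · have : g * a ^ 2 ^ (m - 1) * g⁻¹ = MulAut.conj g (a ^ 2 ^ (m - 1)) := rfl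
      rw [this, MulEquiv.orderOf_eq]; exact hz
  -- Step A
  have stepA : ∀ x : P, x ∉ zpowers a → x ^ 2 ∈ zpowers a →
      2 ≤ m ∧ ∃ r : ℕ, x * a * x⁻¹ = a ^ r ∧
        (r + 1 ≡ 0 [MOD 2 ^ m] ∨ (3 ≤ m ∧ r + 1 ≡ 2 ^ (m - 1) [MOD 2 ^ m])) ∧
        ((x ^ 2 = a ^ 2 ^ (m - 1) ∧ r + 1 ≡ 0 [MOD 2 ^ m]) ∨ ∃ i : ℕ, (a ^ i * x) ^ 2 = 1) := by
    intro x hx hx2
    obtain ⟨r, s, hr, hs, H1, H2, H3⟩ := conj_data_two ha (hnorm x) hcent hx hx2
    obtain ⟨hm2, hcases⟩ := sqrt_one_cases m r H1 H2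
    have hsol := solution_two m r s (by omega) H1 H2 H3
    have hsol' : (x ^ 2 = a ^ 2 ^ (m - 1) ∧ r + 1 ≡ 0 [MOD 2 ^ m]) ∨ ∃ i : ℕ, (a ^ i * x) ^ 2 = 1 := by
      rcases hsol with ⟨i, hi⟩ | ⟨-, hr1, hs1⟩
      · right
        refine ⟨i, ?_⟩
        rw [mul_pow_of_conj hr, hs, ← pow_add]
        apply orderOf_dvd_iff_pow_eq_one.1
        rw [ha]
        have : ∑ j ∈ range 2, r ^ j = 1 + r := by simp [sum_range_succ]
        rw [this]
        exact (Nat.modEq_zero_iff_dvd).1 hi
      · left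
        refine ⟨?_, hr1⟩
        rw [hs, pow_eq_pow_iff_modEq, ha]; exact hs1
    refine ⟨hm2, r, hr, ?_, hsol'⟩
    rcases hcases with h | h | ⟨hm3, hmod⟩
    · exact Or.inl h
    · exact Or.inr h
    · exfalso
      have hpow : 2 ^ m = 2 * 2 ^ (m - 1) := by rw [← pow_succ', Nat.sub_add_cancel (by omega)]
      have hpow' : 2 ^ (m - 1) = 2 * 2 ^ (m - 2) := by
        rw [← pow_succ', show m - 2 + 1 = m - 1 by omega]
      have h4 : 2 ≤ 2 ^ (m - 2) := by
        calc 2 = 2 ^ 1 := by norm_num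
          _ ≤ 2 ^ (m - 2) := Nat.pow_le_pow_right (by norm_num) (by omega)
      -- 1 + r ≡ 2 + 2^(m-1)
      have h1r : 1 + r ≡ 2 + 2 ^ (m - 1) [MOD 2 ^ m] := by
        have := hmod.add_left 1
        rw [← add_assoc] at this
        exact this
      rcases hsol' with ⟨-, hr1⟩ | ⟨i, hi⟩
      · have h5 : 2 + 2 ^ (m - 1) ≡ 0 [MOD 2 ^ m] := by
          have h6 : 1 + r ≡ 0 [MOD 2 ^ m] := by rw [add_comm]; exact hr1
          exact h1r.symm.trans h6
        have h6 := Nat.le_of_dvd (by positivity) ((Nat.modEq_zero_iff_dvd).1 h5)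
        omega
      · set y := a ^ i * x with hy
        have hyA : y ∉ zpowers a := by
          intro h
          apply hx
          have : x = (a ^ i)⁻¹ * y := by rw [hy]; group
          rw [this]
          exact mul_mem (inv_mem (pow_mem (mem_zpowers a) _)) h
        have hy1 : y ≠ 1 := fun h => hyA (h ▸ one_mem _)
        have hyo : orderOf y = 2 := orderOf_eq_prime hi hy1
        have hyr : y * a * y⁻¹ = a ^ r := by
          have : y * a * y⁻¹ = a ^ i * (x * a * x⁻¹) * (a ^ i)⁻¹ := by rw [hy]; group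
          rw [this, hr, ← pow_add, ← pow_sub_mul_pow a (Nat.le_add_right i r), Nat.add_sub_cancel_left,
            mul_inv_cancel_right]
        have hzo := orderOf_pow_pred ha (by omega : 1 ≤ m)
        set z := a ^ 2 ^ (m - 1) with hz
        have hzy : y ≠ z := fun h => hyA (h ▸ pow_mem (mem_zpowers a) _)
        have hyc : ∀ g : P, g * y * g⁻¹ = y ∨ g * y * g⁻¹ = z * y := by
          intro g
          obtain ⟨j, hj⟩ := exists_pow_eq_of_mem_zpowers hapos
            (commutator_mem_of_cyclic_normal hapos hnorm hcent g y)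
          have hgy : g * y * g⁻¹ = a ^ j * y := by rw [← hj]; group
          have hsq : (a ^ j * y) ^ 2 = 1 := by
            rw [← hgy, conj_pow, hi]; group
          rw [mul_pow_of_conj hyr, hi, mul_one] at hsq
          have h7 : ∑ j ∈ range 2, r ^ j = 1 + r := by simp [sum_range_succ]
          rw [h7] at hsq
          have h8 : 2 ^ m ∣ j * (1 + r) := by
            rw [← ha]; exact orderOf_dvd_iff_pow_eq_one.2 hsq
          have h9 : 2 ^ m ∣ j * (2 + 2 ^ (m - 1)) := by
            have h10 : j * (1 + r) ≡ j * (2 + 2 ^ (m - 1)) [MOD 2 ^ m] := h1r.mul_left j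
            exact (Nat.modEq_zero_iff_dvd).1 (h10.symm.trans ((Nat.modEq_zero_iff_dvd).2 h8))
          have h11 : 2 ^ (m - 1) ∣ j * (1 + 2 ^ (m - 2)) := by
            have h12 : j * (2 + 2 ^ (m - 1)) = 2 * (j * (1 + 2 ^ (m - 2))) := by
              rw [hpow']; ring
            rw [h12, hpow] at h9
            exact Nat.dvd_of_mul_dvd_mul_left (by norm_num) h9
          have hcop : Nat.Coprime (2 ^ (m - 1)) (1 + 2 ^ (m - 2)) := by
            apply Nat.Coprime.pow_left
            rw [Nat.coprime_two_left]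
            obtain ⟨u, hu⟩ : ∃ u, m - 2 = u + 1 := ⟨m - 3, by omega⟩
            rw [hu, pow_succ]
            exact ⟨2 ^ u, by ring⟩
          have h13 : 2 ^ (m - 1) ∣ j := hcop.dvd_of_dvd_mul_right h11
          obtain ⟨j', rfl⟩ := h13
          rw [hgy, pow_mul]
          rcases pow_of_orderOf_two hzo j' with h | h
          · left; rw [h, one_mul]
          · right; rw [h]
        obtain ⟨W, hWn, hWc, hWnc⟩ :=
          exists_normal_four z y hzo hyo hzy (hzcentral (by omega)) hyc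
        exact hWnc (hn W hWn hWc)
  -- residues mod 4
  have hr4 : ∀ r : ℕ, 2 ≤ m → (r + 1 ≡ 0 [MOD 2 ^ m] ∨ (3 ≤ m ∧ r + 1 ≡ 2 ^ (m - 1) [MOD 2 ^ m])) →
      r % 4 = 3 := by
    intro r hm2 h
    have h4 : 4 ∣ 2 ^ m := by
      have : (4 : ℕ) = 2 ^ 2 := by norm_num
      rw [this]; exact pow_dvd_pow 2 hm2
    rcases h with h | ⟨hm3, h⟩
    · have := (Nat.modEq_zero_iff_dvd).1 (h.of_dvd h4)
      omega
    · have h4' : 4 ∣ 2 ^ (m - 1) := by
        have : (4 : ℕ) = 2 ^ 2 := by norm_num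
        rw [this]; exact pow_dvd_pow 2 (by omega)
      have h5 : r + 1 ≡ 0 [MOD 4] := (h.of_dvd h4).trans ((Nat.modEq_zero_iff_dvd).2 h4')
      have := (Nat.modEq_zero_iff_dvd).1 h5
      omega
  -- Step B: all squares lie in ⟨a⟩
  have stepB : ∀ y : P, y ^ 2 ∈ zpowers a := by
    intro y
    by_contra hy
    obtain ⟨l, hl1, hl2⟩ := exists_pow_mem hP (zpowers a) hy
    obtain ⟨hm2, r, hr, hcases, -⟩ := stepA _ hl1 hl2
    have h3 := hr4 r hm2 hcases
    obtain ⟨t, ht⟩ := exists_pow_eq_of_mem_zpowers hapos (hnorm (y ^ 2 ^ l))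
    have h1 := pow_conj_of_conj ht 2 1
    rw [mul_one, pow_one] at h1
    have h2 : (y ^ 2 ^ l) ^ 2 = (y ^ 2) ^ 2 ^ l := by
      rw [← pow_mul, ← pow_mul, mul_comm]
    rw [h2, hr, pow_eq_pow_iff_modEq, ha] at h1
    have h4 : 4 ∣ 2 ^ m := by
      have : (4 : ℕ) = 2 ^ 2 := by norm_num
      rw [this]; exact pow_dvd_pow 2 hm2
    have h5 : r % 4 = t ^ 2 % 4 := h1.of_dvd h4
    have h7 : t % 4 = 0 ∨ t % 4 = 1 ∨ t % 4 = 2 ∨ t % 4 = 3 := by omega
    rw [h3] at h5
    rcases h7 with h | h | h | h <;>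
      · rw [Nat.pow_mod, h] at h5
        norm_num at h5
  -- an element outside ⟨a⟩
  obtain ⟨x0, hx0⟩ : ∃ x0 : P, x0 ∉ zpowers a := by
    by_contra h
    push Not at h
    exact htop (eq_top_iff.2 fun y _ => h y)
  -- Step C: index 2
  have hidx : (zpowers a).index = 2 := by
    rw [index_eq_two_iff]
    refine ⟨x0, fun b => ?_⟩
    by_cases hb : b ∈ zpowers a
    · refine Or.inr ⟨hb, fun h => hx0 ?_⟩
      have : x0 = b⁻¹ * (b * x0) := by group
      rw [this]; exact mul_mem (inv_mem hb) h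
    · refine Or.inl ⟨?_, hb⟩
      by_contra hbx
      obtain ⟨hm2, r1, hr1, hc1, -⟩ := stepA b hb (stepB b)
      obtain ⟨-, r2, hr2, hc2, -⟩ := stepA x0 hx0 (stepB x0)
      obtain ⟨-, r3, hr3, hc3, -⟩ := stepA (b * x0) hbx (stepB _)
      have h1 : (b * x0) * a * (b * x0)⁻¹ = a ^ (r1 * r2) := by
        have : (b * x0) * a * (b * x0)⁻¹ = b * (x0 * a * x0⁻¹) * b⁻¹ := by group
        rw [this, hr2, conj_pow_of_conj hr1]
      rw [hr3, pow_eq_pow_iff_modEq, ha] at h1
      have h4 : 4 ∣ 2 ^ m := by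
        have : (4 : ℕ) = 2 ^ 2 := by norm_num
        rw [this]; exact pow_dvd_pow 2 hm2
      have h5 : r3 % 4 = (r1 * r2) % 4 := h1.of_dvd h4
      rw [hr4 r3 hm2 hc3, Nat.mul_mod, hr4 r1 hm2 hc1, hr4 r2 hm2 hc2] at h5
      norm_num at h5
  have hdec : ∀ g : P, g ∈ zpowers a ∨ ∀ y : P, y ∉ zpowers a → g * y⁻¹ ∈ zpowers a := by
    intro g
    by_cases hg : g ∈ zpowers a
    · exact Or.inl hg
    · right
      intro y hy
      rw [mul_mem_iff_of_index_two hidx, inv_mem_iff]
      exact ⟨fun h => (hg h).elim, fun h => (hy h).elim⟩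
  have hcard : Nat.card P = 2 ^ (m + 1) := by
    rw [← (zpowers a).card_mul_index, hidx, Nat.card_zpowers, ha, pow_succ]
  -- Step D
  obtain ⟨hm2, r, hr, hcases, hfin⟩ := stepA x0 hx0 (stepB x0)
  have hpow : 2 ^ m = 2 * 2 ^ (m - 1) := by rw [← pow_succ', Nat.sub_add_cancel (by omega)]
  have hinv_of : ∀ w : P, w * a * w⁻¹ = a ^ r → r + 1 ≡ 0 [MOD 2 ^ m] → w * a * w⁻¹ = a⁻¹ := by
    intro w hw h
    rw [hw]
    apply eq_inv_of_mul_eq_one_left
    rw [← pow_succ]
    apply orderOf_dvd_iff_pow_eq_one.1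
    rw [ha]
    exact (Nat.modEq_zero_iff_dvd).1 h
  rcases hfin with ⟨hx2, hr1⟩ | ⟨i, hi⟩
  · -- quaternion
    left
    refine ⟨2 ^ (m - 1), ?_⟩
    have ha' : orderOf a = 2 * 2 ^ (m - 1) := by rw [ha, hpow]
    exact nonempty_mulEquiv_quaternionGroup ha' hx0 (hinv_of x0 hr hr1) hx2 hidx
  · set y := a ^ i * x0 with hy
    have hyA : y ∉ zpowers a := by
      intro h
      apply hx0
      have : x0 = (a ^ i)⁻¹ * y := by rw [hy]; group
      rw [this]
      exact mul_mem (inv_mem (pow_mem (mem_zpowers a) _)) h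
    have hy1 : y ≠ 1 := fun h => hyA (h ▸ one_mem _)
    have hyo : orderOf y = 2 := orderOf_eq_prime hi hy1
    have hyr : y * a * y⁻¹ = a ^ r := by
      have : y * a * y⁻¹ = a ^ i * (x0 * a * x0⁻¹) * (a ^ i)⁻¹ := by rw [hy]; group
      rw [this, hr, ← pow_add, ← pow_sub_mul_pow a (Nat.le_add_right i r), Nat.add_sub_cancel_left,
        mul_inv_cancel_right]
    rcases hcases with hr1 | ⟨hm3, hr1⟩
    · -- dihedral
      have hyinv := hinv_of y hyr hr1
      by_cases hm3 : 3 ≤ m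
      · right; left
        refine ⟨2 ^ m, ?_, ?_⟩
        · calc 8 = 2 ^ 3 := by norm_num
            _ ≤ 2 ^ m := Nat.pow_le_pow_right (by norm_num) hm3
        · apply Cfsg.Agent.Helper45.nonempty_mulEquiv_dihedral (2 ^ m) a y ha (by rw [← sq]; exact hi)
            hyinv hyA
          intro g
          by_cases hg : g ∈ zpowers a
          · exact Or.inl hg
          · right
            rw [mul_mem_iff_of_index_two hidx]
            exact ⟨fun h => (hyA h).elim, fun h => (hg h).elim⟩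
      · exfalso
        have hm : m = 2 := by omega
        subst hm
        have hzo := orderOf_pow_pred ha (by omega : 1 ≤ 2)
        have hzy : y ≠ a ^ 2 ^ (2 - 1) := fun h => hyA (h ▸ pow_mem (mem_zpowers a) _)
        have hyc : ∀ g : P, g * y * g⁻¹ = y ∨ g * y * g⁻¹ = a ^ 2 ^ (2 - 1) * y := by
          -- first for g ∈ ⟨a⟩
          have h1 : ∀ g ∈ zpowers a, g * y * g⁻¹ = y ∨ g * y * g⁻¹ = a ^ 2 ^ (2 - 1) * y := by
            intro g hg
            obtain ⟨k, rfl⟩ := exists_pow_eq_of_mem_zpowers hapos hg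
            have h2' : y * a⁻¹ * y⁻¹ = a := by
              have : y * a⁻¹ * y⁻¹ = (y * a * y⁻¹)⁻¹ := by group
              rw [this, hyinv, inv_inv]
            have h2 : y * (a ^ k)⁻¹ * y⁻¹ = a ^ k := by
              rw [← inv_pow, ← conj_pow, h2']
            have h3 : a ^ k * y * (a ^ k)⁻¹ = (a ^ 2 ^ (2 - 1)) ^ k * y := by
              calc a ^ k * y * (a ^ k)⁻¹ = a ^ k * (y * (a ^ k)⁻¹ * y⁻¹) * y := by group
                _ = a ^ k * a ^ k * y := by rw [h2]
                _ = (a ^ 2 ^ (2 - 1)) ^ k * y := by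
                    rw [← pow_add, ← pow_mul]; congr 2; norm_num; ring
            rw [h3]
            rcases pow_of_orderOf_two hzo k with h | h
            · left; rw [h, one_mul]
            · right; rw [h]
          intro g
          rcases hdec g with hg | hg
          · exact h1 g hg
          · have h4 := h1 _ (hg y hyA)
            have h5 : g * y * g⁻¹ = (g * y⁻¹) * y * (g * y⁻¹)⁻¹ := by group
            rw [h5]; exact h4
        obtain ⟨W, hWn, hWc, hWnc⟩ :=
          exists_normal_four _ y hzo hyo hzy (hzcentral (by omega)) hyc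
        exact hWnc (hn W hWn hWc)
    · -- quasi-dihedral
      right; right
      refine ⟨m, hm3, hcard, a, y, ha, hyo, ?_⟩
      rw [hyr, pow_eq_pow_iff_modEq, ha]
      apply Nat.ModEq.add_right_cancel' 1
      rw [Nat.sub_add_cancel (Nat.one_le_two_pow)]
      exact hr1

end Cfsg.Agent.Helper73
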