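import Mathlib

set_option autoImplicit false
set_option linter.unusedSectionVars false

/-!
Fixed field of an automorphism `σ` of a finite field `K`, the `σ`-norm, its surjectivity onto the
fixed field, and a counting form of Hilbert 90 for finite abelian groups.
-/

namespace Cfsg.Agent.Helper73.FixedFieldNorm

/-- Counting form of exactness: for endomorphisms `ψ, N` of a finite abelian group with `N ∘ ψ = 1`
and `ker ψ ≤ range N`, one has `ker N ≤ range ψ`. -/
theorem ker_le_range_of_comp_eq_one {A : Type*} [Group A] [Finite A] (ψ N : A →* A)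
    (h1 : ∀ a, N (ψ a) = 1) (h2 : ψ.ker ≤ N.range) : N.ker ≤ ψ.range := by
  have e1 : Nat.card ψ.ker * Nat.card ψ.range = Nat.card A := by
    rw [← Subgroup.index_ker]; exact Subgroup.card_mul_index _
  have e2 : Nat.card N.ker * Nat.card N.range = Nat.card A := by
    rw [← Subgroup.index_ker]; exact Subgroup.card_mul_index _
  have l1 : ψ.range ≤ N.ker := by
    rintro _ ⟨a, rfl⟩
    exact h1 a
  have c1 : Nat.card ψ.range ≤ Nat.card N.ker := Subgroup.card_le_of_le l1
  have c2 : Nat.card ψ.ker ≤ Nat.card N.range := Subgroup.card_le_of_le h2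
  have hpos : 0 < Nat.card ψ.ker := Nat.card_pos
  have hpos2 : 0 < Nat.card N.range := Nat.card_pos
  have c3 : Nat.card N.ker ≤ Nat.card ψ.range := by
    by_contra hlt
    push Not at hlt
    have : Nat.card ψ.ker * Nat.card ψ.range < Nat.card N.ker * Nat.card N.range := by
      calc Nat.card ψ.ker * Nat.card ψ.range < Nat.card ψ.ker * Nat.card N.ker :=
            Nat.mul_lt_mul_of_pos_left hlt hpos
        _ ≤ Nat.card N.range * Nat.card N.ker := Nat.mul_le_mul_right _ c2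
        _ = Nat.card N.ker * Nat.card N.range := Nat.mul_comm _ _
    omega
  have : ψ.range = N.ker := Subgroup.eq_of_le_of_card_ge l1 c3
  rw [this]

variable {K : Type*} [Field K] [Fintype K]

/-- The subfield of `K` fixed by `σ`. -/
noncomputable abbrev F0 (σ : K ≃+* K) : Subfield K :=
  FixedPoints.subfield (Subgroup.zpowers σ) K

theorem mem_F0 (σ : K ≃+* K) (x : K) : x ∈ F0 σ ↔ σ x = x := by
  constructor
  · intro h
    exact h ⟨σ, Subgroup.mem_zpowers σ⟩
  · intro h g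
    obtain ⟨g, hg⟩ := g
    obtain ⟨k, rfl⟩ := Subgroup.mem_zpowers_iff.1 hg
    show (σ ^ k) x = x
    have hfix : ∀ m : ℕ, (σ ^ m) x = x := by
      intro m
      induction m with
      | zero => simp
      | succ m ih => rw [pow_succ, RingAut.mul_apply, h, ih]
    have hinv : ∀ τ : K ≃+* K, τ x = x → τ⁻¹ x = x := by
      intro τ hτ
      have : τ⁻¹ (τ x) = x := by
        rw [← RingAut.mul_apply, inv_mul_cancel, RingAut.one_apply]
      rw [hτ] at this
      exact this
    rcases Int.eq_nat_or_neg k with ⟨m, rfl | rfl⟩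
    · rw [zpow_natCast]; exact hfix m
    · rw [zpow_neg, zpow_natCast]; exact hinv _ (hfix m)

instance finiteRingAut : Finite (K ≃+* K) :=
  Finite.of_injective (fun f : K ≃+* K => (f : K → K)) DFunLike.coe_injective

theorem finrank_F0 (σ : K ≃+* K) : Module.finrank (F0 σ) K = orderOf σ := by
  classical
  have : Fintype (Subgroup.zpowers σ) := Fintype.ofFinite _
  rw [FixedPoints.finrank_eq_card (Subgroup.zpowers σ) K, Fintype.card_eq_nat_card,
    Nat.card_zpowers]

theorem card_F0 {Q r : ℕ} (σ : K ≃+* K) (hr : r ≠ 0) (hσ : orderOf σ = r)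
    (hK : Fintype.card K = Q ^ r) : Nat.card (F0 σ) = Q := by
  classical
  have : Fintype (F0 σ) := Fintype.ofFinite _
  have h := Module.card_eq_pow_finrank (K := F0 σ) (V := K)
  rw [finrank_F0, hσ, hK] at h
  rw [← Fintype.card_eq_nat_card]
  exact (Nat.pow_left_injective hr h).symm

/-- The `σ`-norm `x ↦ ∏_{i<r} σ^i x`. -/
def nrm (σ : K ≃+* K) (r : ℕ) (x : K) : K := ∏ i ∈ Finset.range r, (σ ^ i) x

theorem nrm_mul (σ : K ≃+* K) (r : ℕ) (x y : K) : nrm σ r (x * y) = nrm σ r x * nrm σ r y := by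
  simp only [nrm, map_mul, Finset.prod_mul_distrib]

theorem nrm_one (σ : K ≃+* K) (r : ℕ) : nrm σ r 1 = 1 := by
  simp [nrm]

theorem nrm_pow (σ : K ≃+* K) (r : ℕ) (x : K) (m : ℕ) : nrm σ r (x ^ m) = nrm σ r x ^ m := by
  simp only [nrm, map_pow, Finset.prod_pow]

theorem nrm_eq_algebraMap_norm {r : ℕ} (σ : K ≃+* K) (hσ : orderOf σ = r) (x : K) :
    nrm σ r x = algebraMap (F0 σ) K (Algebra.norm (F0 σ) x) := by
  classical
  have hfo : IsOfFinOrder σ := isOfFinOrder_of_finite σ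
  have : Fintype (Subgroup.zpowers σ) := Fintype.ofFinite _
  rw [Algebra.norm_eq_prod_automorphisms]
  rw [← (FixedPoints.toAlgAutMulEquiv (Subgroup.zpowers σ) K).toEquiv.prod_comp]
  rw [← (finEquivZPowers hfo).prod_comp]
  subst hσ
  rw [nrm, ← Fin.prod_univ_eq_prod_range (fun i => (σ ^ i) x)]
  refine Finset.prod_congr rfl (fun i _ => ?_)
  rfl

theorem nrm_fixed {r : ℕ} (σ : K ≃+* K) (hσ : orderOf σ = r) (x : K) :
    σ (nrm σ r x) = nrm σ r x := by
  rw [nrm_eq_algebraMap_norm σ hσ]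
  exact (mem_F0 σ _).1 (Subtype.property _)

theorem nrm_apply_sigma {r : ℕ} (σ : K ≃+* K) (hσ : orderOf σ = r) (x : K) :
    nrm σ r (σ x) = nrm σ r x := by
  have h : nrm σ r (σ x) = σ (nrm σ r x) := by
    simp only [nrm, map_prod]
    refine Finset.prod_congr rfl (fun i _ => ?_)
    rw [← RingAut.mul_apply, ← RingAut.mul_apply, ← pow_succ, ← pow_succ']
  rw [h, nrm_fixed σ hσ]

theorem nrm_surjective {r : ℕ} (σ : K ≃+* K) (hσ : orderOf σ = r) (y : K) (hy : σ y = y) :
    ∃ x, nrm σ r x = y := by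
  obtain ⟨x, hx⟩ := FiniteField.norm_surjective (F0 σ) K ⟨y, (mem_F0 σ y).2 hy⟩
  refine ⟨x, ?_⟩
  rw [nrm_eq_algebraMap_norm σ hσ, hx]
  rfl

theorem nrm_zero {r : ℕ} (σ : K ≃+* K) (hr : r ≠ 0) : nrm σ r 0 = 0 := by
  rw [nrm]
  exact Finset.prod_eq_zero (Finset.mem_range.2 (Nat.pos_of_ne_zero hr)) (by simp)

/-- In a finite cyclic group of order `m * n`, an element killed by `n` is an `m`-th power. -/
theorem exists_pow_eq_of_pow_eq_one {G : Type*} [CommGroup G] [IsCyclic G] [Finite G] {m n : ℕ}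
    (hm : 0 < m) (hn : 0 < n) (hG : Nat.card G = m * n) (a : G) (ha : a ^ n = 1) :
    ∃ y : G, y ^ m = a := by
  have hle : (powMonoidHom m : G →* G).range ≤ (powMonoidHom n : G →* G).ker := by
    rintro _ ⟨y, rfl⟩
    rw [MonoidHom.mem_ker, powMonoidHom_apply, powMonoidHom_apply, ← pow_mul, ← hG]
    exact pow_card_eq_one'
  have c1 : Nat.card (powMonoidHom m : G →* G).range = n := by
    rw [IsCyclic.card_powMonoidHom_range, hG, Nat.gcd_mul_right_left]
    exact Nat.mul_div_cancel_left n hm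
  have c2 : Nat.card (powMonoidHom n : G →* G).ker = n := by
    rw [IsCyclic.card_powMonoidHom_ker, hG, Nat.gcd_mul_left_left]
  have : (powMonoidHom m : G →* G).range = (powMonoidHom n : G →* G).ker :=
    Subgroup.eq_of_le_of_card_ge hle (by rw [c1, c2])
  have ha' : a ∈ (powMonoidHom n : G →* G).ker := ha
  rw [← this] at ha'
  obtain ⟨y, hy⟩ := ha'
  exact ⟨y, hy⟩

/-- The `σ`-norm as a monoid homomorphism. -/
def nrmHom (σ : K ≃+* K) (r : ℕ) : K →* K where
  toFun := nrm σ r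
  map_one' := nrm_one σ r
  map_mul' := nrm_mul σ r

/-- Hilbert 90 for the "unitary torus" `{μ | μ^(q+1) = 1}` of a finite field `K` with `q^2`
elements, for an automorphism `σ` whose fixed field has `q₀^2` elements and on which the
`q`-th and `q₀`-th power maps agree. -/
theorem hilbert90_torus {q q₀ r : ℕ} (σ : K ≃+* K) (hσ : orderOf σ = r)
    (hcardK : Fintype.card K = q ^ 2) (hcardF : Nat.card (F0 σ) = q₀ ^ 2) (hq₀ : 2 ≤ q₀)
    (hq : 1 ≤ q) (hqq : ∀ y : K, σ y = y → y ^ q = y ^ q₀)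
    (c : K) (hc : c ^ (q + 1) = 1) (hN : nrm σ r c = 1) :
    ∃ μ : K, μ ^ (q + 1) = 1 ∧ σ μ = c * μ := by
  classical
  let A : Subgroup Kˣ := (powMonoidHom (q + 1) : Kˣ →* Kˣ).ker
  have hA : ∀ u : Kˣ, u ∈ A ↔ (u : K) ^ (q + 1) = 1 := by
    intro u
    show (powMonoidHom (q + 1) : Kˣ →* Kˣ) u = 1 ↔ _
    rw [powMonoidHom_apply, Units.ext_iff]
    simp
  let ψ' : Kˣ →* Kˣ := Units.map (σ : K →* K) / MonoidHom.id Kˣ
  let N' : Kˣ →* Kˣ := Units.map (nrmHom σ r)
  have hψ' : ∀ u : Kˣ, ((ψ' u : Kˣ) : K) = σ (u : K) / (u : K) := by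
    intro u
    show ((Units.map (σ : K →* K) u / u : Kˣ) : K) = _
    rw [Units.val_div_eq_div_val]
    rfl
  have hN' : ∀ u : Kˣ, ((N' u : Kˣ) : K) = nrm σ r (u : K) := fun u => rfl
  have hψA : ∀ u : A, ψ' (u : Kˣ) ∈ A := by
    intro u
    rw [hA, hψ', div_pow, ← map_pow, (hA _).1 u.2, map_one, div_one]
  have hNA : ∀ u : A, N' (u : Kˣ) ∈ A := by
    intro u
    rw [hA, hN', ← nrm_pow, (hA _).1 u.2, nrm_one]
  let ψ : A →* A := (ψ'.comp A.subtype).codRestrict A hψA
  let N : A →* A := (N'.comp A.subtype).codRestrict A hNA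
  have hψ : ∀ u : A, (((ψ u : A) : Kˣ) : K) = σ ((u : Kˣ) : K) / ((u : Kˣ) : K) := fun u => hψ' u
  have hNv : ∀ u : A, (((N u : A) : Kˣ) : K) = nrm σ r ((u : Kˣ) : K) := fun u => rfl
  have h1 : ∀ a, N (ψ a) = 1 := by
    intro a
    apply Subtype.ext
    apply Units.ext
    rw [hNv, hψ]
    have : nrm σ r (σ ((a : Kˣ) : K) / ((a : Kˣ) : K)) * nrm σ r ((a : Kˣ) : K)
        = nrm σ r ((a : Kˣ) : K) := by
      rw [← nrm_mul, div_mul_cancel₀ _ (Units.ne_zero _), nrm_apply_sigma σ hσ]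
    have hne : nrm σ r ((a : Kˣ) : K) ≠ 0 := by
      rw [← hNv]; exact Units.ne_zero _
    have := mul_right_cancel₀ hne (this.trans (one_mul _).symm)
    simpa using this
  have h2 : ψ.ker ≤ N.range := by
    intro a ha
    have ha1 : σ ((a : Kˣ) : K) = ((a : Kˣ) : K) := by
      have := congrArg (fun z : A => ((z : Kˣ) : K)) (MonoidHom.mem_ker.1 ha)
      simp only [hψ] at this
      have hne : ((a : Kˣ) : K) ≠ 0 := Units.ne_zero _
      have h' : σ ((a : Kˣ) : K) / ((a : Kˣ) : K) = 1 := by simpa using this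
      rwa [div_eq_one_iff_eq hne] at h'
    have ha2 : ((a : Kˣ) : K) ^ (q + 1) = 1 := (hA _).1 a.2
    -- work in the units of the fixed field
    have hfin : Finite (F0 σ) := inferInstance
    have hcu : Nat.card (F0 σ)ˣ = (q₀ - 1) * (q₀ + 1) := by
      rw [Nat.card_units, hcardF]
      have : q₀ ^ 2 = (q₀ - 1) * (q₀ + 1) + 1 := by
        obtain ⟨k, rfl⟩ : ∃ k, q₀ = k + 2 := ⟨q₀ - 2, by omega⟩
        simp only [Nat.add_sub_cancel, show k + 2 - 1 = k + 1 by omega]
        ring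
      omega
    let a0 : F0 σ := ⟨((a : Kˣ) : K), (mem_F0 σ _).2 ha1⟩
    have ha0 : a0 ≠ 0 := by
      intro h
      have := congrArg (fun z : F0 σ => (z : K)) h
      exact Units.ne_zero (a : Kˣ) this
    have ha3 : (Units.mk0 a0 ha0) ^ (q₀ + 1) = 1 := by
      apply Units.ext
      apply Subtype.ext
      show ((a : Kˣ) : K) ^ (q₀ + 1) = 1
      rw [pow_succ, ← hqq _ ha1, ← pow_succ, ha2]
    obtain ⟨y, hy⟩ := exists_pow_eq_of_pow_eq_one (G := (F0 σ)ˣ) (m := q₀ - 1) (n := q₀ + 1)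
      (by omega) (by omega) hcu _ ha3
    have hyK : (((y : F0 σ) : K)) ^ (q₀ - 1) = ((a : Kˣ) : K) := by
      have := congrArg (fun z : (F0 σ)ˣ => ((z : F0 σ) : K)) hy
      simpa using this
    have hy0 : ((y : F0 σ) : K) ≠ 0 := by
      intro h
      exact Units.ne_zero y (Subtype.ext h)
    have hyfix : σ ((y : F0 σ) : K) = ((y : F0 σ) : K) := (mem_F0 σ _).1 (Subtype.property _)
    obtain ⟨x, hx⟩ := nrm_surjective σ hσ _ hyfix
    have hx0 : x ≠ 0 := by
      rintro rfl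
      have hr : r ≠ 0 := by
        rw [← hσ]
        exact (orderOf_pos σ).ne'
      rw [nrm_zero σ hr] at hx
      exact hy0 hx.symm
    have hxb : (x ^ (q - 1)) ^ (q + 1) = 1 := by
      rw [← pow_mul]
      have : (q - 1) * (q + 1) = Fintype.card K - 1 := by
        rw [hcardK]
        obtain ⟨k, rfl⟩ : ∃ k, q = k + 1 := ⟨q - 1, by omega⟩
        simp only [Nat.add_sub_cancel]
        have : (k + 1) ^ 2 = k * (k + 1 + 1) + 1 := by ring
        omega
      rw [this]
      exact FiniteField.pow_card_sub_one_eq_one x hx0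
    let b : Kˣ := Units.mk0 (x ^ (q - 1)) (pow_ne_zero _ hx0)
    have hbA : b ∈ A := (hA b).2 hxb
    refine ⟨⟨b, hbA⟩, ?_⟩
    apply Subtype.ext
    apply Units.ext
    rw [hNv]
    show nrm σ r (x ^ (q - 1)) = _
    rw [nrm_pow, hx, ← hyK]
    have e1 : ((y : F0 σ) : K) ^ (q - 1) * ((y : F0 σ) : K) = ((y : F0 σ) : K) ^ (q₀ - 1) * ((y : F0 σ) : K) := by
      rw [← pow_succ, ← pow_succ, Nat.sub_add_cancel hq, Nat.sub_add_cancel (by omega : 1 ≤ q₀)]
      exact hqq _ hyfix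
    exact mul_right_cancel₀ hy0 e1
  have hc0 : c ≠ 0 := by
    rintro rfl
    simp at hc
  have hcA : Units.mk0 c hc0 ∈ A := (hA _).2 hc
  have hcker : (⟨Units.mk0 c hc0, hcA⟩ : A) ∈ N.ker := by
    rw [MonoidHom.mem_ker]
    apply Subtype.ext
    apply Units.ext
    rw [hNv]
    exact hN
  obtain ⟨μ, hμ⟩ := ker_le_range_of_comp_eq_one ψ N h1 h2 hcker
  refine ⟨((μ : Kˣ) : K), (hA _).1 μ.2, ?_⟩
  have := congrArg (fun z : A => ((z : Kˣ) : K)) hμ
  simp only [hψ] at this
  have hne : ((μ : Kˣ) : K) ≠ 0 := Units.ne_zero _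
  rw [div_eq_iff hne] at this
  exact this

end Cfsg.Agent.Helper73.FixedFieldNorm
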