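import Mathlib
import Cfsg.Prelude.Def_Solvable
import Cfsg.Agent.Helper63.Frobenius
import Cfsg.Agent.Helper71.FrobCoprime

/-!
# (ZA) for helper10 (S3999): in a Frobenius group, the elements of an order `m` not dividing the
kernel order are distributed over the `[X:C]` conjugates of the complement `C`
-/

set_option autoImplicit false

namespace Cfsg.Agent.Helper73.FrobOT

open Cfsg

universe u

variable {X : Type u} [Group X] [Finite X]

omit [Finite X] in
theorem orderOf_conj_eq (g y : X) : orderOf (g * y * g⁻¹) = orderOf y := by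
  have := MulEquiv.orderOf_eq (MulAut.conj g) y
  rwa [MulAut.conj_apply] at this

/-- (ZA) elements of an order `m` not dividing the kernel order: `[X:C]` conjugates of `C` -/
theorem card_orderOf_eq_of_frobenius {C : Subgroup X} (hC : IsFrobeniusComplement C) (m : ℕ)
    (hm : ¬ m ∣ C.index) :
    Nat.card {y : X // orderOf y = m} = C.index * Nat.card {x : C // orderOf x = m} := by
  have hm1 : m ≠ 1 := fun h => hm (h ▸ one_dvd _)
  obtain ⟨N, hNn, hNset, hcompl, -, -⟩ := Cfsg.Agent.Helper71.frob_kernel_data hC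
  have hNcard : Nat.card N = C.index := by
    have h1 := hcompl.card_mul_card
    have h2 := Subgroup.card_mul_index C
    have hpos : 0 < Nat.card C := Nat.card_pos
    rw [← h2, mul_comm] at h1
    exact Nat.eq_of_mul_eq_mul_left hpos h1
  -- elements of order `m` lie outside the kernel
  have hout : ∀ y : X, orderOf y = m → y ≠ 1 ∧ ∃ g : X, g⁻¹ * y * g ∈ C := by
    intro y hy
    rw [← Cfsg.Agent.Helper63.not_mem_frobeniusKernel_iff, ← hNset]
    intro hyN
    apply hm
    rw [← hy, ← hNcard]
    have := orderOf_dvd_natCard (⟨y, hyN⟩ : N)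
    rwa [← Subgroup.orderOf_coe] at this
  rw [Subgroup.index_eq_card, ← Nat.card_prod]
  symm
  let φ : (X ⧸ C) × {x : C // orderOf x = m} → {y : X // orderOf y = m} :=
    fun qx => ⟨qx.1.out * (qx.2.1 : X) * qx.1.out⁻¹, by
      rw [orderOf_conj_eq, Subgroup.orderOf_coe]
      exact qx.2.2⟩
  apply Nat.card_eq_of_bijective φ
  constructor
  · rintro ⟨q, ⟨x, hx⟩⟩ ⟨q', ⟨x', hx'⟩⟩ h
    have h' : q.out * (x : X) * q.out⁻¹ = q'.out * (x' : X) * q'.out⁻¹ :=
      congrArg (fun z : {y : X // orderOf y = m} => z.1) h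
    have hx1 : (x : X) ≠ 1 := by
      intro hh
      have : x = 1 := Subtype.ext hh
      rw [this, orderOf_one] at hx
      exact hm1 hx.symm
    set y := q.out * (x : X) * q.out⁻¹ with hy
    have hy1 : y ≠ 1 := by
      intro hh
      apply hx1
      have : (x : X) = q.out⁻¹ * y * q.out := by rw [hy]; group
      rw [this, hh]; group
    have h1 : q.out⁻¹ * y * q.out ∈ C := by
      have : q.out⁻¹ * y * q.out = x := by rw [hy]; group
      rw [this]; exact x.2
    have h2 : q'.out⁻¹ * y * q'.out ∈ C := by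
      have : q'.out⁻¹ * y * q'.out = x' := by rw [h']; group
      rw [this]; exact x'.2
    have h3 := Cfsg.Agent.Helper63.frob_conj_eq hC hy1 h1 h2
    have hq : q = q' := by
      rw [← QuotientGroup.out_eq' q, ← QuotientGroup.out_eq' q']
      exact QuotientGroup.eq.mpr h3
    subst hq
    have hxx : (x : X) = x' := by
      have e1 : (x : X) = q.out⁻¹ * y * q.out := by rw [hy]; group
      have e2 : (x' : X) = q.out⁻¹ * y * q.out := by rw [h']; group
      rw [e1, e2]
    have hxx' : x = x' := Subtype.ext hxx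
    subst hxx'
    rfl
  · rintro ⟨y, hy⟩
    obtain ⟨hy1, g, hg⟩ := hout y hy
    obtain ⟨r, hr⟩ := QuotientGroup.mk_out_eq_mul C g
    set q : X ⧸ C := (g : X ⧸ C) with hq
    have hqout : q.out = g * r := hr
    set x := (r : X)⁻¹ * (g⁻¹ * y * g) * r with hx
    have hxC : x ∈ C := C.mul_mem (C.mul_mem (C.inv_mem r.2) hg) r.2
    have hxeq : x = q.out⁻¹ * y * q.out := by rw [hqout, hx]; group
    have hxord : orderOf (⟨x, hxC⟩ : C) = m := by
      rw [← Subgroup.orderOf_coe]
      show orderOf x = m
      rw [hxeq, ← hy]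
      have := orderOf_conj_eq q.out⁻¹ y
      rwa [inv_inv] at this
    refine ⟨(q, ⟨⟨x, hxC⟩, hxord⟩), ?_⟩
    apply Subtype.ext
    show q.out * x * q.out⁻¹ = y
    rw [hxeq]; group

end Cfsg.Agent.Helper73.FrobOT
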