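import Mathlib
import Cfsg.Prelude.Def_Solvable
import Cfsg.Agent.Helper56.SL25Q

/-!
# (ZB3) for helper10 (S3999): from Zassenhaus' structure of a nonsolvable Frobenius complement
to the count of elements of order 5
-/

set_option autoImplicit false

namespace Cfsg.Agent.Helper73.FrobOT

open Cfsg

universe u

/-- (ZB3) from Zassenhaus' structure to the count of elements of order 5 -/
theorem five_data_of_structure {K : Type u} [Group K] [Finite K]
    (h : ∃ G₀ : Subgroup K, G₀.Normal ∧ (G₀.index = 1 ∨ G₀.index = 2) ∧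
      ∃ S M : Subgroup K, S ⊔ M = G₀ ∧ S ⊓ M = ⊥ ∧ (∀ s ∈ S, ∀ x ∈ M, s * x = x * s) ∧
        Nonempty (S ≃* Matrix.SpecialLinearGroup (Fin 2) (ZMod 5)) ∧
        (∀ (p : ℕ) [Fact p.Prime] (P : Sylow p M), IsCyclic P) ∧ (Nat.card M).Coprime 30)
    (h24 : Nat.card {g : Matrix.SpecialLinearGroup (Fin 2) (ZMod 5) // orderOf g = 5} = 24) :
    2 ∣ Nat.card K ∧ (Nat.card K).factorization 5 = 1 ∧
      Nat.card {x : K // orderOf x = 5} = 24 := by
  obtain ⟨G₀, hG₀n, hidx, S, M, hSM, hdisj, hcomm, ⟨e⟩, -, hcop⟩ := h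
  have hS120 : Nat.card S = 120 := by
    rw [Nat.card_congr e.toEquiv]
    exact Cfsg.Agent.Helper56.SL25Q.card_SL5
  -- the product map `S × M → K`
  let φ : S × M →* K :=
    MonoidHom.noncommCoprod S.subtype M.subtype (fun s m => hcomm s.1 s.2 m.1 m.2)
  have hφ : ∀ s m, φ (s, m) = (s : K) * (m : K) := fun s m => rfl
  have hφinj : Function.Injective φ := by
    refine (MonoidHom.noncommCoprod_injective _ _ _).2
      ⟨S.subtype_injective, M.subtype_injective, ?_⟩
    rw [Subgroup.range_subtype, Subgroup.range_subtype, disjoint_iff]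
    exact hdisj
  have hφrange : φ.range = G₀ := by
    have := MonoidHom.noncommCoprod_range S.subtype M.subtype
      (fun s m => hcomm s.1 s.2 m.1 m.2)
    rw [Subgroup.range_subtype, Subgroup.range_subtype, hSM] at this
    exact this
  have hG₀card : Nat.card G₀ = 120 * Nat.card M := by
    rw [← hφrange, ← Nat.card_congr (MonoidHom.ofInjective hφinj).toEquiv, Nat.card_prod, hS120]
  have hKcard : Nat.card K = G₀.index * (120 * Nat.card M) := by
    rw [← hG₀card, mul_comm]
    exact (Subgroup.card_mul_index G₀).symm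
  have hM0 : Nat.card M ≠ 0 := Nat.card_pos.ne'
  have h5M : ¬ 5 ∣ Nat.card M := by
    intro hd
    have : (5 : ℕ) ∣ Nat.gcd (Nat.card M) 30 := Nat.dvd_gcd hd (by norm_num)
    rw [hcop] at this
    norm_num at this
  have hidx0 : G₀.index ≠ 0 := by
    rcases hidx with h1 | h1 <;> rw [h1] <;> norm_num
  have h5idx : ¬ 5 ∣ G₀.index := by
    rcases hidx with h1 | h1 <;> rw [h1] <;> norm_num
  refine ⟨?_, ?_, ?_⟩
  · rw [hKcard]
    exact Dvd.dvd.mul_left (Dvd.dvd.mul_right (by norm_num) _) _
  · rw [hKcard, Nat.factorization_mul hidx0 (by positivity),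
      Nat.factorization_mul (by norm_num) hM0]
    have e120 : (120 : ℕ) = 5 * 24 := by norm_num
    have h24' : (24 : ℕ).factorization 5 = 0 :=
      Nat.factorization_eq_zero_of_not_dvd (by norm_num)
    have h120 : (120 : ℕ).factorization 5 = 1 := by
      rw [e120, Nat.factorization_mul (by norm_num) (by norm_num)]
      simp only [Finsupp.coe_add, Pi.add_apply, h24', add_zero]
      exact Nat.Prime.factorization_self (by norm_num)
    simp only [Finsupp.coe_add, Pi.add_apply]
    rw [Nat.factorization_eq_zero_of_not_dvd h5idx, Nat.factorization_eq_zero_of_not_dvd h5M,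
      h120]
    -- `0 + (1 + 0) = 1`
    all_goals rfl
  · rw [← h24]
    symm
    refine Nat.card_eq_of_bijective
      (fun g : {g : Matrix.SpecialLinearGroup (Fin 2) (ZMod 5) // orderOf g = 5} =>
        (⟨((e.symm g.1 : S) : K), by
          rw [Subgroup.orderOf_coe, MulEquiv.orderOf_eq]
          exact g.2⟩ : {x : K // orderOf x = 5})) ⟨?_, ?_⟩
    · intro g g' hgg
      have h1 : ((e.symm g.1 : S) : K) = ((e.symm g'.1 : S) : K) :=
        congrArg (fun y : {x : K // orderOf x = 5} => y.1) hgg
      exact Subtype.ext (e.symm.injective (Subtype.ext h1))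
    · rintro ⟨x, hx⟩
      have hx5 : x ^ 5 = 1 := by
        rw [← hx]
        exact pow_orderOf_eq_one x
      -- `x ∈ G₀`
      have hxG : x ∈ G₀ := by
        rcases hidx with h1 | h1
        · rw [Subgroup.index_eq_one] at h1
          rw [h1]
          exact Subgroup.mem_top x
        · have hsq : x ^ 2 ∈ G₀ := Subgroup.sq_mem_of_index_two h1 x
          have : x = (x ^ 2) ^ 3 := by
            rw [← pow_mul]
            calc x = x ^ 5 * x := by rw [hx5, one_mul]
              _ = x ^ (2 * 3) := by rw [← pow_succ]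
          rw [this]
          exact G₀.pow_mem hsq 3
      rw [← hφrange] at hxG
      obtain ⟨⟨s, m⟩, hsm⟩ := hxG
      have hpow : φ (s ^ 5, m ^ 5) = 1 := by
        have : (s ^ 5, m ^ 5) = (s, m) ^ 5 := rfl
        rw [this, map_pow, hsm, hx5]
      have hone : (s ^ 5, m ^ 5) = (1 : S × M) := by
        apply hφinj
        rw [hpow, map_one]
      have hm5 : m ^ 5 = 1 := (Prod.ext_iff.1 hone).2
      have hm1 : m = 1 := by
        have hd1 : orderOf m ∣ 5 := orderOf_dvd_of_pow_eq_one hm5
        have hd2 : orderOf m ∣ Nat.card M := orderOf_dvd_natCard m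
        have hd3 : orderOf m ∣ 30 := hd1.trans (by norm_num)
        have : orderOf m ∣ Nat.gcd (Nat.card M) 30 := Nat.dvd_gcd hd2 hd3
        rw [hcop, Nat.dvd_one] at this
        exact orderOf_eq_one_iff.1 this
      have hxs : x = (s : K) := by
        rw [← hsm, hφ, hm1]
        simp
      refine ⟨⟨e s, ?_⟩, ?_⟩
      · rw [MulEquiv.orderOf_eq, ← Subgroup.orderOf_coe, ← hxs]
        exact hx
      · apply Subtype.ext
        show ((e.symm (e s) : S) : K) = x
        rw [MulEquiv.symm_apply_apply, hxs]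

end Cfsg.Agent.Helper73.FrobOT
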