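import Mathlib
import Cfsg.Agent.Helper77.Blk.Defs
import Cfsg.Agent.Helper63.PGroup
import Cfsg.Agent.Helper76.PGroup

/-!
# S3888 (helper77's Blackburn farm #13307), piece (ACT) `transvAct`

Route: `E ∩ Z(G) ∋ c ≠ 1`, `N = ⟨c⟩` central of order `p`; the image of `E` in `G ⧸ N` is normal of order `p`, hence central,
so every commutator `e⁻¹ (x⁻¹ e x)` lies in `N`.  If `x` moves `e2` then `e1 = e2⁻¹ (x⁻¹ e2 x)` generates `N`, and the fixed
points of `x` on `E` form a subgroup between `N` and `E`, different from `E`, hence equal to `N`.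
-/

set_option autoImplicit false

universe u

namespace Cfsg.Agent.Helper73.Blk

open Subgroup Cfsg.Agent.Helper77.Blk

section setup
variable {G : Type u} [Group G] [Finite G] {p : ℕ} [hp : Fact p.Prime]

/-- all commutators of `E` lie in `⟨c⟩` for a central `c ∈ E` of order `p` -/
theorem ACT_comm_mem (hG : IsPGroup p G) (E : Subgroup G) [hE : E.Normal]
    (hEcard : Nat.card E = p ^ 2) (c : G) (hcE : c ∈ E) (hcZ : c ∈ center G) (hc1 : c ≠ 1)
    (hcp : c ^ p = 1) :
    ∀ e ∈ E, ∀ x : G, e⁻¹ * (x⁻¹ * e * x) ∈ zpowers c := by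
  have hpp : p.Prime := hp.out
  set N : Subgroup G := zpowers c with hN
  have hNZ : N ≤ center G := by
    rw [hN, zpowers_le]
    exact hcZ
  have hNn : N.Normal := by
    refine ⟨fun n hn g => ?_⟩
    have := Subgroup.mem_center_iff.mp (hNZ hn) g
    -- g * n = n * g
    have h2 : g * n * g⁻¹ = n := by
      rw [this, mul_assoc, mul_inv_cancel, mul_one]
    rw [h2]
    exact hn
  have hNcard : Nat.card N = p := by
    rw [hN, Nat.card_zpowers, orderOf_eq_prime hcp hc1]
  have hNE : N ≤ E := by
    rw [hN, zpowers_le]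
    exact hcE
  set f := QuotientGroup.mk' N with hf
  have hfs : Function.Surjective f := QuotientGroup.mk'_surjective N
  set Eb : Subgroup (G ⧸ N) := E.map f with hEb
  have hEbn : Eb.Normal := hE.map f hfs
  have hker : f.ker ≤ E := by
    rw [hf, QuotientGroup.ker_mk']
    exact hNE
  have hidx : Eb.index = E.index := Subgroup.index_map_eq E hfs hker
  have hcardEb : Nat.card Eb = p := by
    have h1 : Nat.card G = Nat.card (G ⧸ N) * Nat.card N :=
      Subgroup.card_eq_card_quotient_mul_card_subgroup N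
    have h2 : Nat.card Eb * Eb.index = Nat.card (G ⧸ N) := Subgroup.card_mul_index Eb
    have h3 : Nat.card E * E.index = Nat.card G := Subgroup.card_mul_index E
    have hi0 : E.index ≠ 0 := Subgroup.index_ne_zero_of_finite
    rw [hidx] at h2
    rw [hNcard, ← h2] at h1
    rw [h1, hEcard] at h3
    -- p^2 * idx = card Eb * idx * p
    have hp0 : p ≠ 0 := hpp.ne_zero
    have h4 : p * p * E.index = Nat.card Eb * p * E.index := by
      calc p * p * E.index = p ^ 2 * E.index := by ring
        _ = Nat.card Eb * E.index * p := h3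
        _ = Nat.card Eb * p * E.index := by ring
    have h5 := Nat.eq_of_mul_eq_mul_right (Nat.pos_of_ne_zero hi0) h4
    exact (Nat.eq_of_mul_eq_mul_right (Nat.pos_of_ne_zero hp0) h5).symm
  have hEbZ : Eb ≤ center (G ⧸ N) :=
    Cfsg.Agent.Helper76.normal_le_center_of_card_prime (hG.to_quotient N) Eb hcardEb
  intro e he x
  have hemem : f e ∈ Eb := Subgroup.mem_map_of_mem f he
  have hcomm := Subgroup.mem_center_iff.mp (hEbZ hemem) (f x)
  -- f x * f e = f e * f x
  rw [← QuotientGroup.eq_one_iff]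
  have : ((e⁻¹ * (x⁻¹ * e * x) : G) : G ⧸ N) = (f e)⁻¹ * ((f x)⁻¹ * f e * f x) := by
    simp [hf]
  rw [this, mul_assoc (f x)⁻¹, ← hcomm, ← mul_assoc (f x)⁻¹, inv_mul_cancel, one_mul,
    inv_mul_cancel]

/-- (ACT) every `x` acts on `E ≅ C_p²` (normal in the `p`-group `G`) as a transvection (or trivially). -/
theorem transvAct (hG : IsPGroup p G) (E : Subgroup G) [E.Normal]
    (hEcard : Nat.card E = p ^ 2) (hEexp : ∀ e ∈ E, e ^ p = 1) (x : G) : TransvAct E x := by
  have hpp : p.Prime := hp.out
  have hEne : E ≠ ⊥ := by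
    intro h
    rw [h, Subgroup.card_bot] at hEcard
    have : 1 < p ^ 2 := Nat.one_lt_pow (by norm_num) hpp.one_lt
    omega
  have hmeet := Cfsg.Agent.Helper63.normal_inf_center_ne_bot hG E hEne
  obtain ⟨⟨c, hc⟩, hc1'⟩ := (Subgroup.ne_bot_iff_exists_ne_one).mp hmeet
  have hc1 : c ≠ 1 := fun h => hc1' (Subtype.ext h)
  obtain ⟨hcE, hcZ⟩ := Subgroup.mem_inf.mp hc
  have hcomm := ACT_comm_mem hG E hEcard c hcE hcZ hc1 (hEexp c hcE)
  have hNZ : zpowers c ≤ center G := by
    rw [zpowers_le]
    exact hcZ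
  have hNE : zpowers c ≤ E := by
    rw [zpowers_le]
    exact hcE
  have hNcard : Nat.card (zpowers c) = p := by
    rw [Nat.card_zpowers, orderOf_eq_prime (hEexp c hcE) hc1]
  intro e2 he2 hmove
  set e1 := e2⁻¹ * (x⁻¹ * e2 * x) with he1
  have he1N : e1 ∈ zpowers c := hcomm e2 he2 x
  have he1ne : e1 ≠ 1 := by
    intro h
    apply hmove
    exact (inv_mul_eq_one.mp h).symm
  have hNle : ∀ n ∈ zpowers c, n ∈ zpowers e1 := by
    intro n hn
    have hmem := mem_zpowers_of_prime_card (G := zpowers c) hNcard (g := ⟨e1, he1N⟩)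
      (g' := ⟨n, hn⟩) (by
        intro h
        apply he1ne
        exact congrArg Subtype.val h)
    obtain ⟨k, hk⟩ := hmem
    refine ⟨k, ?_⟩
    have := congrArg Subtype.val hk
    simpa using this
  refine ⟨?_, ?_, ?_⟩
  · have hz : e1 ∈ center G := hNZ he1N
    have h := Subgroup.mem_center_iff.mp hz x
    rw [mul_assoc, ← h, ← mul_assoc, inv_mul_cancel, one_mul]
  · intro e he hfix
    apply hNle
    -- the fixed points of `x` in `E`
    set F : Subgroup G := E ⊓ centralizer ({x} : Set G) with hF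
    have hNF : zpowers c ≤ F := by
      refine le_inf hNE ?_
      intro n hn
      rw [Subgroup.mem_centralizer_iff]
      intro h hh
      rw [Set.mem_singleton_iff.mp hh]
      exact Subgroup.mem_center_iff.mp (hNZ hn) x
    have hFE : F ≤ E := inf_le_left
    have he2F : e2 ∉ F := by
      intro h
      have h2 := Subgroup.mem_centralizer_iff.mp (Subgroup.mem_inf.mp h).2 x rfl
      -- x * e2 = e2 * x
      apply hmove
      rw [mul_assoc, ← h2, ← mul_assoc, inv_mul_cancel, one_mul]
    have heF : e ∈ F := by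
      refine Subgroup.mem_inf.mpr ⟨he, ?_⟩
      rw [Subgroup.mem_centralizer_iff]
      intro h hh
      rw [Set.mem_singleton_iff.mp hh]
      -- x * e = e * x from x⁻¹ * e * x = e
      have : x * (x⁻¹ * e * x) = x * e := by rw [hfix]
      rw [← this]
      group
    have hd1 : Nat.card F ∣ p ^ 2 := hEcard ▸ Subgroup.card_dvd_of_le hFE
    have hd2 : p ∣ Nat.card F := hNcard ▸ Subgroup.card_dvd_of_le hNF
    obtain ⟨k, hk2, hk⟩ := (Nat.dvd_prime_pow hpp).mp hd1
    have hk0 : k ≠ 0 := by
      rintro rfl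
      rw [pow_zero] at hk
      rw [hk] at hd2
      exact hpp.one_lt.ne' (Nat.dvd_one.mp hd2)
    have hk2' : k ≠ 2 := by
      rintro rfl
      have : F = E := Subgroup.eq_of_le_of_card_ge hFE (by rw [hk, hEcard])
      exact he2F (this ▸ he2)
    have hk1 : k = 1 := by omega
    rw [hk1, pow_one] at hk
    have hNF' : zpowers c = F := Subgroup.eq_of_le_of_card_ge hNF (by rw [hk, hNcard])
    rw [hNF']
    exact heF
  · intro e he
    exact hNle _ (hcomm e he x)

end setup

end Cfsg.Agent.Helper73.Blk
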