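import Mathlib
import Cfsg.Agent.Helper43.SpSSD

set_option autoImplicit false

/-!
# A polynomial norm lemma for fields with an involution

`K` a finite field, `σ` a ring automorphism of `K` with `σ ∘ σ = id`, `σ ≠ id`.
If `m, u : K[X]` are `σ`-stable (coefficientwise) and coprime, then there is `p : K[X]` with
`m ∣ p^σ * p - u`.
-/

namespace Cfsg.Agent.Helper73.HermNorm

open Polynomial

variable {K : Type*} [Field K]

/-- The coefficientwise action of a ring hom on polynomials. -/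
noncomputable abbrev sg (σ : K →+* K) (P : K[X]) : K[X] := P.map σ

/-- Solvability of the norm congruence modulo `m`. -/
def Sol (σ : K →+* K) (m u : K[X]) : Prop := ∃ p : K[X], m ∣ sg σ p * p - u

theorem sg_sg (σ : K →+* K) (hσ2 : ∀ x, σ (σ x) = x) (P : K[X]) : sg σ (sg σ P) = P := by
  unfold sg
  rw [Polynomial.map_map]
  have : σ.comp σ = RingHom.id K := RingHom.ext hσ2
  rw [this, Polynomial.map_id]

theorem sg_dvd (σ : K →+* K) {a b : K[X]} (h : a ∣ b) : sg σ a ∣ sg σ b := by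
  obtain ⟨c, rfl⟩ := h
  exact ⟨sg σ c, Polynomial.map_mul σ⟩

/-- There is `λ` with `λ + σ λ = 1`. -/
theorem exists_trace_one (σ : K →+* K) (hσ2 : ∀ x, σ (σ x) = x) (hσ : ∃ x, σ x ≠ x) :
    ∃ l : K, l + σ l = 1 := by
  obtain ⟨a, ha⟩ := hσ
  by_cases h : a + σ a = 0
  · have h2 : (2 : K) ≠ 0 := by
      intro h2
      apply ha
      have : σ a = -a := by linear_combination h
      rw [this]
      have : (2 : K) * a = 0 := by rw [h2, zero_mul]
      linear_combination -this
    refine ⟨1 / 2, ?_⟩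
    rw [map_div₀, map_one, map_ofNat]
    field_simp
    norm_num
  · refine ⟨a / (a + σ a), ?_⟩
    rw [map_div₀, map_add, hσ2, add_comm (σ a) a]
    field_simp

/-- Hensel step. -/
theorem sol_pow (σ : K →+* K) (hσ2 : ∀ x, σ (σ x) = x) (hσ : ∃ x, σ x ≠ x)
    {g u : K[X]} (hg : sg σ g = g) (hu : sg σ u = u) (hug : IsCoprime u g)
    (h1 : Sol σ g u) : ∀ e : ℕ, Sol σ (g ^ e) u := by
  obtain ⟨l, hl⟩ := exists_trace_one σ hσ2 hσ
  intro e
  induction e with
  | zero => exact ⟨0, by simp⟩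
  | succ e ih =>
    rcases Nat.eq_zero_or_pos e with rfl | he
    · simpa using h1
    obtain ⟨p, hp⟩ := ih
    have hgp : g ∣ sg σ p * p - u := dvd_trans (dvd_pow_self g he.ne') hp
    -- `sg p` is coprime to `g`
    have hcop : IsCoprime (sg σ p) g := by
      have h2 : IsCoprime (sg σ p * p) g := by
        obtain ⟨c, hc⟩ := hgp
        have : sg σ p * p = u + g * c := by linear_combination hc
        rw [this]
        exact hug.add_mul_left_left c
      exact h2.of_mul_left_left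
    obtain ⟨v, a, hva⟩ := hcop
    have hva' : sg σ v * p + sg σ a * g = 1 := by
      have := congrArg (sg σ) hva
      simp only [sg, Polynomial.map_add, Polynomial.map_mul, Polynomial.map_one] at this
      have e1 : (p.map σ).map σ = p := sg_sg σ hσ2 p
      have e2 : g.map σ = g := hg
      rw [e1, e2] at this
      exact this
    obtain ⟨s, hs⟩ := hp
    set t : K[X] := u - sg σ p * p with ht
    have hts : t = g ^ e * (-s) := by rw [ht]; linear_combination -hs
    have htσ : sg σ t = t := by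
      rw [ht]
      simp only [sg, Polynomial.map_sub, Polynomial.map_mul]
      have e1 : (p.map σ).map σ = p := sg_sg σ hσ2 p
      have e2 : u.map σ = u := hu
      rw [e1, e2]
      ring
    refine ⟨p + C l * t * v, ?_⟩
    have hsg : sg σ (p + C l * t * v) = sg σ p + C (σ l) * t * sg σ v := by
      simp only [sg, Polynomial.map_add, Polynomial.map_mul, Polynomial.map_C]
      have e2 : t.map σ = t := htσ
      rw [e2]
    rw [hsg]
    have hC : (C l : K[X]) + C (σ l) = 1 := by rw [← C_add, hl, C_1]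
    have key : (sg σ p + C (σ l) * t * sg σ v) * (p + C l * t * v) - u
        = -((t * g) * (C l * a + C (σ l) * sg σ a) - (t * t) * (C l * C (σ l) * v * sg σ v)) := by
      have hu' : u = t + sg σ p * p := by rw [ht]; ring
      rw [hu']
      linear_combination (C l * t) * hva + (C (σ l) * t) * hva' + t * hC
    rw [key, dvd_neg]
    have d1 : g ^ (e + 1) ∣ t * g := by
      rw [hts, pow_succ]
      exact ⟨-s, by ring⟩
    have d2 : g ^ (e + 1) ∣ t * t := by
      rw [hts]
      have : g ^ e * -s * (g ^ e * -s) = g ^ (e + 1) * (g ^ (e - 1) * (s * s)) := by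
        have : e + 1 + (e - 1) = e + e := by omega
        calc g ^ e * -s * (g ^ e * -s) = g ^ (e + e) * (s * s) := by ring
          _ = g ^ (e + 1 + (e - 1)) * (s * s) := by rw [this]
          _ = _ := by ring
      rw [this]
      exact dvd_mul_right _ _
    exact dvd_sub (dvd_mul_of_dvd_left d1 _) (dvd_mul_of_dvd_left d2 _)

/-- Congruent polynomials have congruent norms modulo a stable modulus. -/
theorem norm_congr (σ : K →+* K) {m p p' : K[X]} (hm : sg σ m = m) (h : m ∣ p - p') :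
    m ∣ sg σ p * p - sg σ p' * p' := by
  have h' : m ∣ sg σ p - sg σ p' := by
    have := sg_dvd σ h
    rw [hm] at this
    simpa [sg, Polynomial.map_sub] using this
  have : sg σ p * p - sg σ p' * p' = (sg σ p - sg σ p') * p + sg σ p' * (p - p') := by ring
  rw [this]
  exact dvd_add (dvd_mul_of_dvd_left h' _) (dvd_mul_of_dvd_right h _)

/-- CRT combination. -/
theorem sol_mul (σ : K →+* K) {m₁ m₂ u : K[X]} (h₁ : sg σ m₁ = m₁) (h₂ : sg σ m₂ = m₂)
    (hc : IsCoprime m₁ m₂) (s₁ : Sol σ m₁ u) (s₂ : Sol σ m₂ u) : Sol σ (m₁ * m₂) u := by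
  obtain ⟨p₁, hp₁⟩ := s₁
  obtain ⟨p₂, hp₂⟩ := s₂
  obtain ⟨x, y, hxy⟩ := hc
  refine ⟨p₁ * (y * m₂) + p₂ * (x * m₁), ?_⟩
  apply IsCoprime.mul_dvd ⟨x, y, hxy⟩
  · have hd : m₁ ∣ (p₁ * (y * m₂) + p₂ * (x * m₁)) - p₁ :=
      ⟨x * (p₂ - p₁), by linear_combination p₁ * hxy⟩
    have := norm_congr σ h₁ hd
    have e : sg σ (p₁ * (y * m₂) + p₂ * (x * m₁)) * (p₁ * (y * m₂) + p₂ * (x * m₁)) - u
      = (sg σ (p₁ * (y * m₂) + p₂ * (x * m₁)) * (p₁ * (y * m₂) + p₂ * (x * m₁)) - sg σ p₁ * p₁)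
        + (sg σ p₁ * p₁ - u) := by ring
    rw [e]
    exact dvd_add this hp₁
  · have hd : m₂ ∣ (p₁ * (y * m₂) + p₂ * (x * m₁)) - p₂ :=
      ⟨y * (p₁ - p₂), by linear_combination p₂ * hxy⟩
    have := norm_congr σ h₂ hd
    have e : sg σ (p₁ * (y * m₂) + p₂ * (x * m₁)) * (p₁ * (y * m₂) + p₂ * (x * m₁)) - u
      = (sg σ (p₁ * (y * m₂) + p₂ * (x * m₁)) * (p₁ * (y * m₂) + p₂ * (x * m₁)) - sg σ p₂ * p₂)
        + (sg σ p₂ * p₂ - u) := by ring
    rw [e]
    exact dvd_add this hp₂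

/-- Swapped pair case. -/
theorem sol_pair (σ : K →+* K) (hσ2 : ∀ x, σ (σ x) = x) {a u : K[X]} (hu : sg σ u = u)
    (hc : IsCoprime a (sg σ a)) : Sol σ (a * sg σ a) u := by
  obtain ⟨x, y, hxy⟩ := hc
  -- p ≡ u mod a, p ≡ 1 mod sg a
  set P : K[X] := u * (y * sg σ a) + x * a with hP
  have d1 : a ∣ P - u := ⟨x * (1 - u), by rw [hP]; linear_combination u * hxy⟩
  have d2 : sg σ a ∣ P - 1 := ⟨y * (u - 1), by rw [hP]; linear_combination hxy⟩
  have d3 : sg σ a ∣ sg σ P - u := by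
    have := sg_dvd σ d1
    simpa [sg, Polynomial.map_sub, show u.map σ = u from hu] using this
  have d4 : a ∣ sg σ P - 1 := by
    have := sg_dvd σ d2
    rw [sg_sg σ hσ2 a] at this
    simpa [sg, Polynomial.map_sub] using this
  refine ⟨P, ?_⟩
  apply IsCoprime.mul_dvd ⟨x, y, hxy⟩
  · have : sg σ P * P - u = (sg σ P - 1) * P + (P - u) := by ring
    rw [this]
    exact dvd_add (dvd_mul_of_dvd_left d4 _) d1
  · have : sg σ P * P - u = sg σ P * (P - 1) + (sg σ P - u) := by ring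
    rw [this]
    exact dvd_add (dvd_mul_of_dvd_right d2 _) d3

/-- The induced endomorphism of `AdjoinRoot g` for a stable `g`. -/
noncomputable def tau (σ : K →+* K) {g : K[X]} (hg : sg σ g = g) : AdjoinRoot g →+* AdjoinRoot g :=
  AdjoinRoot.lift ((AdjoinRoot.of g).comp σ) (AdjoinRoot.root g) (by
    rw [← Polynomial.eval₂_map, show g.map σ = g from hg]
    exact AdjoinRoot.eval₂_root g)

theorem tau_mk (σ : K →+* K) {g : K[X]} (hg : sg σ g = g) (P : K[X]) :
    tau σ hg (AdjoinRoot.mk g P) = AdjoinRoot.mk g (sg σ P) := by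
  unfold tau
  rw [AdjoinRoot.lift_mk, ← Polynomial.eval₂_map, ← AdjoinRoot.aeval_eq, Polynomial.aeval_def,
    AdjoinRoot.algebraMap_eq]

theorem tau_tau (σ : K →+* K) (hσ2 : ∀ x, σ (σ x) = x) {g : K[X]} (hg : sg σ g = g)
    (x : AdjoinRoot g) : tau σ hg (tau σ hg x) = x := by
  obtain ⟨P, rfl⟩ := AdjoinRoot.mk_surjective x
  rw [tau_mk, tau_mk, sg_sg σ hσ2]

theorem sol_irreducible [Finite K] (σ : K →+* K) (hσ2 : ∀ x, σ (σ x) = x) (hσ : ∃ x, σ x ≠ x)
    {g u : K[X]} (hgi : Irreducible g) (hg : sg σ g = g) (hu : sg σ u = u) (hgu : ¬ g ∣ u) :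
    Sol σ g u := by
  have : Fact (Irreducible g) := ⟨hgi⟩
  let E := AdjoinRoot g
  have hfin : Module.Finite K E := (AdjoinRoot.powerBasis hgi.ne_zero).finite
  have : Finite E := Module.finite_of_finite K
  have : Fintype E := Fintype.ofFinite E
  let p := ringChar E
  have hp : Fact p.Prime := ⟨CharP.char_is_prime E p⟩
  let _ : Algebra (ZMod p) E := ZMod.algebra E p
  let τe : E ≃+* E := RingEquiv.ofRingHom (tau σ hg) (tau σ hg)
    (RingHom.ext (tau_tau σ hσ2 hg)) (RingHom.ext (tau_tau σ hσ2 hg))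
  let τa : E ≃ₐ[ZMod p] E := AlgEquiv.ofRingEquiv (f := τe) (by
    intro x
    have : (τe : E →+* E).comp (algebraMap (ZMod p) E) = algebraMap (ZMod p) E :=
      Subsingleton.elim _ _
    exact RingHom.congr_fun this x)
  have hτa : ∀ x, τa x = tau σ hg x := fun x => rfl
  obtain ⟨x0, hx0⟩ := hσ
  have hne : ∃ x, τa x ≠ x := by
    refine ⟨AdjoinRoot.of g x0, ?_⟩
    rw [hτa]
    have : AdjoinRoot.of g x0 = AdjoinRoot.mk g (C x0) := rfl
    rw [this, tau_mk]
    simp only [sg, Polynomial.map_C]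
    intro h
    apply hx0
    exact (AdjoinRoot.of g).injective h
  have hb : τa (AdjoinRoot.mk g u) = AdjoinRoot.mk g u := by
    rw [hτa, tau_mk, hu]
  have hb0 : AdjoinRoot.mk g u ≠ 0 := by
    rw [Ne, AdjoinRoot.mk_eq_zero]
    exact hgu
  obtain ⟨a, ha⟩ := Cfsg.Agent.Helper43.SpSS.exists_norm_field τa
    (fun x => by rw [hτa, hτa]; exact tau_tau σ hσ2 hg x) hne hb hb0
  obtain ⟨P, rfl⟩ := AdjoinRoot.mk_surjective a
  refine ⟨P, ?_⟩
  rw [← AdjoinRoot.mk_eq_zero, map_sub, map_mul, sub_eq_zero, ← ha, hτa, tau_mk, mul_comm]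


theorem sg_irreducible (σ : K →+* K) (hσ2 : ∀ x, σ (σ x) = x) {g : K[X]} (hg : Irreducible g) :
    Irreducible (sg σ g) := by
  let e : K[X] ≃+* K[X] := RingEquiv.ofRingHom (Polynomial.mapRingHom σ) (Polynomial.mapRingHom σ)
    (RingHom.ext (sg_sg σ hσ2)) (RingHom.ext (sg_sg σ hσ2))
  exact (MulEquiv.irreducible_iff (e : K[X] ≃* K[X])).2 hg

theorem sg_pow (σ : K →+* K) (g : K[X]) (e : ℕ) : sg σ (g ^ e) = sg σ g ^ e :=
  Polynomial.map_pow σ e

theorem sg_mul (σ : K →+* K) (a b : K[X]) : sg σ (a * b) = sg σ a * sg σ b :=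
  Polynomial.map_mul σ

/-- **Norm lemma.**  For a finite field `K` with a nontrivial involution `σ`, stable coprime
polynomials `m, u`: there is `p` with `m ∣ p^σ * p - u`. -/
theorem sol_main [Finite K] (σ : K →+* K) (hσ2 : ∀ x, σ (σ x) = x) (hσ : ∃ x, σ x ≠ x)
    {u : K[X]} (hu : sg σ u = u) :
    ∀ (n : ℕ) (m : K[X]), m.natDegree = n → m ≠ 0 → sg σ m = m → IsCoprime u m → Sol σ m u := by
  intro n
  induction n using Nat.strong_induction_on with
  | _ n ih =>
  intro m hn hm0 hmσ hum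
  by_cases hunit : IsUnit m
  · exact ⟨0, hunit.dvd⟩
  obtain ⟨g, hgm, hgi, hgd⟩ := Polynomial.exists_monic_irreducible_factor m hunit
  have hg' : (sg σ g).Monic := hgm.map σ
  have hgi' : Irreducible (sg σ g) := sg_irreducible σ hσ2 hgi
  have hfm : FiniteMultiplicity g m := FiniteMultiplicity.of_not_isUnit hgi.not_isUnit hm0
  obtain ⟨c, hc, hgc⟩ := hfm.exists_eq_pow_mul_and_not_dvd
  set e := multiplicity g m with he_def
  have he : 0 < e := by
    rcases Nat.eq_zero_or_pos e with h0 | h0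
    · exfalso
      rw [h0, pow_zero, one_mul] at hc
      exact hgc (hc ▸ hgd)
    · exact h0
  have hc0 : c ≠ 0 := by
    rintro rfl
    exact hm0 (by rw [hc, mul_zero])
  have hge0 : g ^ e ≠ 0 := pow_ne_zero e hgi.ne_zero
  have hgdeg : 0 < g.natDegree := hgi.natDegree_pos
  have hgu : ¬ g ∣ u := by
    have h1 : IsCoprime u g := hum.of_isCoprime_of_dvd_right hgd
    exact (hgi.coprime_iff_not_dvd).1 h1.symm
  have hdegm : m.natDegree = e * g.natDegree + c.natDegree := by
    rw [hc, Polynomial.natDegree_mul hge0 hc0, Polynomial.natDegree_pow]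
  by_cases hst : sg σ g = g
  · -- stable irreducible factor
    have hcσ : sg σ c = c := by
      have h1 : sg σ m = g ^ e * sg σ c := by
        conv_lhs => rw [hc]
        rw [sg_mul, sg_pow, hst]
      rw [hmσ] at h1
      have h2 : g ^ e * c = g ^ e * sg σ c := by rw [← hc]; exact h1
      exact (mul_left_cancel₀ hge0 h2).symm
    have hcop : IsCoprime (g ^ e) c := ((hgi.coprime_iff_not_dvd).2 hgc).pow_left
    have hdeg : c.natDegree < n := by
      rw [← hn, hdegm]
      have : 1 ≤ e * g.natDegree := Nat.mul_pos he hgdeg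
      omega
    have s1 : Sol σ (g ^ e) u :=
      sol_pow σ hσ2 hσ hst hu (hum.of_isCoprime_of_dvd_right hgd)
        (sol_irreducible σ hσ2 hσ hgi hst hu hgu) e
    have s2 : Sol σ c u :=
      ih c.natDegree hdeg c rfl hc0 hcσ (hum.of_isCoprime_of_dvd_right ⟨g ^ e, by rw [hc]; ring⟩)
    rw [hc]
    exact sol_mul σ (by rw [sg_pow, hst]) hcσ hcop s1 s2
  · -- swapped pair of irreducible factors
    have hcopg : IsCoprime g (sg σ g) := by
      refine (hgi.coprime_iff_not_dvd).2 (fun h => hst ?_)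
      exact eq_of_monic_of_associated hg' hgm (hgi.associated_of_dvd hgi' h).symm
    have hd1 : sg σ g ^ e ∣ m := by
      have : sg σ (g ^ e) ∣ sg σ m := sg_dvd σ ⟨c, hc⟩
      rwa [sg_pow, hmσ] at this
    have hcope : IsCoprime (g ^ e) (sg σ g ^ e) := hcopg.pow
    have hd2 : sg σ g ^ e ∣ c := by
      rw [hc] at hd1
      exact hcope.symm.dvd_of_dvd_mul_left hd1
    obtain ⟨c', hc'⟩ := hd2
    have hm' : m = (g ^ e * sg σ (g ^ e)) * c' := by
      rw [hc, hc', sg_pow]; ring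
    have hsge0 : sg σ g ^ e ≠ 0 := pow_ne_zero e hgi'.ne_zero
    have hc'0 : c' ≠ 0 := by
      rintro rfl
      exact hc0 (by rw [hc', mul_zero])
    have hc'σ : sg σ c' = c' := by
      have h1 : sg σ m = (g ^ e * sg σ g ^ e) * sg σ c' := by
        conv_lhs => rw [hm']
        rw [sg_mul, sg_mul, sg_sg σ hσ2, sg_pow]; ring
      rw [hmσ, hm', sg_pow] at h1
      exact (mul_left_cancel₀ (mul_ne_zero hge0 hsge0) h1).symm
    have hgc' : ¬ g ∣ c' := fun h => hgc (by rw [hc']; exact dvd_mul_of_dvd_right h _)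
    have hgc'' : ¬ sg σ g ∣ c' := by
      intro h
      have := sg_dvd σ h
      rw [sg_sg σ hσ2, hc'σ] at this
      exact hgc' this
    have hcop : IsCoprime (g ^ e * sg σ (g ^ e)) c' := by
      rw [sg_pow]
      exact IsCoprime.mul_left ((hgi.coprime_iff_not_dvd).2 hgc').pow_left
        ((hgi'.coprime_iff_not_dvd).2 hgc'').pow_left
    have hdeg : c'.natDegree < n := by
      rw [← hn, hdegm, hc', Polynomial.natDegree_mul hsge0 hc'0]
      have : 1 ≤ e * g.natDegree := Nat.mul_pos he hgdeg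
      omega
    have s1 : Sol σ (g ^ e * sg σ (g ^ e)) u :=
      sol_pair σ hσ2 hu (by rw [sg_pow]; exact hcope)
    have s2 : Sol σ c' u :=
      ih c'.natDegree hdeg c' rfl hc'0 hc'σ
        (hum.of_isCoprime_of_dvd_right ⟨g ^ e * sg σ (g ^ e), by rw [hm']; ring⟩)
    rw [hm']
    exact sol_mul σ (by rw [sg_mul, sg_sg σ hσ2]; ring) hc'σ hcop s1 s2

/-- Final form of the norm lemma. -/
theorem exists_norm_poly [Finite K] (σ : K →+* K) (hσ2 : ∀ x, σ (σ x) = x) (hσ : ∃ x, σ x ≠ x)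
    {m u : K[X]} (hm0 : m ≠ 0) (hm : m.map σ = m) (hu : u.map σ = u) (hum : IsCoprime u m) :
    ∃ p : K[X], m ∣ p.map σ * p - u :=
  sol_main σ hσ2 hσ hu m.natDegree m rfl hm0 hm hum

end Cfsg.Agent.Helper73.HermNorm
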