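import Mathlib

set_option autoImplicit false

/-!
# A Hilbert-90-type lemma for finite commutative rings with involution

`R` finite commutative ring, `ι` an involutive ring automorphism, `T * ι T = 1`, and some `a` with
`a - ι a` a unit.  Then there is `y` with `y + T * ι y` a unit (so that `x = y + T ι y` is a unit
with `x = T * ι x`).
-/

namespace Cfsg.Agent.Helper73.RingH90

theorem exists_isUnit_add {R : Type*} [CommRing R] [Finite R] (ι : R ≃+* R)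
    (hι : ∀ x, ι (ι x) = x) (T : R) (hT : T * ι T = 1) (a : R) (ha : IsUnit (a - ι a)) :
    ∃ y : R, IsUnit (y + T * ι y) := by
  classical
  let M := {𝔪 : Ideal R // 𝔪.IsMaximal}
  have : Finite M := inferInstance
  obtain ⟨k, ⟨e⟩⟩ := Finite.exists_equiv_fin M
  let ιM : M → M := fun 𝔪 => ⟨Ideal.comap ι 𝔪.1, by
    have := 𝔪.2
    exact Ideal.comap_isMaximal_of_surjective ι ι.surjective⟩
  have hιM_mem : ∀ (𝔪 : M) (z : R), z ∈ (ιM 𝔪).1 ↔ ι z ∈ 𝔪.1 := fun 𝔪 z => Iff.rfl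
  have hιM2 : ∀ 𝔪 : M, ιM (ιM 𝔪) = 𝔪 := by
    intro 𝔪
    apply Subtype.ext
    ext z
    rw [hιM_mem, hιM_mem, hι]
  let c : M → R := fun 𝔪 =>
    if ιM 𝔪 = 𝔪 then (if 1 + T ∈ 𝔪.1 then a else 1)
    else (if e 𝔪 < e (ιM 𝔪) then 1 else 0)
  have hcop : Pairwise (Function.onFun IsCoprime (fun 𝔪 : M => 𝔪.1)) := by
    intro 𝔪 𝔪' hne
    show IsCoprime 𝔪.1 𝔪'.1
    rw [Ideal.isCoprime_iff_sup_eq]
    exact Ideal.IsMaximal.coprime_of_ne 𝔪.2 𝔪'.2 (fun h => hne (Subtype.ext h))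
  obtain ⟨y, hy⟩ := Ideal.exists_forall_sub_mem_ideal hcop c
  refine ⟨y, ?_⟩
  by_contra hnu
  obtain ⟨I, hI, hxI⟩ := exists_max_ideal_of_mem_nonunits (show y + T * ι y ∈ nonunits R from hnu)
  let 𝔪 : M := ⟨I, hI⟩
  have hTu : IsUnit T := IsUnit.of_mul_eq_one _ hT
  have hne_top : I ≠ ⊤ := hI.ne_top
  have hunit_not_mem : ∀ u : R, IsUnit u → u ∉ I := fun u hu hmem =>
    hne_top (Ideal.eq_top_of_isUnit_mem I hmem hu)
  -- congruences
  have h1 : y - c 𝔪 ∈ I := hy 𝔪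
  have h2 : ι y - ι (c (ιM 𝔪)) ∈ I := by
    have := hy (ιM 𝔪)
    rw [hιM_mem, map_sub] at this
    exact this
  have hx : c 𝔪 + T * ι (c (ιM 𝔪)) ∈ I := by
    have : c 𝔪 + T * ι (c (ιM 𝔪))
        = (y + T * ι y) - (y - c 𝔪) - T * (ι y - ι (c (ιM 𝔪))) := by ring
    rw [this]
    exact I.sub_mem (I.sub_mem hxI h1) (I.mul_mem_left T h2)
  by_cases hfix : ιM 𝔪 = 𝔪
  · rw [hfix] at hx
    by_cases hT1 : 1 + T ∈ I
    · have hc : c 𝔪 = a := by
        show (if ιM 𝔪 = 𝔪 then (if 1 + T ∈ 𝔪.1 then a else 1)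
          else (if e 𝔪 < e (ιM 𝔪) then 1 else 0)) = a
        rw [if_pos hfix, if_pos hT1]
      rw [hc] at hx
      have : a - ι a ∈ I := by
        have e1 : a - ι a = (a + T * ι a) - (1 + T) * ι a := by ring
        rw [e1]
        exact I.sub_mem hx (I.mul_mem_right _ hT1)
      exact hunit_not_mem _ ha this
    · have hc : c 𝔪 = 1 := by
        show (if ιM 𝔪 = 𝔪 then (if 1 + T ∈ 𝔪.1 then a else 1)
          else (if e 𝔪 < e (ιM 𝔪) then 1 else 0)) = 1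
        rw [if_pos hfix, if_neg hT1]
      rw [hc, map_one, mul_one] at hx
      exact hT1 hx
  · have hfix' : ιM (ιM 𝔪) ≠ ιM 𝔪 := by
      rw [hιM2]
      exact fun h => hfix h.symm
    have hene : e 𝔪 ≠ e (ιM 𝔪) := fun h => hfix (e.injective h).symm
    rcases lt_or_gt_of_ne hene with hlt | hgt
    · have hc1 : c 𝔪 = 1 := by
        show (if ιM 𝔪 = 𝔪 then (if 1 + T ∈ 𝔪.1 then a else 1)
          else (if e 𝔪 < e (ιM 𝔪) then 1 else 0)) = 1
        rw [if_neg hfix, if_pos hlt]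
      have hc2 : c (ιM 𝔪) = 0 := by
        show (if ιM (ιM 𝔪) = ιM 𝔪 then (if 1 + T ∈ (ιM 𝔪).1 then a else 1)
          else (if e (ιM 𝔪) < e (ιM (ιM 𝔪)) then 1 else 0)) = 0
        rw [if_neg hfix', hιM2, if_neg (not_lt.2 hlt.le)]
      rw [hc1, hc2, map_zero, mul_zero, add_zero] at hx
      exact hunit_not_mem 1 isUnit_one hx
    · have hc1 : c 𝔪 = 0 := by
        show (if ιM 𝔪 = 𝔪 then (if 1 + T ∈ 𝔪.1 then a else 1)
          else (if e 𝔪 < e (ιM 𝔪) then 1 else 0)) = 0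
        rw [if_neg hfix, if_neg (not_lt.2 hgt.le)]
      have hc2 : c (ιM 𝔪) = 1 := by
        show (if ιM (ιM 𝔪) = ιM 𝔪 then (if 1 + T ∈ (ιM 𝔪).1 then a else 1)
          else (if e (ιM 𝔪) < e (ιM (ιM 𝔪)) then 1 else 0)) = 1
        rw [if_neg hfix', hιM2, if_pos hgt]
      rw [hc1, hc2, map_one, mul_one, zero_add] at hx
      exact hunit_not_mem T hTu hx

end Cfsg.Agent.Helper73.RingH90
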