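import Mathlib
import Cfsg.Agent.S2587
import Cfsg.Agent.Helper73.RingH90

set_option autoImplicit false

/-!
# Invariant Hermitian forms

If an invertible matrix `A` over `F_{q²}` leaves a nondegenerate sesquilinear form invariant
(`A* g A = g`), then it leaves a nondegenerate *Hermitian* form invariant, hence is conjugate to an
element of `GU_n(q)`.
-/

namespace Cfsg.Agent.Helper73.HermInv

open Matrix Polynomial Cfsg.Agent.S2587

variable {K : Type*} [Field K] {n : ℕ}

theorem conj_pow {g gi M : Matrix (Fin n) (Fin n) K} (hg1 : g * gi = 1) (k : ℕ) :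
    (gi * M * g) ^ k * gi = gi * M ^ k := by
  induction k with
  | zero => simp
  | succ k ih =>
    rw [pow_succ', mul_assoc, ih, pow_succ']
    calc gi * M * g * (gi * M ^ k) = gi * M * (g * gi) * M ^ k := by simp only [mul_assoc]
      _ = gi * (M * M ^ k) := by rw [hg1, mul_one]; simp only [mul_assoc]

theorem aeval_conj_mat {g gi : Matrix (Fin n) (Fin n) K} (hg1 : g * gi = 1) (hg2 : gi * g = 1)
    (M : Matrix (Fin n) (Fin n) K) (P : K[X]) :
    aeval (gi * M * g) P = gi * aeval M P * g := by
  induction P using Polynomial.induction_on' with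
  | add p q hp hq => rw [map_add, map_add, hp, hq, mul_add, add_mul]
  | monomial k c =>
    rw [Polynomial.aeval_monomial, Polynomial.aeval_monomial, ← Algebra.smul_def,
      ← Algebra.smul_def, Matrix.mul_smul, Matrix.smul_mul]
    congr 1
    have := conj_pow (M := M) hg1 k
    calc (gi * M * g) ^ k = (gi * M * g) ^ k * (gi * g) := by rw [hg2, mul_one]
      _ = ((gi * M * g) ^ k * gi) * g := (mul_assoc _ _ _).symm
      _ = gi * M ^ k * g := by rw [this]

theorem commute_aeval_self (T : Matrix (Fin n) (Fin n) K) (p : K[X]) :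
    aeval T p * T = T * aeval T p := commute_aeval rfl p

/-- Existence of a polynomial `p` such that `x = p(T) + T ι(p(T))` is invertible, where
`T = g⁻¹ g*` and `ι y = g⁻¹ y* g`. -/
theorem exists_poly_isUnit [Finite K] (bar : K →+* K) (hbar2 : ∀ x, bar (bar x) = x)
    (hbarne : ∃ x, bar x ≠ x) (g gi : Matrix (Fin n) (Fin n) K) (hg1 : g * gi = 1)
    (hg2 : gi * g = 1) :
    ∃ p p' : K[X], aeval (gi * st bar g) p' = gi * st bar (aeval (gi * st bar g) p) * g ∧
      gi * st bar (aeval (gi * st bar g) p') * g = aeval (gi * st bar g) p ∧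
      IsUnit (aeval (gi * st bar g) p + (gi * st bar g) * aeval (gi * st bar g) p') := by
  classical
  set T : Matrix (Fin n) (Fin n) K := gi * st bar g with hTdef
  set Ti : Matrix (Fin n) (Fin n) K := st bar gi * g with hTidef
  have hs1 : st bar g * st bar gi = 1 := by rw [← st_mul, hg2, st_one]
  have hs2 : st bar gi * st bar g = 1 := by rw [← st_mul, hg1, st_one]
  have hT1 : T * Ti = 1 := by
    rw [hTdef, hTidef]
    calc gi * st bar g * (st bar gi * g) = gi * (st bar g * st bar gi) * g := by
          simp only [mul_assoc]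
      _ = 1 := by rw [hs1, mul_one, hg2]
  have hT2 : Ti * T = 1 := by
    rw [hTdef, hTidef]
    calc st bar gi * g * (gi * st bar g) = st bar gi * (g * gi) * st bar g := by
          simp only [mul_assoc]
      _ = 1 := by rw [hg1, mul_one, hs2]
  have hιT : gi * st bar T * g = Ti := by
    rw [hTdef, hTidef, st_mul, st_st bar hbar2]
    calc gi * (g * st bar gi) * g = (gi * g) * st bar gi * g := by simp only [mul_assoc]
      _ = st bar gi * g := by rw [hg2, one_mul]
  -- `Ti` is a power of `T`
  obtain ⟨k, hk⟩ : ∃ k : ℕ, Ti = T ^ k := by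
    let Tu : (Matrix (Fin n) (Fin n) K)ˣ := ⟨T, Ti, hT1, hT2⟩
    have hpos := orderOf_pos Tu
    refine ⟨orderOf Tu - 1, ?_⟩
    have h1 : Tu⁻¹ = Tu ^ (orderOf Tu - 1) := by
      apply inv_eq_of_mul_eq_one_right
      rw [← pow_succ', Nat.sub_add_cancel hpos, pow_orderOf_eq_one]
    have h2 := congrArg Units.val h1
    rw [Units.val_pow_eq_pow_val] at h2
    exact h2
  let φ : K[X] →+* Matrix (Fin n) (Fin n) K := (aeval T : K[X] →ₐ[K] _).toRingHom
  have hφ : ∀ p, φ p = aeval T p := fun p => rfl
  let I : Ideal K[X] := RingHom.ker φ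
  let ev : K[X] ⧸ I →+* Matrix (Fin n) (Fin n) K := RingHom.kerLift φ
  have hevinj : Function.Injective ev := RingHom.kerLift_injective φ
  have hevmk : ∀ p, ev (Ideal.Quotient.mk I p) = aeval T p := fun p => RingHom.kerLift_mk φ p
  have : Finite (K[X] ⧸ I) := Finite.of_injective ev hevinj
  let ιp : K[X] →+* K[X] := (Polynomial.compRingHom (X ^ k)).comp (Polynomial.mapRingHom bar)
  have hιp : ∀ p, aeval T (ιp p) = gi * st bar (aeval T p) * g := by
    intro p
    show aeval T ((p.map bar).comp (X ^ k)) = gi * st bar (aeval T p) * g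
    rw [Polynomial.aeval_comp, map_pow, Polynomial.aeval_X, ← hk, st_aeval, ← hιT,
      aeval_conj_mat hg1 hg2]
  have hI : I ≤ I.comap ιp := by
    intro p hp
    rw [Ideal.mem_comap, RingHom.mem_ker, hφ, hιp]
    rw [RingHom.mem_ker, hφ] at hp
    rw [hp]
    simp [st, Matrix.map_zero]
  let ι₀ : K[X] ⧸ I →+* K[X] ⧸ I := Ideal.quotientMap I ιp hI
  have hι₀mk : ∀ p, ι₀ (Ideal.Quotient.mk I p) = Ideal.Quotient.mk I (ιp p) :=
    fun p => Ideal.quotientMap_mk
  have hev : ∀ r, ev (ι₀ r) = gi * st bar (ev r) * g := by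
    intro r
    obtain ⟨p, rfl⟩ := Ideal.Quotient.mk_surjective r
    rw [hι₀mk, hevmk, hevmk, hιp]
  have hιι : ∀ r, ι₀ (ι₀ r) = r := by
    intro r
    apply hevinj
    rw [hev, hev]
    obtain ⟨p, rfl⟩ := Ideal.Quotient.mk_surjective r
    rw [hevmk, st_mul, st_mul, st_st bar hbar2]
    calc gi * (st bar g * (aeval T p * st bar gi)) * g
        = (gi * st bar g) * aeval T p * (st bar gi * g) := by simp only [mul_assoc]
      _ = T * aeval T p * Ti := rfl
      _ = aeval T p * (T * Ti) := by rw [← commute_aeval_self, mul_assoc]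
      _ = aeval T p := by rw [hT1, mul_one]
  let ι : (K[X] ⧸ I) ≃+* (K[X] ⧸ I) :=
    RingEquiv.ofRingHom ι₀ ι₀ (RingHom.ext hιι) (RingHom.ext hιι)
  have hιapp : ∀ r, ι r = ι₀ r := fun r => rfl
  set T' : K[X] ⧸ I := Ideal.Quotient.mk I X with hT'def
  have hT' : T' * ι T' = 1 := by
    apply hevinj
    rw [map_mul, hιapp, hev, hT'def, hevmk, Polynomial.aeval_X, hιT, hT1, map_one]
  obtain ⟨α, hα⟩ := hbarne
  set a : K[X] ⧸ I := Ideal.Quotient.mk I (C α) with ha
  have ha' : IsUnit (a - ι a) := by
    have h1 : ι a = Ideal.Quotient.mk I (C (bar α)) := by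
      rw [hιapp, ha, hι₀mk]
      congr 1
      show ((C α).map bar).comp (X ^ k) = C (bar α)
      rw [Polynomial.map_C, Polynomial.C_comp]
    rw [h1, ha, ← map_sub, ← C_sub]
    have hne : α - bar α ≠ 0 := sub_ne_zero.2 (Ne.symm hα)
    refine IsUnit.of_mul_eq_one (Ideal.Quotient.mk I (C (α - bar α)⁻¹)) ?_
    rw [← map_mul, ← C_mul, mul_inv_cancel₀ hne, C_1, map_one]
  obtain ⟨y, hy⟩ := Cfsg.Agent.Helper73.RingH90.exists_isUnit_add ι hιι T' hT' a ha'
  obtain ⟨p, rfl⟩ := Ideal.Quotient.mk_surjective y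
  refine ⟨p, ιp p, hιp p, ?_, ?_⟩
  · have h1 := hιι (Ideal.Quotient.mk I p)
    have h2 := congrArg ev h1
    rw [hev, hι₀mk, hevmk, hevmk] at h2
    exact h2
  · have := hy.map ev
    rw [map_add, map_mul, hιapp, hι₀mk, hevmk, hT'def, hevmk, hevmk, Polynomial.aeval_X] at this
    exact this

/-- **Invariant Hermitian form.** If `A* g A = g` with `g` invertible then `A` is conjugate in
`GL_n(q²)` to an element of `GU_n(q)`. -/
theorem exists_conj_mem_GU [Fintype K] {q : ℕ} (hK : Fintype.card K = q ^ 2)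
    (bar : K →+* K) (hbar : ∀ x, bar x = x ^ q) (A g : GL (Fin n) K)
    (hinv : st bar (A : Matrix (Fin n) (Fin n) K) * (g : Matrix (Fin n) (Fin n) K)
      * (A : Matrix (Fin n) (Fin n) K) = (g : Matrix (Fin n) (Fin n) K)) :
    ∃ B : GL (Fin n) K, B ∈ Cfsg.GU n K q ∧ IsConj A B := by
  classical
  have hbar2 : ∀ x, bar (bar x) = x := by
    intro x
    rw [hbar, hbar, ← pow_mul, ← sq, ← hK, FiniteField.pow_card]
  have hq2 : 2 ≤ q := by
    have h1 : 1 < Fintype.card K := Fintype.one_lt_card
    rw [hK] at h1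
    by_contra hlt
    have : q = 0 ∨ q = 1 := by omega
    rcases this with rfl | rfl <;> simp at h1
  have hbarne : ∃ x, bar x ≠ x := by
    by_contra hall
    push Not at hall
    have hne : (X ^ q - X : K[X]) ≠ 0 := FiniteField.X_pow_card_sub_X_ne_zero K (by omega)
    have hdeg : (X ^ q - X : K[X]).natDegree = q :=
      FiniteField.X_pow_card_sub_X_natDegree_eq K (by omega)
    have hsub : (Finset.univ : Finset K).val ⊆ (X ^ q - X : K[X]).roots := by
      intro x _
      rw [Polynomial.mem_roots hne, Polynomial.IsRoot.def]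
      simp only [Polynomial.eval_sub, Polynomial.eval_pow, Polynomial.eval_X]
      rw [← hbar, hall, sub_self]
    have := Polynomial.card_le_degree_of_subset_roots hsub
    rw [hdeg, Finset.card_univ, hK] at this
    nlinarith
  set AM : Matrix (Fin n) (Fin n) K := (A : Matrix (Fin n) (Fin n) K) with hAM
  set Ai : Matrix (Fin n) (Fin n) K := ((A⁻¹ : GL (Fin n) K) : Matrix (Fin n) (Fin n) K) with hAi
  set gM : Matrix (Fin n) (Fin n) K := (g : Matrix (Fin n) (Fin n) K) with hgM
  set gi : Matrix (Fin n) (Fin n) K := ((g⁻¹ : GL (Fin n) K) : Matrix (Fin n) (Fin n) K) with hgi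
  have hg1 : gM * gi = 1 := by rw [hgM, hgi, ← Units.val_mul, mul_inv_cancel]; rfl
  have hg2 : gi * gM = 1 := by rw [hgM, hgi, ← Units.val_mul, inv_mul_cancel]; rfl
  have hA1 : AM * Ai = 1 := by rw [hAM, hAi, ← Units.val_mul, mul_inv_cancel]; rfl
  have hA2 : Ai * AM = 1 := by rw [hAM, hAi, ← Units.val_mul, inv_mul_cancel]; rfl
  have hs1 : st bar gM * st bar gi = 1 := by rw [← st_mul, hg2, st_one]
  have hs2 : st bar gi * st bar gM = 1 := by rw [← st_mul, hg1, st_one]
  obtain ⟨T, hT⟩ : ∃ T : Matrix (Fin n) (Fin n) K, T = gi * st bar gM := ⟨_, rfl⟩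
  obtain ⟨Ti, hTi⟩ : ∃ Ti : Matrix (Fin n) (Fin n) K, Ti = st bar gi * gM := ⟨_, rfl⟩
  have hT1 : T * Ti = 1 := by
    rw [hT, hTi]
    calc gi * st bar gM * (st bar gi * gM) = gi * (st bar gM * st bar gi) * gM := by
          simp only [mul_assoc]
      _ = 1 := by rw [hs1, mul_one, hg2]
  have hιT : gi * st bar T * gM = Ti := by
    rw [hT, hTi, st_mul, st_st bar hbar2]
    calc gi * (gM * st bar gi) * gM = (gi * gM) * st bar gi * gM := by simp only [mul_assoc]
      _ = st bar gi * gM := by rw [hg2, one_mul]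
  -- second invariance relation
  have hinv2 : st bar AM * st bar gM * AM = st bar gM := by
    have := congrArg (st bar) hinv
    rw [st_mul, st_mul, st_st bar hbar2, ← mul_assoc] at this
    exact this
  -- `AM * gi * st AM = gi`
  have hX : AM * gi * st bar AM = gi := by
    have h1 : (AM * gi * st bar AM) * gM * AM = AM := by
      calc (AM * gi * st bar AM) * gM * AM = AM * gi * (st bar AM * gM * AM) := by
            simp only [mul_assoc]
        _ = AM := by rw [hinv, mul_assoc, hg2, mul_one]
    have h2 : (AM * gi * st bar AM) * gM = 1 := by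
      calc (AM * gi * st bar AM) * gM = ((AM * gi * st bar AM) * gM * AM) * Ai := by
            rw [mul_assoc _ AM Ai, hA1, mul_one]
        _ = 1 := by rw [h1, hA1]
    calc AM * gi * st bar AM = (AM * gi * st bar AM) * (gM * gi) := by rw [hg1, mul_one]
      _ = ((AM * gi * st bar AM) * gM) * gi := (mul_assoc _ _ _).symm
      _ = gi := by rw [h2, one_mul]
  -- `T` commutes with `AM`
  have hTA : T * AM = AM * T := by
    rw [hT]
    calc gi * st bar gM * AM = (AM * gi * st bar AM) * st bar gM * AM := by rw [hX]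
      _ = AM * gi * (st bar AM * st bar gM * AM) := by simp only [mul_assoc]
      _ = AM * (gi * st bar gM) := by rw [hinv2, mul_assoc]
  obtain ⟨p, p', hy', hyy, hunit⟩ := exists_poly_isUnit bar hbar2 hbarne gM gi hg1 hg2
  rw [← hT] at hy' hyy hunit
  set y : Matrix (Fin n) (Fin n) K := aeval T p with hy
  set y' : Matrix (Fin n) (Fin n) K := aeval T p' with hy'def
  set x : Matrix (Fin n) (Fin n) K := y + T * y' with hx
  have hyT : y * T = T * y := commute_aeval_self T p
  have hy'T : y' * T = T * y' := commute_aeval_self T p'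
  have hyA : y * AM = AM * y := commute_aeval hTA p
  have hy'A : y' * AM = AM * y' := commute_aeval hTA p'
  have hxA : x * AM = AM * x := by
    rw [hx, add_mul, mul_add, hyA, mul_assoc, hy'A, ← mul_assoc, hTA, mul_assoc]
  -- ι x
  have hιx : gi * st bar x * gM = y' + y * Ti := by
    rw [hx, st_add, st_mul, mul_add, add_mul, ← hy']
    congr 1
    calc gi * (st bar y' * st bar T) * gM
        = (gi * st bar y' * gM) * (gi * st bar T * gM) := by
          calc gi * (st bar y' * st bar T) * gM = gi * st bar y' * (1 * (st bar T * gM)) := by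
                rw [one_mul]; simp only [mul_assoc]
            _ = gi * st bar y' * ((gM * gi) * (st bar T * gM)) := by rw [hg1]
            _ = _ := by simp only [mul_assoc]
      _ = y * Ti := by rw [hyy, hιT]
  have hT2 : Ti * T = 1 := by
    rw [hT, hTi]
    calc st bar gi * gM * (gi * st bar gM) = st bar gi * (gM * gi) * st bar gM := by
          simp only [mul_assoc]
      _ = 1 := by rw [hg1, mul_one, hs2]
  have hxeq : T * (y' + y * Ti) = x := by
    calc T * (y' + y * Ti) = T * y' + (T * y) * Ti := by rw [mul_add, mul_assoc]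
      _ = T * y' + y * (T * Ti) := by rw [← hyT, mul_assoc]
      _ = x := by rw [hT1, mul_one, hx, add_comm]
  have hstx : st bar x = gM * (y' + y * Ti) * gi := by
    rw [← hιx]
    calc st bar x = (gM * gi) * st bar x * (gM * gi) := by rw [hg1, one_mul, mul_one]
      _ = gM * (gi * st bar x * gM) * gi := by simp only [mul_assoc]
  have hy'Ti : (y' + y * Ti) * T = T * (y' + y * Ti) := by
    calc (y' + y * Ti) * T = y' * T + y * (Ti * T) := by rw [add_mul, mul_assoc]
      _ = T * y' + y := by rw [hy'T, hT2, mul_one]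
      _ = T * y' + y * (T * Ti) := by rw [hT1, mul_one]
      _ = T * y' + (T * y) * Ti := by rw [← hyT, mul_assoc]
      _ = T * (y' + y * Ti) := by rw [mul_add, mul_assoc]
  set h : Matrix (Fin n) (Fin n) K := gM * x with hh
  have hherm : st bar h = h := by
    rw [hh, st_mul, hstx]
    calc gM * (y' + y * Ti) * gi * st bar gM = gM * ((y' + y * Ti) * (gi * st bar gM)) := by
          simp only [mul_assoc]
      _ = gM * x := by rw [← hT, hy'Ti, hxeq]
  have hhinv : st bar AM * h * AM = h := by
    rw [hh]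
    calc st bar AM * (gM * x) * AM = st bar AM * gM * (x * AM) := by simp only [mul_assoc]
      _ = (st bar AM * gM * AM) * x := by rw [hxA]; simp only [mul_assoc]
      _ = gM * x := by rw [hinv]
  have hgdet : gM.det ≠ 0 := ((Matrix.isUnit_iff_isUnit_det gM).1 g.isUnit).ne_zero
  have hxdet : x.det ≠ 0 := ((Matrix.isUnit_iff_isUnit_det x).1 hunit).ne_zero
  have hhdet : h.det ≠ 0 := by
    rw [hh, Matrix.det_mul]; exact mul_ne_zero hgdet hxdet
  obtain ⟨r, hr⟩ := herm_factor bar hbar2 hbarne h hherm hhdet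
  set c : Matrix (Fin n) (Fin n) K := aeval h r with hc
  have hcdet : c.det ≠ 0 := by
    intro h0
    apply hhdet
    rw [← hr, Matrix.det_mul, h0, mul_zero]
  let cG : GL (Fin n) K := Matrix.GeneralLinearGroup.mkOfDetNeZero c hcdet
  have hcG : (cG : Matrix (Fin n) (Fin n) K) = c := rfl
  set ci : Matrix (Fin n) (Fin n) K := ((cG⁻¹ : GL (Fin n) K) : Matrix (Fin n) (Fin n) K) with hci
  have hc1 : c * ci = 1 := by rw [← hcG, hci, ← Units.val_mul, mul_inv_cancel]; rfl
  refine ⟨cG * A * cG⁻¹, ?_, isConj_iff.2 ⟨cG, rfl⟩⟩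
  rw [Cfsg.Agent.S2677.mem_GU_iff_matrix n bar hbar]
  have hval : ((cG * A * cG⁻¹ : GL (Fin n) K) : Matrix (Fin n) (Fin n) K) = c * AM * ci := by
    rw [Units.val_mul, Units.val_mul, hcG]
  have hstB : st bar (c * AM * ci) * (c * AM * ci) = 1 := by
    rw [st_mul, st_mul]
    calc st bar ci * (st bar AM * st bar c) * (c * AM * ci)
        = st bar ci * (st bar AM * (st bar c * c) * AM) * ci := by simp only [mul_assoc]
      _ = st bar ci * h * ci := by rw [hr, hhinv]
      _ = (st bar ci * st bar c) * (c * ci) := by rw [← hr]; simp only [mul_assoc]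
      _ = 1 := by rw [← st_mul, hc1, st_one, one_mul]
  rw [hval]
  have := congrArg Matrix.transpose hstB
  unfold st at this
  rw [Matrix.transpose_mul, Matrix.transpose_transpose, Matrix.transpose_one] at this
  exact this

end Cfsg.Agent.Helper73.HermInv
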