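import Mathlib
import Cfsg.Agent.Helper14.SpF10
import Cfsg.Agent.Helper37.SpFourG

/-!
Helper73: local balance for `PSp_{2m}(q)` (S2730), part A: the subfield symplectic group inside
`Aut(PSp_{2m}(F))` and the basic definitions.
-/

set_option autoImplicit false
set_option linter.unusedSectionVars false

namespace Cfsg.Agent.Helper73.LBSp

open Matrix Cfsg.Agent.Helper5.AutSp Cfsg.Agent.Helper14.AutPSp Cfsg.Agent.Helper14.AutPSL

variable {F : Type*} [Field F] [Fintype F] {m : ℕ}

/-- `Sp_{2m}(F₀) → Aut(PSp_{2m}(F))`, `F₀` the fixed field of `σ`: conjugation by the subfield group. -/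
noncomputable def subT (m : ℕ) (σ : F ≃+* F) :
    Matrix.symplecticGroup (Fin m) (fixF σ) →* MulAut (Cfsg.PSp m F) :=
  (fixHomSp (m := m) (fixF σ).subtype).comp spIncl

end Cfsg.Agent.Helper73.LBSp
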