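import Mathlib
import Cfsg.Agent.Helper73.LBSpA

/-!
Helper73: local balance for `PSp_{2m}(q)` (S2730), part B: generic group lemmas and the basic
facts about the subfield group `subT`.
-/

set_option autoImplicit false
set_option linter.unusedSectionVars false

namespace Cfsg.Agent.Helper73.LBSp

open Matrix Cfsg.Agent.Helper5.AutSp Cfsg.Agent.Helper14.AutPSp Cfsg.Agent.Helper14.AutPSL
  Cfsg.Agent.Helper37.SpFour

section generic

variable {X : Type*} [Group X]

/-- two subgroups normalising each other and meeting trivially commute elementwise -/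
theorem commute_of_normalize_of_inf_eq_bot (N S : Subgroup X)
    (hSN : ∀ s ∈ S, ∀ n ∈ N, s * n * s⁻¹ ∈ N) (hNS : ∀ n ∈ N, ∀ s ∈ S, n * s * n⁻¹ ∈ S)
    (hbot : N ⊓ S = ⊥) {n s : X} (hn : n ∈ N) (hs : s ∈ S) : n * s = s * n := by
  have h1 : n * s * n⁻¹ * s⁻¹ ∈ N ⊓ S := by
    refine ⟨?_, ?_⟩
    · have h2 := hSN s hs n⁻¹ (N.inv_mem hn)
      have h3 := N.mul_mem hn h2
      have : n * (s * n⁻¹ * s⁻¹) = n * s * n⁻¹ * s⁻¹ := by group
      rwa [this] at h3
    · exact S.mul_mem (hNS n hn s hs) (S.inv_mem hs)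
  rw [hbot, Subgroup.mem_bot] at h1
  calc n * s = (n * s * n⁻¹ * s⁻¹) * (s * n) := by group
    _ = s * n := by rw [h1, one_mul]

/-- a subgroup of order prime to `p` inside a cyclic group of order `p` is trivial -/
theorem eq_bot_of_le_zpowers [Finite X] {p : ℕ} (N : Subgroup X) (φ : X) (hφ : orderOf φ = p)
    (hN : N ≤ Subgroup.zpowers φ) (hcop : (Nat.card N).Coprime p) : N = ⊥ := by
  have h1 : Nat.card N ∣ Nat.card (Subgroup.zpowers φ) := Subgroup.card_dvd_of_le hN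
  rw [Nat.card_zpowers, hφ] at h1
  have h2 : Nat.card N = 1 := Nat.Coprime.eq_one_of_dvd hcop h1
  exact Subgroup.card_eq_one.mp h2

end generic

section subT

variable {F : Type*} [Field F] [Fintype F] {m : ℕ}

theorem hi_fixF (σ : F ≃+* F) : ∀ a : F, σ a = a ↔ a ∈ (fixF σ).subtype.range := by
  intro a
  rw [← mem_fixF]
  constructor
  · intro h
    exact ⟨⟨a, h⟩, rfl⟩
  · rintro ⟨b, rfl⟩
    exact b.2

theorem subT_apply (σ : F ≃+* F) (s : Matrix.symplecticGroup (Fin m) (fixF σ)) :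
    subT m σ s = fixHomSp (m := m) (fixF σ).subtype (spIncl s) := rfl

/-- the subfield group acts by inner automorphisms -/
theorem subT_eq_conj (hm : 1 ≤ m) (σ : F ≃+* F) (s : Matrix.symplecticGroup (Fin m) (fixF σ)) :
    ∃ s' : Matrix.symplecticGroup (Fin m) F, subT m σ s = MulAut.conj (prj s') := by
  have h1 : gspIncl (m := m) (fixF σ).subtype (spIncl s) ∈ (gspMult (F := F) hm).ker := by
    rw [MonoidHom.mem_ker, gspMult_gspIncl, gspMult_spIncl, map_one]
  obtain ⟨s', hs'⟩ := (mem_ker_gspMult hm _).mp h1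
  refine ⟨s', ?_⟩
  rw [subT_apply, fixHomSp_apply, ← hs', gspHom_spIncl]

theorem subT_mem_range (hm : 2 ≤ m) (σ : F ≃+* F) (s : Matrix.symplecticGroup (Fin m) (fixF σ)) :
    subT m σ s ∈ Cfsg.inndiagPSp m F ⊓
      Subgroup.centralizer {(spField σ : MulAut (Cfsg.PSp m F))} := by
  rw [← range_fixHomSp (fixF σ).subtype σ (hi_fixF σ) hm]
  exact ⟨spIncl s, rfl⟩

/-- `C_{Inndiag}(φ)` normalises the subfield group -/
theorem conj_subT (hm : 2 ≤ m) (σ : F ≃+* F) (d : MulAut (Cfsg.PSp m F))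
    (hd : d ∈ Cfsg.inndiagPSp m F ⊓ Subgroup.centralizer {(spField σ : MulAut (Cfsg.PSp m F))})
    (s : Matrix.symplecticGroup (Fin m) (fixF σ)) :
    ∃ s', d * subT m σ s * d⁻¹ = subT m σ s' := by
  rw [← range_fixHomSp (fixF σ).subtype σ (hi_fixF σ) hm] at hd
  obtain ⟨g₀, rfl⟩ := hd
  have hm1 : 1 ≤ m := by omega
  have h1 : g₀ * spIncl s * g₀⁻¹ ∈ (gspMult (F := fixF σ) hm1).ker := by
    rw [MonoidHom.mem_ker, map_mul, map_mul, map_inv, gspMult_spIncl, mul_one, mul_inv_cancel]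
  obtain ⟨s', hs'⟩ := (mem_ker_gspMult hm1 _).mp h1
  refine ⟨s', ?_⟩
  rw [subT_apply, subT_apply, hs', map_mul, map_mul, map_inv]

/-- the subfield group acts non-trivially -/
theorem exists_subT_ne_one (hm : 2 ≤ m) (σ : F ≃+* F) : ∃ s, subT m σ s ≠ 1 := by
  refine ⟨⟨Matrix.J (Fin m) (fixF σ), SymplecticGroup.J_mem _ _⟩, ?_⟩
  intro h
  rw [subT_apply, ← MonoidHom.mem_ker, ker_fixHomSp _ hm, Subgroup.mem_subgroupOf,
    Cfsg.Geo.mem_scalars_iff] at h
  obtain ⟨c, hc⟩ := h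
  have h1 := congrFun (congrFun hc (Sum.inr ⟨0, by omega⟩)) (Sum.inl ⟨0, by omega⟩)
  rw [spIncl_coe] at h1
  simp [Matrix.J] at h1

end subT

end Cfsg.Agent.Helper73.LBSp
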