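import Mathlib
import Cfsg.Agent.Helper14.PsuP

/-!
Helper73: local balance for `PSU_n(q)` (S2687), shared definitions.
`subTU D : SU_n(F₀) →* Aut(PSU_n(F))` is the action of the subfield special unitary group.
-/

set_option autoImplicit false
set_option linter.unusedSectionVars false

namespace Cfsg.Agent.Helper73.LBU

open Matrix Cfsg.Agent.Helper13 Cfsg.Agent.Helper37.AutU Cfsg.Agent.Helper14.AutPSL
  Cfsg.Agent.Helper14.AutPSU

variable {F : Type*} [Field F] [Fintype F] {F₀ : Type*} [Field F₀] [Fintype F₀] {q q₀ n r : ℕ}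
variable {σ τ : F ≃+* F} {i : F₀ →+* F} {τ₀ : F₀ ≃+* F₀}

/-- `SU_n → GU_n` as a homomorphism -/
def suGUHom (n : ℕ) (F : Type*) [Field F] [Fintype F] (q : ℕ) : Cfsg.SU n F q →* Cfsg.GU n F q where
  toFun := suGU
  map_one' := by
    apply Subtype.ext
    apply Units.ext
    rfl
  map_mul' a b := by
    apply Subtype.ext
    apply Units.ext
    rfl

theorem suGUHom_apply (A : Cfsg.SU n F q) : suGUHom n F q A = suGU A := rfl

/-- `SU_n(F₀) →* Aut(PSU_n(F))`: the subfield special unitary group acting by conjugation -/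
noncomputable def subTU (D : FldData q q₀ σ τ i τ₀ r) :
    Cfsg.SU n F₀ q₀ →* MulAut (Cfsg.PSU n F q) :=
  (fixHomU (n := n) D).comp (suGUHom n F₀ q₀)

theorem subTU_apply (D : FldData q q₀ σ τ i τ₀ r) (s : Cfsg.SU n F₀ q₀) :
    subTU D s = pstdHom n F q (guI D (suGU s)) := rfl

end Cfsg.Agent.Helper73.LBU
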