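import Mathlib
import Cfsg.Agent.Helper73.LBUA
import Cfsg.Agent.Helper73.LBSpB
import Cfsg.Agent.Helper14.LBUc
import Cfsg.Agent.Helper14.LBUa
import Cfsg.Agent.S0283

/-!
Helper73: local balance for `PSU_n(q)` (S2687), basic facts on the subfield group `subTU`.
-/

set_option autoImplicit false
set_option linter.unusedSectionVars false
set_option linter.unusedVariables false

namespace Cfsg.Agent.Helper73.LBU

open Matrix Cfsg.Agent.Helper13 Cfsg.Agent.Helper37.AutU Cfsg.Agent.Helper14.AutPSL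
  Cfsg.Agent.Helper14.AutPSU Cfsg.Agent.Helper37.Bal

variable {F : Type*} [Field F] [Fintype F] {F₀ : Type*} [Field F₀] [Fintype F₀]
  {p₀ f q q₀ n r : ℕ}
variable {σ τ : F ≃+* F} {i : F₀ →+* F} {τ₀ : F₀ ≃+* F₀}

/-- a unitary matrix of determinant one in `GU` comes from `SU` -/
theorem exists_suGU_eq (g : Cfsg.GU n F q) (hdet : (gm g).det = 1) :
    ∃ A : Cfsg.SU n F q, suGU A = g := by
  obtain ⟨A, hA⟩ := exists_su_of hdet (isU_gm g)
  refine ⟨A, ?_⟩
  apply Subtype.ext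
  apply Units.ext
  exact hA

theorem det_gm_guI (D : FldData q q₀ σ τ i τ₀ r) (g₀ : Cfsg.GU n F₀ q₀) :
    (gm (guI D g₀)).det = i (gm g₀).det := by
  rw [gm_guI, RingHom.map_det]
  rfl

/-- the subfield group acts by inner automorphisms -/
theorem subTU_eq_conj (D : FldData q q₀ σ τ i τ₀ r) (s : Cfsg.SU n F₀ q₀) :
    ∃ s' : Cfsg.SU n F q, subTU D s = MulAut.conj (pr s') := by
  have h1 : (gm (guI D (suGU s))).det = 1 := by
    rw [det_gm_guI, gm_suGU, det_suMat, map_one]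
  obtain ⟨A, hA⟩ := exists_suGU_eq _ h1
  refine ⟨A, ?_⟩
  rw [subTU_apply, ← hA, pstdHom_suGU]

theorem subTU_mem_range (H : Hyp F p₀ f q n) (D : FldData q q₀ σ τ i τ₀ r)
    (s : Cfsg.SU n F₀ q₀) :
    subTU D s ∈ Cfsg.inndiagPSU n F q ⊓ Subgroup.centralizer {fldHom n F q σ} := by
  rw [← range_fixHomU H D]
  exact ⟨suGU s, rfl⟩

theorem subTU_mem_innCent (H : Hyp F p₀ f q n) (D : FldData q q₀ σ τ i τ₀ r)
    (s : Cfsg.SU n F₀ q₀) : subTU D s ∈ innCent (fldHom n F q σ) := by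
  refine Subgroup.mem_inf.2 ⟨?_, (Subgroup.mem_inf.1 (subTU_mem_range H D s)).2⟩
  obtain ⟨s', hs'⟩ := subTU_eq_conj D s
  exact ⟨pr s', hs'.symm⟩

/-- `C_{Inndiag}(φ)` normalises the subfield group -/
theorem conj_subTU (H : Hyp F p₀ f q n) (D : FldData q q₀ σ τ i τ₀ r)
    (d : MulAut (Cfsg.PSU n F q))
    (hd : d ∈ Cfsg.inndiagPSU n F q ⊓ Subgroup.centralizer {fldHom n F q σ})
    (s : Cfsg.SU n F₀ q₀) : ∃ s', d * subTU D s * d⁻¹ = subTU D s' := by
  rw [← range_fixHomU H D] at hd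
  obtain ⟨g₀, rfl⟩ := hd
  have h1 : (gm (g₀ * suGU s * g₀⁻¹)).det = 1 := by
    have e : gm (g₀ * suGU s * g₀⁻¹) * gm g₀ = gm g₀ * gm (suGU s) := by
      rw [← gm_mul, ← gm_mul]
      congr 1
      group
    have e2 := congrArg Matrix.det e
    rw [Matrix.det_mul, Matrix.det_mul, gm_suGU, det_suMat, mul_one] at e2
    have h0 : (gm g₀).det ≠ 0 := by
      have := (g₀ : GL (Fin n) F₀).isUnit
      have h3 : IsUnit (gm g₀).det := by
        rw [← Matrix.isUnit_iff_isUnit_det]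
        exact Units.isUnit _
      exact h3.ne_zero
    exact mul_right_cancel₀ h0 (by rw [e2, one_mul])
  obtain ⟨s', hs'⟩ := exists_suGU_eq _ h1
  refine ⟨s', ?_⟩
  show fixHomU D g₀ * fixHomU D (suGU s) * (fixHomU D g₀)⁻¹ = fixHomU D (suGU s')
  rw [hs', map_mul, map_mul, map_inv]

/-- an element of `SU_n(F₀)` acting trivially is central -/
theorem mem_center_of_subTU_eq_one (H : Hyp F p₀ f q n) (D : FldData q q₀ σ τ i τ₀ r)
    (s : Cfsg.SU n F₀ q₀) (hs : subTU D s = 1) : s ∈ Subgroup.center (Cfsg.SU n F₀ q₀) := by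
  have h1 : suGU s ∈ (fixHomU (n := n) D).ker := hs
  rw [ker_fixHomU H D, Subgroup.mem_subgroupOf, Cfsg.Geo.mem_scalars_iff] at h1
  obtain ⟨c, hc⟩ := h1
  rw [Subgroup.mem_center_iff]
  intro t
  apply suMat_injective
  have hs' : suMat s = (c : F₀) • (1 : Matrix (Fin n) (Fin n) F₀) := hc
  show suMat t * suMat s = suMat s * suMat t
  rw [hs', Matrix.mul_smul, Matrix.smul_mul, Matrix.mul_one, Matrix.one_mul]

end Cfsg.Agent.Helper73.LBU
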