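import Cfsg.Agent.Helper19.Cox.DataB2
import Cfsg.Agent.Helper19.Cox.DataG2
import Cfsg.Agent.Helper19.Cox.DataD4
import Cfsg.Agent.Helper19.Cox.DataF4
import Cfsg.Agent.Helper19.Cox.DataE6
import Cfsg.Agent.Helper19.Cox.DataE7
import Cfsg.Agent.Helper19.Cox.DataE8

set_option autoImplicit false
set_option maxRecDepth 100000
set_option linter.unusedSimpArgs false

/-!
Poincaré polynomial identities for the coset-representative data of helper19:
`∏_levels (∑_{r ∈ reps} q^{len r}) * (q - 1)^n = ∏_i (q^{d_i} - 1)`.

Method: list polynomials over `ℤ` with an evaluation-soundness lemma; the coefficient identity is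
checked by `decide +kernel`.
-/

namespace Cfsg.Agent.Helper73

namespace LPoly

/-- Evaluate a coefficient list (constant term first). -/
def ev : List ℤ → ℤ → ℤ
  | [], _ => 0
  | a :: p, x => a + x * ev p x

/-- Addition of coefficient lists. -/
def add : List ℤ → List ℤ → List ℤ
  | [], q => q
  | a :: p, [] => a :: p
  | a :: p, b :: q => (a + b) :: add p q

/-- Scalar multiple. -/
def smul (c : ℤ) : List ℤ → List ℤ
  | [] => []
  | a :: p => (c * a) :: smul c p

/-- Product of coefficient lists. -/
def mul : List ℤ → List ℤ → List ℤ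
  | [], _ => []
  | a :: p, q => add (smul a q) (0 :: mul p q)

/-- The monomial `x^k`. -/
def mono : ℕ → List ℤ
  | 0 => [1]
  | k + 1 => 0 :: mono k

/-- `x^k - 1` (for `k ≥ 1`; for `k = 0` this is `0`). -/
def monoSubOne (k : ℕ) : List ℤ := add (mono k) [-1]

/-- Power. -/
def pw (p : List ℤ) : ℕ → List ℤ
  | 0 => [1]
  | k + 1 => mul p (pw p k)

/-- Product of a list of polynomials. -/
def prodL : List (List ℤ) → List ℤ
  | [] => [1]
  | p :: l => mul p (prodL l)

/-- Sum of monomials `∑ x^k` over `k ∈ ls`. -/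
def profile : List ℕ → List ℤ
  | [] => []
  | k :: ls => add (mono k) (profile ls)

/-- All coefficients vanish. -/
def isZero : List ℤ → Bool
  | [] => true
  | a :: p => decide (a = 0) && isZero p

theorem ev_add (p q : List ℤ) (x : ℤ) : ev (add p q) x = ev p x + ev q x := by
  induction p generalizing q with
  | nil => simp [add, ev]
  | cons a p ih =>
    cases q with
    | nil => simp [add, ev]
    | cons b q => simp only [add, ev, ih]; ring

theorem ev_smul (c : ℤ) (p : List ℤ) (x : ℤ) : ev (smul c p) x = c * ev p x := by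
  induction p with
  | nil => simp [smul, ev]
  | cons a p ih => simp only [smul, ev, ih]; ring

theorem ev_mul (p q : List ℤ) (x : ℤ) : ev (mul p q) x = ev p x * ev q x := by
  induction p with
  | nil => simp [mul, ev]
  | cons a p ih => simp only [mul, ev, ev_add, ev_smul, ih]; ring

theorem ev_mono (k : ℕ) (x : ℤ) : ev (mono k) x = x ^ k := by
  induction k with
  | zero => simp [mono, ev]
  | succ k ih => simp only [mono, ev, ih]; ring

theorem ev_monoSubOne (k : ℕ) (x : ℤ) : ev (monoSubOne k) x = x ^ k - 1 := by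
  simp only [monoSubOne, ev_add, ev_mono, ev]; ring

theorem ev_pw (p : List ℤ) (k : ℕ) (x : ℤ) : ev (pw p k) x = ev p x ^ k := by
  induction k with
  | zero => simp [pw, ev]
  | succ k ih => simp only [pw, ev_mul, ih]; ring

theorem ev_prodL (l : List (List ℤ)) (x : ℤ) : ev (prodL l) x = (l.map fun p => ev p x).prod := by
  induction l with
  | nil => simp [prodL, ev]
  | cons p l ih => simp only [prodL, ev_mul, ih, List.map_cons, List.prod_cons]

theorem ev_profile (ls : List ℕ) (x : ℤ) : ev (profile ls) x = (ls.map fun k => x ^ k).sum := by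
  induction ls with
  | nil => simp [profile, ev]
  | cons k ls ih => simp only [profile, ev_add, ev_mono, ih, List.map_cons, List.sum_cons]

theorem ev_of_isZero (p : List ℤ) (h : isZero p = true) (x : ℤ) : ev p x = 0 := by
  induction p with
  | nil => simp [ev]
  | cons a p ih =>
    simp only [isZero, Bool.and_eq_true, decide_eq_true_eq] at h
    simp only [ev, h.1, ih h.2]; ring

/-- The checker: `∏ profile(level lengths) * (x - 1)^n - ∏ (x^d - 1)` has all coefficients zero. -/
def check (lens : List (List ℕ)) (n : ℕ) (degs : List ℕ) : Bool :=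
  isZero (add (mul (prodL (lens.map profile)) (pw [-1, 1] n))
    (smul (-1) (prodL (degs.map monoSubOne))))

theorem int_identity_of_check (lens : List (List ℕ)) (n : ℕ) (degs : List ℕ)
    (h : check lens n degs = true) (x : ℤ) :
    (lens.map fun ls => (ls.map fun k => x ^ k).sum).prod * (x - 1) ^ n
      = (degs.map fun d => x ^ d - 1).prod := by
  have h0 := ev_of_isZero _ h x
  simp only [ev_add, ev_mul, ev_smul, ev_prodL, ev_pw, List.map_map] at h0
  have e1 : ev [-1, 1] x = x - 1 := by simp only [ev]; ring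
  have e2 : (List.map ((fun p => ev p x) ∘ profile) lens)
      = lens.map fun ls => (ls.map fun k => x ^ k).sum := by
    apply List.map_congr_left
    intro ls _
    simp only [Function.comp_apply, ev_profile]
  have e3 : (List.map ((fun p => ev p x) ∘ monoSubOne) degs) = degs.map fun d => x ^ d - 1 := by
    apply List.map_congr_left
    intro d _
    simp only [Function.comp_apply, ev_monoSubOne]
  rw [e1, e2, e3] at h0
  linarith

end LPoly

open Cfsg.Agent.Helper19.Cox in
/-- Generic Poincaré identity over `ℕ` (truncated subtraction, `1 ≤ q`) from the checker. -/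
theorem poincare_of_check (levels : List Level) (n : ℕ) (degs : List ℕ)
    (h : LPoly.check (levels.map fun lv => lv.1.map List.length) n degs = true)
    (q : ℕ) (hq : 1 ≤ q) :
    ((levels.map fun lv => (lv.1.map fun r => q ^ r.length).sum).prod) * (q - 1) ^ n
      = (degs.map fun d => q ^ d - 1).prod := by
  have hi := LPoly.int_identity_of_check _ n degs h (q : ℤ)
  apply Nat.cast_injective (R := ℤ)
  rw [Nat.cast_mul, Nat.cast_pow, Nat.cast_sub hq, Nat.cast_one, Nat.cast_list_prod,
    Nat.cast_list_prod, List.map_map, List.map_map]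
  rw [List.map_map] at hi
  have e1 : (List.map ((fun ls : List ℕ => (ls.map fun k => (q : ℤ) ^ k).sum) ∘
      fun lv : Level => lv.1.map List.length) levels)
      = List.map (Nat.cast ∘ fun lv : Level => (lv.1.map fun r => q ^ r.length).sum) levels := by
    apply List.map_congr_left
    intro lv _
    simp only [Function.comp_apply, List.map_map, Nat.cast_list_sum]
    congr 1
  have e2 : (degs.map fun d => (q : ℤ) ^ d - 1) = List.map (Nat.cast ∘ fun d => q ^ d - 1) degs := by
    apply List.map_congr_left
    intro d _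
    simp only [Function.comp_apply]
    rw [Nat.cast_sub (Nat.one_le_pow _ _ hq), Nat.cast_pow, Nat.cast_one]
  rw [← e1, ← e2]
  exact hi

theorem poincare_check_G2 :
    LPoly.check (Cfsg.Agent.Helper19.Cox.G2.levels.map fun lv => lv.1.map List.length) 2
      [2, 6] = true := by decide +kernel

theorem poincare_G2 (q : ℕ) (hq : 1 ≤ q) :
    ((Cfsg.Agent.Helper19.Cox.G2.levels.map fun lv => (lv.1.map fun r => q ^ r.length).sum).prod)
      * (q - 1) ^ 2 = (q^2-1)*(q^6-1) := by
  rw [poincare_of_check _ 2 [2, 6] poincare_check_G2 q hq]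
  simp only [List.map_cons, List.map_nil, List.prod_cons, List.prod_nil, mul_one, mul_assoc]


theorem poincare_check_B2 :
    LPoly.check (Cfsg.Agent.Helper19.Cox.B2.levels.map fun lv => lv.1.map List.length) 2
      [2, 4] = true := by decide +kernel

theorem poincare_B2 (q : ℕ) (hq : 1 ≤ q) :
    ((Cfsg.Agent.Helper19.Cox.B2.levels.map fun lv => (lv.1.map fun r => q ^ r.length).sum).prod)
      * (q - 1) ^ 2 = (q^2-1)*(q^4-1) := by
  rw [poincare_of_check _ 2 [2, 4] poincare_check_B2 q hq]
  simp only [List.map_cons, List.map_nil, List.prod_cons, List.prod_nil, mul_one, mul_assoc]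


theorem poincare_check_D4 :
    LPoly.check (Cfsg.Agent.Helper19.Cox.D4.levels.map fun lv => lv.1.map List.length) 4
      [2, 4, 4, 6] = true := by decide +kernel

theorem poincare_D4 (q : ℕ) (hq : 1 ≤ q) :
    ((Cfsg.Agent.Helper19.Cox.D4.levels.map fun lv => (lv.1.map fun r => q ^ r.length).sum).prod)
      * (q - 1) ^ 4 = (q^2-1)*(q^4-1)*(q^4-1)*(q^6-1) := by
  rw [poincare_of_check _ 4 [2, 4, 4, 6] poincare_check_D4 q hq]
  simp only [List.map_cons, List.map_nil, List.prod_cons, List.prod_nil, mul_one, mul_assoc]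


theorem poincare_check_F4 :
    LPoly.check (Cfsg.Agent.Helper19.Cox.F4.levels.map fun lv => lv.1.map List.length) 4
      [2, 6, 8, 12] = true := by decide +kernel

theorem poincare_F4 (q : ℕ) (hq : 1 ≤ q) :
    ((Cfsg.Agent.Helper19.Cox.F4.levels.map fun lv => (lv.1.map fun r => q ^ r.length).sum).prod)
      * (q - 1) ^ 4 = (q^2-1)*(q^6-1)*(q^8-1)*(q^12-1) := by
  rw [poincare_of_check _ 4 [2, 6, 8, 12] poincare_check_F4 q hq]
  simp only [List.map_cons, List.map_nil, List.prod_cons, List.prod_nil, mul_one, mul_assoc]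


theorem poincare_check_E6 :
    LPoly.check (Cfsg.Agent.Helper19.Cox.E6.levels.map fun lv => lv.1.map List.length) 6
      [2, 5, 6, 8, 9, 12] = true := by decide +kernel

theorem poincare_E6 (q : ℕ) (hq : 1 ≤ q) :
    ((Cfsg.Agent.Helper19.Cox.E6.levels.map fun lv => (lv.1.map fun r => q ^ r.length).sum).prod)
      * (q - 1) ^ 6 = (q^2-1)*(q^5-1)*(q^6-1)*(q^8-1)*(q^9-1)*(q^12-1) := by
  rw [poincare_of_check _ 6 [2, 5, 6, 8, 9, 12] poincare_check_E6 q hq]
  simp only [List.map_cons, List.map_nil, List.prod_cons, List.prod_nil, mul_one, mul_assoc]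


theorem poincare_check_E7 :
    LPoly.check (Cfsg.Agent.Helper19.Cox.E7.levels.map fun lv => lv.1.map List.length) 7
      [2, 6, 8, 10, 12, 14, 18] = true := by decide +kernel

theorem poincare_E7 (q : ℕ) (hq : 1 ≤ q) :
    ((Cfsg.Agent.Helper19.Cox.E7.levels.map fun lv => (lv.1.map fun r => q ^ r.length).sum).prod)
      * (q - 1) ^ 7 = (q^2-1)*(q^6-1)*(q^8-1)*(q^10-1)*(q^12-1)*(q^14-1)*(q^18-1) := by
  rw [poincare_of_check _ 7 [2, 6, 8, 10, 12, 14, 18] poincare_check_E7 q hq]
  simp only [List.map_cons, List.map_nil, List.prod_cons, List.prod_nil, mul_one, mul_assoc]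


theorem poincare_check_E8 :
    LPoly.check (Cfsg.Agent.Helper19.Cox.E8.levels.map fun lv => lv.1.map List.length) 8
      [2, 8, 12, 14, 18, 20, 24, 30] = true := by decide +kernel

theorem poincare_E8 (q : ℕ) (hq : 1 ≤ q) :
    ((Cfsg.Agent.Helper19.Cox.E8.levels.map fun lv => (lv.1.map fun r => q ^ r.length).sum).prod)
      * (q - 1) ^ 8 = (q^2-1)*(q^8-1)*(q^12-1)*(q^14-1)*(q^18-1)*(q^20-1)*(q^24-1)*(q^30-1) := by
  rw [poincare_of_check _ 8 [2, 8, 12, 14, 18, 20, 24, 30] poincare_check_E8 q hq]
  simp only [List.map_cons, List.map_nil, List.prod_cons, List.prod_nil, mul_one, mul_assoc]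

end Cfsg.Agent.Helper73
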