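import Mathlib
import Cfsg.Agent.Helper5.SuBN.Defs

/-!
# Piece (R1I) of helper5's S2546 farm: `B = (B ∩ s⁻¹Bs)·X_k` for a root of kind I (`2k+3 < n`)
-/

set_option autoImplicit false
set_option linter.unusedVariables false

namespace Cfsg.Agent.Helper73.SuBNR1I

open Matrix Cfsg.Agent.Helper5.SuBN

variable {F : Type*} [Field F] {n : ℕ} {σ : F →+* F}

/-- in kind I the permutation `sPerm k` reverses the order of exactly two pairs of positions -/
theorem sPerm_order_I (k : Fin (n / 2)) (hk : 2 * k.val + 3 < n) (i' j' : Fin n) (hlt : j' < i')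
    (hcase : ¬ sPerm k j' < sPerm k i') :
    ((sPerm k i' : Fin n).val = k.val ∧ (sPerm k j' : Fin n).val = k.val + 1) ∨
      ((sPerm k i' : Fin n).val = n - 2 - k.val ∧ (sPerm k j' : Fin n).val = n - 1 - k.val) := by
  rw [Fin.lt_def] at hcase hlt
  have hI := val_sPerm k i'
  have hJ := val_sPerm k j'
  rw [if_pos hk] at hI hJ
  have hi'2 := i'.2
  have hj'2 := j'.2
  have hkn := k.2
  generalize (sPerm k i').val = I at hI hcase ⊢
  generalize (sPerm k j').val = J at hJ hcase ⊢
  split_ifs at hI hJ <;> omega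

theorem exists_factor_I (hσ : ∀ x, σ (σ x) = x)
    (hX : ∀ (k : Fin (n / 2)) (t u : F), Param σ k t u → IsUJ σ (xMat σ k t u))
    (c : F) (k : Fin (n / 2)) (hk : 2 * k.val + 3 < n) (s : UG n σ) (hs : mat s = sMat c k)
    (b : UG n σ) (hb : b ∈ Bsub n σ) :
    ∃ y x : UG n σ, b = y * x ∧ s * y * s⁻¹ ∈ Bsub n σ ∧ x ∈ Xset σ k := by
  have hbT := (mem_Bsub_iff b).1 hb
  have hkn := k.2
  -- the four positions `a < a' < rb < ra`
  obtain ⟨a, ha⟩ : ∃ a : Fin n, a = ia k := ⟨_, rfl⟩
  obtain ⟨a', ha'⟩ : ∃ a' : Fin n, a' = ib k := ⟨_, rfl⟩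
  obtain ⟨ra, hra⟩ : ∃ ra : Fin n, ra = Fin.rev a := ⟨_, rfl⟩
  obtain ⟨rb, hrb⟩ : ∃ rb : Fin n, rb = Fin.rev a' := ⟨_, rfl⟩
  have hva : a.val = k.val := by rw [ha]; rfl
  have hva' : a'.val = k.val + 1 := by rw [ha']; rfl
  have hvra : ra.val = n - 1 - k.val := by rw [hra, val_rev, hva]
  have hvrb : rb.val = n - 2 - k.val := by rw [hrb, val_rev, hva']; omega
  have hrevra : Fin.rev ra = a := by rw [hra, Fin.rev_rev]
  have hrevrb : Fin.rev rb = a' := by rw [hrb, Fin.rev_rev]
  have haa' : a ≠ a' := by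
    intro h; rw [Fin.ext_iff, hva, hva'] at h; omega
  have ha'ra : a' ≠ ra := by
    intro h; rw [Fin.ext_iff, hva', hvra] at h; omega
  have hp : mat b a a ≠ 0 := diag_ne_zero b hbT a
  have hp' : mat b rb rb ≠ 0 := diag_ne_zero b hbT rb
  obtain ⟨p, hpdef⟩ : ∃ p : F, p = mat b a a := ⟨_, rfl⟩
  obtain ⟨r, hrdef⟩ : ∃ r : F, r = mat b a a' := ⟨_, rfl⟩
  obtain ⟨p', hp'def⟩ : ∃ p' : F, p' = mat b rb rb := ⟨_, rfl⟩
  obtain ⟨r', hr'def⟩ : ∃ r' : F, r' = mat b rb ra := ⟨_, rfl⟩
  rw [← hpdef] at hp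
  rw [← hp'def] at hp'
  -- the row relation between rows `a` and `rb`
  have hrel : p * σ r' + r * σ p' = 0 := by
    have h := unitary_rel_row hσ b a rb
    rw [if_neg (by rw [hrevrb]; exact haa')] at h
    rw [← h]
    symm
    rw [Finset.sum_eq_add a a' haa']
    · rw [← hra, ← hrb, ← hpdef, ← hrdef, ← hp'def, ← hr'def]
    · intro j _ hj
      by_cases hlt : j < a
      · rw [hbT a j hlt, zero_mul]
      · have hgt : a' < j := by
          rw [Fin.lt_def, hva']
          have h1 : j.val ≠ a.val := fun h' => hj.1 (Fin.ext h')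
          have h2 : j.val ≠ a'.val := fun h' => hj.2 (Fin.ext h')
          rw [Fin.lt_def] at hlt
          omega
        have : Fin.rev j < rb := by
          rw [Fin.lt_def, val_rev, hvrb]
          rw [Fin.lt_def, hva'] at hgt
          have := j.2
          omega
        rw [hbT rb (Fin.rev j) this, map_zero, mul_zero]
    · intro h; exact absurd (Finset.mem_univ _) h
    · intro h; exact absurd (Finset.mem_univ _) h
  -- the parameter
  obtain ⟨t, htdef⟩ : ∃ t : F, t = r / p := ⟨_, rfl⟩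
  have hσp : σ p ≠ 0 := (map_ne_zero σ).2 hp
  have hσp' : σ p' ≠ 0 := (map_ne_zero σ).2 hp'
  -- `r' + p' σ t = 0`
  have hkey : r' + p' * σ t = 0 := by
    have h1 : σ (p * σ r' + r * σ p') = 0 := by rw [hrel, map_zero]
    rw [map_add, map_mul, map_mul, hσ, hσ] at h1
    rw [htdef, map_div₀]
    field_simp
    linear_combination h1
  have hPar : Param σ k t 0 := by
    unfold Param
    rw [if_pos hk]
  obtain ⟨x, hx⟩ := exists_of_isUJ (hX k t 0 hPar)
  -- the entries of `x`
  have hxe : ∀ i j : Fin n, mat x i j =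
      (if i = j then 1 else 0) + (if a = i ∧ a' = j then t else 0)
        - (if rb = i ∧ ra = j then σ t else 0) := by
    intro i j
    rw [hx, xMat_apply, ← ha, ← ha', ← hra, ← hrb]
    simp
  -- the entries of `x⁻¹`
  have hxinv : ∀ i j : Fin n, mat x⁻¹ i j =
      (if i = j then 1 else 0) + (if rb = i ∧ ra = j then σ t else 0)
        - (if a = i ∧ a' = j then t else 0) := by
    intro i j
    rw [inv_apply, hxe]
    have e1 : (Fin.rev j = Fin.rev i) ↔ (i = j) := by
      rw [Fin.rev_inj]; exact eq_comm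
    have e2 : (a = Fin.rev j ∧ a' = Fin.rev i) ↔ (rb = i ∧ ra = j) := by
      constructor
      · rintro ⟨h1, h2⟩
        refine ⟨?_, ?_⟩
        · rw [hrb, h2, Fin.rev_rev]
        · rw [hra, h1, Fin.rev_rev]
      · rintro ⟨h1, h2⟩
        refine ⟨?_, ?_⟩
        · rw [← h2, hrevra]
        · rw [← h1, hrevrb]
    have e3 : (rb = Fin.rev j ∧ ra = Fin.rev i) ↔ (a = i ∧ a' = j) := by
      constructor
      · rintro ⟨h1, h2⟩
        refine ⟨?_, ?_⟩
        · rw [← hrevra, h2, Fin.rev_rev]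
        · rw [← hrevrb, h1, Fin.rev_rev]
      · rintro ⟨h1, h2⟩
        refine ⟨?_, ?_⟩
        · rw [← h2, hrb]
        · rw [← h1, hra]
    simp only [e1, e2, e3]
    split_ifs <;> simp [hσ]
  -- the entries of `y = b x⁻¹`
  have hsum1 : ∀ (i j : Fin n) (v : F) (e e' : Fin n),
      ∑ l, mat b i l * (if e = l ∧ e' = j then v else 0) =
        if e' = j then mat b i e * v else 0 := by
    intro i j v e e'
    by_cases hj : e' = j
    · rw [if_pos hj, Finset.sum_eq_single e]
      · rw [if_pos ⟨rfl, hj⟩]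
      · intro l _ hl
        rw [if_neg (fun h => hl h.1.symm), mul_zero]
      · intro h; exact absurd (Finset.mem_univ _) h
    · rw [if_neg hj]
      apply Finset.sum_eq_zero
      intro l _
      rw [if_neg (fun h => hj h.2), mul_zero]
  have hye : ∀ i j : Fin n, mat (b * x⁻¹) i j =
      mat b i j + (if ra = j then mat b i rb * σ t else 0)
        - (if a' = j then mat b i a * t else 0) := by
    intro i j
    rw [mat_mul, Matrix.mul_apply]
    simp only [hxinv, mul_add, mul_sub, Finset.sum_add_distrib, Finset.sum_sub_distrib, hsum1]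
    congr 2
    simp
  have hyT : ∀ i j : Fin n, j < i → mat (b * x⁻¹) i j = 0 := by
    intro i j hji
    rw [hye, hbT i j hji, zero_add]
    have h1 : (if ra = j then mat b i rb * σ t else 0) = 0 := by
      by_cases hj : ra = j
      · rw [if_pos hj]
        have : rb < i := by
          rw [Fin.lt_def] at hji ⊢
          rw [← hj, hvra] at hji
          rw [hvrb]; omega
        rw [hbT i rb this, zero_mul]
      · rw [if_neg hj]
    have h2 : (if a' = j then mat b i a * t else 0) = 0 := by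
      by_cases hj : a' = j
      · rw [if_pos hj]
        have : a < i := by
          rw [Fin.lt_def] at hji ⊢
          rw [← hj, hva'] at hji
          rw [hva]; omega
        rw [hbT i a this, zero_mul]
      · rw [if_neg hj]
    rw [h1, h2, sub_zero]
  have hyaa' : mat (b * x⁻¹) a a' = 0 := by
    rw [hye, if_neg (Ne.symm ha'ra), if_pos rfl, ← hpdef, ← hrdef, htdef]
    field_simp
    ring
  have hyrbra : mat (b * x⁻¹) rb ra = 0 := by
    rw [hye, if_pos rfl, if_neg ha'ra, ← hp'def, ← hr'def, sub_zero]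
    exact hkey
  refine ⟨b * x⁻¹, x, by group, ?_, ⟨t, 0, hPar, hx⟩⟩
  -- conjugation by `s`
  have hπ : ∀ i j : Fin n, i ≠ sPerm k j → mat s i j = 0 := by
    intro i j h
    rw [hs, sMat_apply, if_neg h]
  rw [mem_Bsub_iff]
  intro i' j' hlt
  have hconj := mono_conj_apply' s (sPerm k) hπ (b * x⁻¹) (sPerm k i') (sPerm k j')
  rw [sPerm_sPerm, sPerm_sPerm] at hconj
  rw [hconj]
  have hzero : mat (b * x⁻¹) (sPerm k i') (sPerm k j') = 0 := by
    by_cases hcase : sPerm k j' < sPerm k i'
    · exact hyT _ _ hcase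
    · have hor : (sPerm k i' = a ∧ sPerm k j' = a') ∨ (sPerm k i' = rb ∧ sPerm k j' = ra) := by
        have e : ∀ z w : Fin n, z = w ↔ z.val = w.val := fun z w => Fin.ext_iff
        rw [e, e, e, e, hva, hva', hvra, hvrb]
        exact sPerm_order_I k hk i' j' hlt hcase
      rcases hor with ⟨hi, hj⟩ | ⟨hi, hj⟩
      · rw [hi, hj]; exact hyaa'
      · rw [hi, hj]; exact hyrbra
  rw [hzero, mul_zero, zero_mul]

end Cfsg.Agent.Helper73.SuBNR1I
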