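import Mathlib
import Cfsg.Agent.Helper5.SuBN.Defs

/-!
# Piece (R1II) of helper5's S2546 farm: `B = (B ∩ s⁻¹Bs)·X_k` for the root of kind II (`n = 2k+2`)
-/

set_option autoImplicit false
set_option linter.unusedVariables false

namespace Cfsg.Agent.Helper73.SuBNR1II

open Matrix Cfsg.Agent.Helper5.SuBN

variable {F : Type*} [Field F] {n : ℕ} {σ : F →+* F}

theorem exists_factor_II (hσ : ∀ x, σ (σ x) = x)
    (hX : ∀ (k : Fin (n / 2)) (t u : F), Param σ k t u → IsUJ σ (xMat σ k t u))
    (c : F) (hc0 : c ≠ 0) (k : Fin (n / 2)) (hk : 2 * k.val + 2 = n) (s : UG n σ)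
    (hs : mat s = sMat c k) (b : UG n σ) (hb : b ∈ Bsub n σ) :
    ∃ y x : UG n σ, b = y * x ∧ s * y * s⁻¹ ∈ Bsub n σ ∧ x ∈ Xset σ k := by
  have hbT := (mem_Bsub_iff b).1 hb
  have hkn := k.2
  -- the two middle positions
  obtain ⟨a, ha⟩ : ∃ a : Fin n, a = ia k := ⟨_, rfl⟩
  obtain ⟨a', ha'⟩ : ∃ a' : Fin n, a' = ib k := ⟨_, rfl⟩
  have hva : a.val = k.val := by rw [ha]; rfl
  have hva' : a'.val = k.val + 1 := by rw [ha']; rfl
  have hreva : Fin.rev a = a' := by
    apply Fin.ext; rw [val_rev, hva, hva']; omega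
  have hreva' : Fin.rev a' = a := by rw [← hreva, Fin.rev_rev]
  have haa' : a ≠ a' := by
    intro h; rw [Fin.ext_iff, hva, hva'] at h; omega
  have hp : mat b a a ≠ 0 := diag_ne_zero b hbT a
  obtain ⟨p, hpdef⟩ : ∃ p : F, p = mat b a a := ⟨_, rfl⟩
  obtain ⟨r, hrdef⟩ : ∃ r : F, r = mat b a a' := ⟨_, rfl⟩
  rw [← hpdef] at hp
  -- the row relation
  have hrel : p * σ r + r * σ p = 0 := by
    have h := unitary_rel_row hσ b a a
    rw [if_neg (by rw [hreva]; exact haa')] at h
    rw [← h]
    symm
    rw [Finset.sum_eq_add a a' haa']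
    · rw [hreva, hreva', ← hpdef, ← hrdef]
    · intro j _ hj
      by_cases hlt : j < a
      · rw [hbT a j hlt, zero_mul]
      · have hgt : a' < j := by
          rw [Fin.lt_def, hva']
          have h1 : j.val ≠ a.val := fun h' => hj.1 (Fin.ext h')
          have h2 : j.val ≠ a'.val := fun h' => hj.2 (Fin.ext h')
          rw [Fin.lt_def] at hlt
          omega
        have : Fin.rev j < a := by
          rw [Fin.lt_def, val_rev, hva]
          rw [Fin.lt_def, hva'] at hgt
          have := j.2
          omega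
        rw [hbT a (Fin.rev j) this, map_zero, mul_zero]
    · intro h; exact absurd (Finset.mem_univ _) h
    · intro h; exact absurd (Finset.mem_univ _) h
  -- the parameter
  obtain ⟨u, hudef⟩ : ∃ u : F, u = r / p := ⟨_, rfl⟩
  have hσp : σ p ≠ 0 := (map_ne_zero σ).2 hp
  have hu : u + σ u = 0 := by
    rw [hudef, map_div₀]
    field_simp
    linear_combination hrel
  have hσu : σ u = -u := by
    linear_combination hu
  have hPar : Param σ k 0 u := by
    unfold Param
    rw [if_neg (by omega), if_pos hk]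
    exact ⟨rfl, hu⟩
  obtain ⟨x, hx⟩ := exists_of_isUJ (hX k 0 u hPar)
  -- the entries of `x`
  have hxe : ∀ i j : Fin n, mat x i j =
      (if i = j then 1 else 0) + (if a = i ∧ a' = j then u else 0) := by
    intro i j
    rw [hx, xMat_apply, map_zero, ← ha, ← ha', hreva]
    simp
  -- the entries of `x⁻¹`
  have hxinv : ∀ i j : Fin n, mat x⁻¹ i j =
      (if i = j then 1 else 0) + (if a = i ∧ a' = j then σ u else 0) := by
    intro i j
    rw [inv_apply, hxe]
    have e1 : (Fin.rev j = Fin.rev i) ↔ (i = j) := by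
      rw [Fin.rev_inj]; exact eq_comm
    have e2 : (a = Fin.rev j ∧ a' = Fin.rev i) ↔ (a = i ∧ a' = j) := by
      constructor
      · rintro ⟨h1, h2⟩
        refine ⟨?_, ?_⟩
        · rw [← hreva', h2, Fin.rev_rev]
        · rw [← hreva, h1, Fin.rev_rev]
      · rintro ⟨h1, h2⟩
        refine ⟨?_, ?_⟩
        · rw [← h2, hreva']
        · rw [← h1, hreva]
    simp only [e1, e2]
    split_ifs <;> simp
  -- the entries of `y = b x⁻¹`
  have hye : ∀ i j : Fin n, mat (b * x⁻¹) i j =
      mat b i j + (if a' = j then mat b i a * σ u else 0) := by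
    intro i j
    rw [mat_mul, Matrix.mul_apply]
    simp only [hxinv, mul_add, Finset.sum_add_distrib]
    congr 1
    · simp
    · by_cases hj : a' = j
      · rw [if_pos hj]
        rw [Finset.sum_eq_single a]
        · rw [if_pos ⟨rfl, hj⟩]
        · intro l _ hl
          rw [if_neg (fun h => hl h.1.symm), mul_zero]
        · intro h; exact absurd (Finset.mem_univ _) h
      · rw [if_neg hj]
        apply Finset.sum_eq_zero
        intro l _
        rw [if_neg (fun h => hj h.2), mul_zero]
  have hyT : ∀ i j : Fin n, j < i → mat (b * x⁻¹) i j = 0 := by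
    intro i j hji
    rw [hye, hbT i j hji, zero_add]
    by_cases hj : a' = j
    · rw [if_pos hj]
      have : a < i := by
        rw [Fin.lt_def] at hji ⊢
        rw [← hj, hva'] at hji
        rw [hva]; omega
      rw [hbT i a this, zero_mul]
    · rw [if_neg hj]
  have hyaa' : mat (b * x⁻¹) a a' = 0 := by
    rw [hye, if_pos rfl, ← hpdef, ← hrdef, hσu, hudef]
    field_simp
    ring
  refine ⟨b * x⁻¹, x, by group, ?_, ⟨0, u, hPar, hx⟩⟩
  -- conjugation by `s`
  have hπ : ∀ i j : Fin n, i ≠ sPerm k j → mat s i j = 0 := by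
    intro i j h
    rw [hs, sMat_apply, if_neg h]
  rw [mem_Bsub_iff]
  intro i' j' hlt
  have hconj := mono_conj_apply' s (sPerm k) hπ (b * x⁻¹) (sPerm k i') (sPerm k j')
  rw [sPerm_sPerm, sPerm_sPerm] at hconj
  rw [hconj]
  have hzero : mat (b * x⁻¹) (sPerm k i') (sPerm k j') = 0 := by
    by_cases hcase : sPerm k j' < sPerm k i'
    · exact hyT _ _ hcase
    · have hi : sPerm k i' = a := by
        apply Fin.ext
        rw [Fin.lt_def] at hcase hlt
        rw [val_sPerm] at hcase ⊢
        rw [val_sPerm] at hcase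
        rw [hva]
        have := i'.2
        have := j'.2
        split_ifs at hcase ⊢ <;> omega
      have hj : sPerm k j' = a' := by
        apply Fin.ext
        rw [Fin.lt_def] at hcase hlt
        rw [val_sPerm] at hcase ⊢
        rw [val_sPerm] at hcase
        rw [hva']
        have := i'.2
        have := j'.2
        split_ifs at hcase ⊢ <;> omega
      rw [hi, hj]
      exact hyaa'
  rw [hzero, mul_zero, zero_mul]

end Cfsg.Agent.Helper73.SuBNR1II
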