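import Cfsg.Agent.Helper6.SUrep3

/-!
# (G2) for S2334/S2335 (helper6): characters of the skew elements
-/

set_option autoImplicit false
set_option linter.unusedSectionVars false

namespace Cfsg.Agent.Helper73.SUrep

open Matrix Cfsg.Agent.Helper13 Cfsg.Agent.Helper5 Module Cfsg.Agent.Helper6.SUrep

variable {F : Type*} [Field F] [Fintype F] {q n : ℕ}

theorem card_skewS (hF : Fintype.card F = q ^ 2) : Fintype.card (skewS hF) = q := by
  have hq := two_le_of_card_eq_sq hF
  have h := card_trace_fiber hF (c := (1 : F)) one_ne_zero (a := 0)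
    (by rw [zero_pow (by omega)])
  rw [← Nat.card_eq_fintype_card]
  refine Eq.trans ?_ h
  refine Nat.card_congr (Equiv.subtypeEquivRight ?_)
  intro t
  rw [mem_skewS, mul_one, one_pow, mul_one, add_comm]

open scoped Classical in
/-- the fixed field of the `q`-Frobenius has `q` elements -/
theorem card_fixed_eq (hF : Fintype.card F = q ^ 2) :
    (Finset.univ.filter (fun κ : F => κ ^ q = κ)).card = q := by
  have hq := two_le_of_card_eq_sq hF
  have hfK : ∀ t : F, t ^ q * 1 + t * 1 ^ q ∈ Finset.univ.filter (fun κ : F => κ ^ q = κ) := by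
    intro t
    simp only [Finset.mem_filter, Finset.mem_univ, true_and]
    rw [frob_add hF, mul_pow, mul_pow, frob_frob hF, one_pow, one_pow]
    ring
  have htot : q ^ 2 = ∑ s ∈ Finset.univ.filter (fun κ : F => κ ^ q = κ),
      (Finset.univ.filter (fun t : F => t ^ q * 1 + t * 1 ^ q = s)).card := by
    rw [← hF, ← Finset.card_univ]
    exact Finset.card_eq_sum_card_fiberwise (fun t _ => hfK t)
  have hfib : ∀ s ∈ Finset.univ.filter (fun κ : F => κ ^ q = κ),
      (Finset.univ.filter (fun t : F => t ^ q * 1 + t * 1 ^ q = s)).card = q := by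
    intro s hs
    simp only [Finset.mem_filter, Finset.mem_univ, true_and] at hs
    have := card_trace_fiber hF (c := (1 : F)) one_ne_zero (a := s) hs
    rw [Nat.card_eq_fintype_card, Fintype.card_subtype] at this
    exact this
  rw [Finset.sum_congr rfl hfib, Finset.sum_const, smul_eq_mul, sq] at htot
  have hq0 : 0 < q := by omega
  exact (Nat.eq_of_mul_eq_mul_right hq0 htot).symm

/-- multiplication by a non-zero element of the fixed field is onto the skew elements -/
theorem exists_mulS_eq (hF : Fintype.card F = q ^ 2) (κ : F) (hκ : κ ^ q = κ) (hκ0 : κ ≠ 0)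
    (c : skewS hF) : ∃ c' : skewS hF, mulS hF κ hκ c' = c :=
  ⟨(mulSEquiv hF κ hκ hκ0).symm c, (mulSEquiv hF κ hκ hκ0).apply_symm_apply c⟩

open scoped Classical in
theorem exists_fixed_mul_char (hF : Fintype.card F = q ^ 2) (ψ ψ' : AddChar (skewS hF) ℂ)
    (hψ : ψ ≠ 0) (hψ' : ψ' ≠ 0) :
    ∃ (κ : F) (hκ : κ ^ q = κ) (hκ0 : κ ≠ 0), ∀ c, ψ' (mulSEquiv hF κ hκ hκ0 c) = ψ c := by
  have hq := two_le_of_card_eq_sq hF
  -- the candidates
  set K0 : Finset F := Finset.univ.filter (fun κ : F => κ ^ q = κ ∧ κ ≠ 0) with hK0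
  have hK0card : K0.card = q - 1 := by
    have h1 : K0 = (Finset.univ.filter (fun κ : F => κ ^ q = κ)).erase 0 := by
      ext κ
      simp only [hK0, Finset.mem_filter, Finset.mem_univ, true_and, Finset.mem_erase]
      tauto
    rw [h1, Finset.card_erase_of_mem, card_fixed_eq hF]
    simp only [Finset.mem_filter, Finset.mem_univ, true_and]
    rw [zero_pow (by omega)]
  -- the map
  set g : F → AddChar (skewS hF) ℂ := fun κ =>
    if h : κ ^ q = κ then ψ'.compAddMonoidHom (mulS hF κ h) else 0 with hg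
  have hg_apply : ∀ (κ : F) (h : κ ^ q = κ) (c : skewS hF), g κ c = ψ' (mulS hF κ h c) := by
    intro κ h c
    simp only [hg, dif_pos h, AddChar.compAddMonoidHom_apply]
  have hg_ne : ∀ κ ∈ K0, g κ ≠ 0 := by
    intro κ hκmem h0
    simp only [hK0, Finset.mem_filter, Finset.mem_univ, true_and] at hκmem
    obtain ⟨hκ, hκ0⟩ := hκmem
    apply hψ'
    rw [AddChar.eq_zero_iff] at h0 ⊢
    intro c
    obtain ⟨c', rfl⟩ := exists_mulS_eq hF κ hκ hκ0 c
    rw [← hg_apply κ hκ c']
    exact h0 c'
  have hg_inj : Set.InjOn g (K0 : Set F) := by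
    intro κ hκmem κ' hκ'mem heq
    rw [Finset.mem_coe] at hκmem hκ'mem
    simp only [hK0, Finset.mem_filter, Finset.mem_univ, true_and] at hκmem hκ'mem
    obtain ⟨hκ, hκ0⟩ := hκmem
    obtain ⟨hκ', hκ'0⟩ := hκ'mem
    by_contra hne
    have hδ0 : κ - κ' ≠ 0 := sub_ne_zero.mpr hne
    have hδ : (κ - κ') ^ q = κ - κ' := by
      rw [herm_sub_pow hF, hκ, hκ']
    apply hψ'
    rw [AddChar.eq_zero_iff]
    intro c
    obtain ⟨c', rfl⟩ := exists_mulS_eq hF (κ - κ') hδ hδ0 c
    have h1 : mulS hF (κ - κ') hδ c' = mulS hF κ hκ c' - mulS hF κ' hκ' c' := by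
      apply Subtype.ext
      rw [AddSubgroup.coe_sub, mulS_coe, mulS_coe, mulS_coe, sub_mul]
    rw [h1, AddChar.map_sub_eq_div, ← hg_apply κ hκ c', ← hg_apply κ' hκ' c', heq]
    have hne1 : g κ' c' ≠ 0 := by
      rw [hg_apply κ' hκ' c']
      intro h
      have h2 := AddChar.map_add_eq_mul ψ' (mulS hF κ' hκ' c') (-(mulS hF κ' hκ' c'))
      rw [add_neg_cancel, AddChar.map_zero_eq_one, h, zero_mul] at h2
      exact one_ne_zero h2
    exact div_self hne1
  -- counting
  set T : Finset (AddChar (skewS hF) ℂ) := Finset.univ.filter (fun χ => χ ≠ 0) with hT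
  have hTcard : T.card = q - 1 := by
    have h1 : T = Finset.univ.erase 0 := by
      ext χ
      simp [hT]
    rw [h1, Finset.card_erase_of_mem (Finset.mem_univ _), Finset.card_univ, AddChar.card_eq,
      card_skewS hF]
  have himg : K0.image g = T := by
    apply Finset.eq_of_subset_of_card_le
    · intro χ hχ
      obtain ⟨κ, hκmem, rfl⟩ := Finset.mem_image.mp hχ
      simp only [hT, Finset.mem_filter, Finset.mem_univ, true_and]
      exact hg_ne κ hκmem
    · rw [Finset.card_image_of_injOn hg_inj, hK0card, hTcard]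
  have hψT : ψ ∈ T := by
    simp only [hT, Finset.mem_filter, Finset.mem_univ, true_and]
    exact hψ
  rw [← himg] at hψT
  obtain ⟨κ, hκmem, hκψ⟩ := Finset.mem_image.mp hψT
  simp only [hK0, Finset.mem_filter, Finset.mem_univ, true_and] at hκmem
  obtain ⟨hκ, hκ0⟩ := hκmem
  refine ⟨κ, hκ, hκ0, fun c => ?_⟩
  rw [← hκψ, hg_apply κ hκ c]
  rfl

end Cfsg.Agent.Helper73.SUrep
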