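import Mathlib
import Cfsg.Agent.Helper29.BG10A
import Cfsg.Agent.Helper1.BG1212B
import Cfsg.Prelude.Def_OddOrderLocal

/-!
Helper73 (for helper70, #3892 chunk [PU]): six pure group-theoretic lemmas for Theorem N3.
-/

set_option autoImplicit false

namespace Cfsg.Agent.Helper73.BG14

open Cfsg Cfsg.Agent.Helper29.BG10
open scoped commutatorElement

variable {G : Type*} [Group G] [Finite G]

/-- in a finite cyclic group a subgroup is determined by its order -/
theorem eq_of_card_eq_of_isCyclic {C : Type*} [Group C] [Finite C] [IsCyclic C]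
    {A B : Subgroup C} (h : Nat.card A = Nat.card B) : A = B := by
  classical
  have := Fintype.ofFinite C
  have key : ∀ H : Subgroup C, (H : Set C) = {a : C | a ^ Nat.card H = 1} := by
    intro H
    have hpos : 0 < Nat.card H := Nat.card_pos
    have h1 : (H : Set C) ⊆ {a : C | a ^ Nat.card H = 1} := by
      intro a ha
      have := pow_card_eq_one' (G := H) (x := ⟨a, ha⟩)
      exact congrArg Subtype.val this
    have h2 : Nat.card {a : C | a ^ Nat.card H = 1} ≤ Nat.card H := by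
      have := IsCyclic.card_pow_eq_one_le (α := C) hpos
      rw [Nat.card_eq_fintype_card, Fintype.card_subtype]
      simpa using this
    have h3 : Nat.card (H : Set C) = Nat.card H := rfl
    exact Set.eq_of_subset_of_ncard_le h1 (by
      rw [Set.ncard_eq_toFinset_card', Set.ncard_eq_toFinset_card']
      simp only [Set.toFinset_card]
      rw [← Nat.card_eq_fintype_card, ← Nat.card_eq_fintype_card]
      exact h2) (Set.toFinite _)
  apply SetLike.coe_injective
  rw [key A, key B, h]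

/-- (PU1) in a cyclic group a subgroup is determined by its order -/
theorem eq_of_le_cyclic_of_card_eq {Z A B : Subgroup G} (hZ : IsCyclic ↥Z) (hA : A ≤ Z)
    (hB : B ≤ Z) (h : Nat.card A = Nat.card B) : A = B := by
  have h1 : A.subgroupOf Z = B.subgroupOf Z := by
    apply eq_of_card_eq_of_isCyclic
    rw [Nat.card_congr (Subgroup.subgroupOfEquivOfLe hA).toEquiv,
      Nat.card_congr (Subgroup.subgroupOfEquivOfLe hB).toEquiv, h]
  have h2 := congrArg (Subgroup.map Z.subtype) h1
  rwa [Subgroup.map_subgroupOf_eq_of_le hA, Subgroup.map_subgroupOf_eq_of_le hB] at h2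

/-- (PU2) a subgroup containing a Sylow `q`-subgroup of `E` for every prime `q` contains `E` -/
theorem le_of_forall_sylow_le {E K : Subgroup G}
    (h : ∀ q : ℕ, q.Prime → ∃ S : Subgroup G, IsSylowIn q S E ∧ S ≤ K) : E ≤ K := by
  have hle : E ⊓ K ≤ E := inf_le_left
  have hdvd : Nat.card E ∣ Nat.card ↥(E ⊓ K) := by
    rw [← Nat.factorization_prime_le_iff_dvd Nat.card_pos.ne' Nat.card_pos.ne']
    intro q hq
    obtain ⟨S, ⟨hSE, hSp, hSrel⟩, hSK⟩ := h q hq
    have h1 : Nat.card S * S.relIndex E = Nat.card E := by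
      have := Subgroup.relIndex_mul_relIndex (H := (⊥ : Subgroup G)) (K := S) (L := E) bot_le hSE
      rwa [Subgroup.relIndex_bot_left, Subgroup.relIndex_bot_left] at this
    have hrel0 : S.relIndex E ≠ 0 := by
      intro h0
      apply hSrel
      rw [h0]
      exact dvd_zero q
    have h2 : (Nat.card E).factorization q = (Nat.card S).factorization q := by
      rw [← h1, Nat.factorization_mul Nat.card_pos.ne' hrel0]
      simp only [Finsupp.coe_add, Pi.add_apply]
      rw [Nat.factorization_eq_zero_of_not_dvd hSrel, add_zero]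
    rw [h2]
    have h3 : Nat.card S ∣ Nat.card ↥(E ⊓ K) := Subgroup.card_dvd_of_le (le_inf hSE hSK)
    exact (Nat.factorization_le_iff_dvd Nat.card_pos.ne' Nat.card_pos.ne').mpr h3 q
  have heq : E ⊓ K = E :=
    Subgroup.eq_of_le_of_card_ge hle (Nat.le_of_dvd Nat.card_pos hdvd)
  rw [← heq]
  exact inf_le_right

/-- (PU3) a coprime group of automorphisms of a cyclic `s`-group centralizing the subgroup of
order `s` is trivial -/
theorem le_centralizer_of_cyclic_of_le_centralizer_omega {S R Y : Subgroup G} {s : ℕ}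
    (hs : s.Prime) (hS : IsPGroup s ↥S) (hSc : IsCyclic ↥S)
    (hRS : R ≤ Subgroup.normalizer (S : Set G)) (hcop : (Nat.card ↥R).Coprime s)
    (hYS : Y ≤ S) (hY : Nat.card ↥Y = s) (hRY : R ≤ Subgroup.centralizer (Y : Set G)) :
    R ≤ Subgroup.centralizer (S : Set G) := by
  have : Fact s.Prime := ⟨hs⟩
  intro t ht
  have hcomm : ∀ x ∈ S, ∀ y ∈ S, x * y = y * x := by
    intro x hx y hy
    have hc : IsMulCommutative ↥S := IsCyclic.isMulCommutative
    have := hc.is_comm.comm ⟨x, hx⟩ ⟨y, hy⟩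
    exact congrArg Subtype.val this
  obtain ⟨n, hn⟩ := hS.exists_card_eq
  have hcop' : (orderOf t).Coprime (Nat.card S) := by
    rw [hn]
    apply Nat.Coprime.pow_right
    have h1 : orderOf t ∣ Nat.card R := by
      have := orderOf_dvd_natCard (⟨t, ht⟩ : R)
      rwa [Subgroup.orderOf_mk] at this
    exact Nat.Coprime.coprime_dvd_left h1 hcop
  obtain ⟨K, hKS, hKmem, hKC, -, -⟩ :=
    Cfsg.Agent.Helper1.BG1212.exists_commPart S t hcomm (hRS ht) hcop'
  have hKbot : K = ⊥ := by
    by_contra hK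
    have hKp : IsPGroup s K := hS.to_le hKS
    have hdvd : s ∣ Nat.card K := by
      obtain ⟨k, hk⟩ := hKp.exists_card_eq
      rw [hk]
      have hk0 : k ≠ 0 := by
        rintro rfl
        rw [pow_zero] at hk
        exact hK (Subgroup.card_eq_one.mp hk)
      exact dvd_pow_self s hk0
    obtain ⟨y, hy⟩ := exists_prime_orderOf_dvd_card' (G := K) s hdvd
    have hYeq : Y = Subgroup.zpowers (y : G) := by
      apply eq_of_le_cyclic_of_card_eq hSc hYS
      · rw [Subgroup.zpowers_le]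
        exact hKS y.2
      · rw [hY, Nat.card_zpowers, Subgroup.orderOf_coe, hy]
    have hyY : (y : G) ∈ Y := by
      rw [hYeq]
      exact Subgroup.mem_zpowers _
    have hyC : (y : G) ∈ K ⊓ Subgroup.centralizer ({t} : Set G) := by
      refine Subgroup.mem_inf.mpr ⟨y.2, ?_⟩
      rw [Subgroup.mem_centralizer_iff]
      intro z hz
      rw [Set.mem_singleton_iff] at hz
      rw [hz]
      exact (Subgroup.mem_centralizer_iff.mp (hRY ht) y hyY).symm
    rw [hKC, Subgroup.mem_bot] at hyC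
    have h1 : orderOf (y : K) = 1 := by
      rw [← Subgroup.orderOf_coe, hyC, orderOf_one]
    rw [hy] at h1
    exact hs.one_lt.ne' h1
  rw [Subgroup.mem_centralizer_iff]
  intro v hv
  have h1 : v * t * v⁻¹ * t⁻¹ ∈ K := (hKmem _).mpr ⟨v, hv, rfl⟩
  rw [hKbot, Subgroup.mem_bot] at h1
  calc v * t = (v * t * v⁻¹ * t⁻¹) * t * v := by group
    _ = t * v := by rw [h1, one_mul]

/-- (PU4) Burnside: if an `s`-subgroup `Y ≠ 1` of `E'` lies in the cyclic Sylow `s`-subgroup `S`
of `E`, some `r`-subgroup of `N_E(S)`, `r ≠ s`, does not centralize `S` -/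
theorem exists_pgroup_not_le_centralizer {E S Y : Subgroup G} {s : ℕ} (hs : s.Prime)
    (hS : IsSylowIn s S E) (hSc : IsCyclic ↥S) (hYS : Y ≤ S) (hY1 : Y ≠ ⊥)
    (hYE : Y ≤ ⁅E, E⁆) :
    ∃ (r : ℕ) (R₀ : Subgroup G), r.Prime ∧ r ≠ s ∧ R₀ ≤ E ∧ IsPGroup r ↥R₀ ∧
      R₀ ≤ Subgroup.normalizer (S : Set G) ∧ ¬ R₀ ≤ Subgroup.centralizer (S : Set G) := by
  have : Fact s.Prime := ⟨hs⟩
  obtain ⟨hSE, hSp, hSrel⟩ := hS
  by_contra hcon
  push Not at hcon
  have hScomm : S ≤ Subgroup.centralizer (S : Set G) := by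
    intro x hx
    rw [Subgroup.mem_centralizer_iff]
    intro y hy
    have hc : IsMulCommutative ↥S := IsCyclic.isMulCommutative
    have := hc.is_comm.comm ⟨y, hy⟩ ⟨x, hx⟩
    exact congrArg Subtype.val this
  -- Step 1
  have hNC : E ⊓ Subgroup.normalizer (S : Set G) ≤ Subgroup.centralizer (S : Set G) := by
    apply le_of_forall_sylow_le
    intro q hq
    by_cases hqs : q = s
    · subst hqs
      refine ⟨S, ⟨le_inf hSE Subgroup.le_normalizer, hSp, ?_⟩, hScomm⟩
      intro hdvd
      apply hSrel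
      have h1 := Subgroup.relIndex_mul_relIndex (H := S)
        (K := E ⊓ Subgroup.normalizer (S : Set G)) (L := E)
        (le_inf hSE Subgroup.le_normalizer) inf_le_left
      rw [← h1]
      exact Dvd.dvd.mul_right hdvd _
    · have : Fact q.Prime := ⟨hq⟩
      obtain ⟨R₀, -, hR₀⟩ := exists_isSylowIn_ge (p := q)
        (N := E ⊓ Subgroup.normalizer (S : Set G)) (Y := ⊥) bot_le IsPGroup.of_bot
      exact ⟨R₀, hR₀, hcon q R₀ hq hqs (hR₀.1.trans inf_le_left) hR₀.2.1
        (hR₀.1.trans inf_le_right)⟩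
  -- Step 2: transfer in `↥E`
  have hP1 : IsPGroup s ↥(S.subgroupOf E) := hSp.comap_subtype
  have hP2 : ¬ s ∣ (S.subgroupOf E).index := hSrel
  let P : Sylow s ↥E := hP1.toSylow hP2
  have hPcoe : (P : Subgroup ↥E) = S.subgroupOf E := rfl
  have hP : Subgroup.normalizer ((P : Subgroup ↥E) : Set ↥E) ≤
      Subgroup.centralizer ((P : Subgroup ↥E) : Set ↥E) := by
    intro e he
    have heN : (e : G) ∈ Subgroup.normalizer (S : Set G) := by
      rw [Subgroup.mem_normalizer_iff]
      intro h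
      constructor
      · intro hh
        have h1 : (⟨h, hSE hh⟩ : ↥E) ∈ (P : Subgroup ↥E) := by
          rw [hPcoe, Subgroup.mem_subgroupOf]
          exact hh
        have h2 := (Subgroup.mem_normalizer_iff.mp he (⟨h, hSE hh⟩ : ↥E)).mp h1
        rw [hPcoe, Subgroup.mem_subgroupOf] at h2
        exact h2
      · intro hh
        have hhE : h ∈ E := by
          have h3 : h = (e : G)⁻¹ * ((e : G) * h * (e : G)⁻¹) * (e : G) := by group
          rw [h3]
          exact E.mul_mem (E.mul_mem (E.inv_mem e.2) (hSE hh)) e.2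
        have h2 : (e * ⟨h, hhE⟩ * e⁻¹ : ↥E) ∈ (P : Subgroup ↥E) := by
          rw [hPcoe, Subgroup.mem_subgroupOf]
          exact hh
        have h1 := (Subgroup.mem_normalizer_iff.mp he (⟨h, hhE⟩ : ↥E)).mpr h2
        rw [hPcoe, Subgroup.mem_subgroupOf] at h1
        exact h1
    have heC : (e : G) ∈ Subgroup.centralizer (S : Set G) :=
      hNC (Subgroup.mem_inf.mpr ⟨e.2, heN⟩)
    rw [Subgroup.mem_centralizer_iff]
    intro x hx
    rw [SetLike.mem_coe, hPcoe, Subgroup.mem_subgroupOf] at hx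
    apply Subtype.ext
    exact Subgroup.mem_centralizer_iff.mp heC x hx
  have hcomm_le : _root_.commutator ↥E ≤ (MonoidHom.transferSylow P hP).ker := by
    rw [_root_.commutator_def, Subgroup.commutator_le]
    intro a _ b _
    rw [MonoidHom.mem_ker, map_commutatorElement, commutatorElement_eq_one_iff_commute]
    have h1 := hP (Subgroup.le_normalizer (MonoidHom.transferSylow P hP b).2)
      (MonoidHom.transferSylow P hP a) (MonoidHom.transferSylow P hP a).2
    exact (Subtype.ext h1 : MonoidHom.transferSylow P hP a * MonoidHom.transferSylow P hP b =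
      MonoidHom.transferSylow P hP b * MonoidHom.transferSylow P hP a)
  have hdisj := MonoidHom.ker_transferSylow_disjoint P hP (Y.subgroupOf E)
    ((hSp.to_le hYS).comap_subtype)
  apply hY1
  rw [eq_bot_iff]
  intro y hy
  have hyc : y ∈ ⁅E, E⁆ := hYE hy
  rw [← Subgroup.map_subtype_commutator] at hyc
  obtain ⟨y', hy'c, rfl⟩ := hyc
  have h1 : y' ∈ (MonoidHom.transferSylow P hP).ker ⊓ Y.subgroupOf E :=
    Subgroup.mem_inf.mpr ⟨hcomm_le hy'c, Subgroup.mem_subgroupOf.mpr hy⟩
  rw [hdisj.eq_bot, Subgroup.mem_bot] at h1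
  rw [h1]
  exact Subgroup.one_mem _

/-- (PU5) -/
theorem isComplIn_centralizer {M E K P : Subgroup G} (hE : Cfsg.IsComplIn E K M)
    (hK : M ≤ Subgroup.normalizer (K : Set G)) (hPE : P ≤ E) :
    Cfsg.IsComplIn (E ⊓ Subgroup.centralizer (P : Set G)) (K ⊓ Subgroup.centralizer (P : Set G))
      (M ⊓ Subgroup.centralizer (P : Set G)) := by
  obtain ⟨hEM, hKM, hEK, hfac⟩ := hE
  refine ⟨inf_le_inf_right _ hEM, inf_le_inf_right _ hKM, ?_, ?_⟩
  · rw [eq_bot_iff, ← hEK]
    exact inf_le_inf inf_le_left inf_le_left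
  · intro m hm
    obtain ⟨hmM, hmC⟩ := Subgroup.mem_inf.mp hm
    obtain ⟨a, ha, b, hb, rfl⟩ := hfac m hmM
    have key : ∀ x ∈ P, b * x * b⁻¹ * x⁻¹ = 1 ∧ a⁻¹ * x * a * x⁻¹ = 1 := by
      intro x hx
      have hxE : x ∈ E := hPE hx
      have h1 : x * (a * b) = a * b * x := Subgroup.mem_centralizer_iff.mp hmC x hx
      have h2 : b * x * b⁻¹ * x⁻¹ = a⁻¹ * x * a * x⁻¹ := by
        have : b * x * b⁻¹ = a⁻¹ * x * a := by
          calc b * x * b⁻¹ = a⁻¹ * (a * b * x) * b⁻¹ := by group
            _ = a⁻¹ * (x * (a * b)) * b⁻¹ := by rw [h1]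
            _ = a⁻¹ * x * a := by group
        rw [this]
      have h3 : b * x * b⁻¹ * x⁻¹ ∈ K := by
        have hxN : x ∈ Subgroup.normalizer (K : Set G) := hK (hEM hxE)
        have h4 : x * b⁻¹ * x⁻¹ ∈ K :=
          (Subgroup.mem_normalizer_iff.mp hxN b⁻¹).mp (K.inv_mem hb)
        have : b * x * b⁻¹ * x⁻¹ = b * (x * b⁻¹ * x⁻¹) := by group
        rw [this]
        exact K.mul_mem hb h4
      have h5 : a⁻¹ * x * a * x⁻¹ ∈ E :=
        E.mul_mem (E.mul_mem (E.mul_mem (E.inv_mem ha) hxE) ha) (E.inv_mem hxE)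
      have h6 : b * x * b⁻¹ * x⁻¹ ∈ E ⊓ K := ⟨h2 ▸ h5, h3⟩
      rw [hEK, Subgroup.mem_bot] at h6
      exact ⟨h6, h2 ▸ h6⟩
    refine ⟨a, Subgroup.mem_inf.mpr ⟨ha, ?_⟩, b, Subgroup.mem_inf.mpr ⟨hb, ?_⟩, rfl⟩
    · rw [Subgroup.mem_centralizer_iff]
      intro x hx
      have := (key x hx).2
      calc x * a = a * (a⁻¹ * x * a * x⁻¹) * x := by group
        _ = a * x := by rw [this, mul_one]
    · rw [Subgroup.mem_centralizer_iff]
      intro x hx
      have := (key x hx).1
      calc x * b = (b * x * b⁻¹ * x⁻¹)⁻¹ * b * x := by group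
        _ = b * x := by rw [this]; group

/-- (PU6) -/
theorem inf_normalizer_eq_of_isComplIn {M E K X : Subgroup G} (hE : Cfsg.IsComplIn E K M)
    (hK : M ≤ Subgroup.normalizer (K : Set G)) (hXE : X ≤ E)
    (hEX : E ≤ Subgroup.normalizer (X : Set G)) :
    M ⊓ Subgroup.normalizer (X : Set G) = E ⊔ (K ⊓ Subgroup.centralizer (X : Set G)) := by
  obtain ⟨hEM, hKM, hEK, hfac⟩ := hE
  apply le_antisymm
  · intro m hm
    obtain ⟨hmM, hmN⟩ := Subgroup.mem_inf.mp hm
    obtain ⟨a, ha, b, hb, rfl⟩ := hfac m hmM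
    have hbN : b ∈ Subgroup.normalizer (X : Set G) := by
      have : b = a⁻¹ * (a * b) := by group
      rw [this]
      exact Subgroup.mul_mem _ (Subgroup.inv_mem _ (hEX ha)) hmN
    have hbC : b ∈ Subgroup.centralizer (X : Set G) := by
      rw [Subgroup.mem_centralizer_iff]
      intro x hx
      have hxE : x ∈ E := hXE hx
      have h3 : b * x * b⁻¹ * x⁻¹ ∈ K := by
        have hxN : x ∈ Subgroup.normalizer (K : Set G) := hK (hEM hxE)
        have h4 : x * b⁻¹ * x⁻¹ ∈ K :=
          (Subgroup.mem_normalizer_iff.mp hxN b⁻¹).mp (K.inv_mem hb)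
        have : b * x * b⁻¹ * x⁻¹ = b * (x * b⁻¹ * x⁻¹) := by group
        rw [this]
        exact K.mul_mem hb h4
      have h5 : b * x * b⁻¹ * x⁻¹ ∈ E := by
        apply hXE
        exact X.mul_mem ((Subgroup.mem_normalizer_iff.mp hbN x).mp hx) (X.inv_mem hx)
      have h6 : b * x * b⁻¹ * x⁻¹ ∈ E ⊓ K := ⟨h5, h3⟩
      rw [hEK, Subgroup.mem_bot] at h6
      calc x * b = (b * x * b⁻¹ * x⁻¹)⁻¹ * b * x := by group
        _ = b * x := by rw [h6]; group
    exact Subgroup.mul_mem_sup ha (Subgroup.mem_inf.mpr ⟨hb, hbC⟩)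
  · apply sup_le
    · exact le_inf hEM hEX
    · exact le_inf (inf_le_left.trans hKM) (inf_le_right.trans (Subgroup.centralizer_le_normalizer _))

end Cfsg.Agent.Helper73.BG14
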