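import Mathlib

/-!
# (R) for S2334/S2335 (helper6): an irreducible subrepresentation on which `g` acts nontrivially
-/

set_option autoImplicit false

namespace Cfsg.Agent.Helper73.SUrep

open Module

section

variable {G : Type*} [Group G] {M : Type*} [AddCommGroup M] [Module ℂ M]
  {ρ : Representation ℂ G M}

/-- push a subrepresentation of a subrepresentation down to the big representation -/
def pushSub (σ : Subrepresentation ρ) (τ : Subrepresentation σ.toRepresentation) :
    Subrepresentation ρ where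
  toSubmodule := τ.toSubmodule.map σ.toSubmodule.subtype
  apply_mem_toSubmodule := by
    intro g v hv
    obtain ⟨w, hw, rfl⟩ := Submodule.mem_map.mp hv
    refine Submodule.mem_map.mpr ⟨σ.toRepresentation g w, τ.apply_mem_toSubmodule g hw, ?_⟩
    rfl

theorem mem_pushSub {σ : Subrepresentation ρ} {τ : Subrepresentation σ.toRepresentation}
    {v : M} : v ∈ (pushSub σ τ).toSubmodule ↔ ∃ w : σ.toSubmodule, w ∈ τ.toSubmodule ∧ (w : M) = v := by
  show v ∈ τ.toSubmodule.map σ.toSubmodule.subtype ↔ _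
  rw [Submodule.mem_map]
  rfl

theorem pushSub_le (σ : Subrepresentation ρ) (τ : Subrepresentation σ.toRepresentation) :
    (pushSub σ τ).toSubmodule ≤ σ.toSubmodule := by
  intro v hv
  obtain ⟨w, -, rfl⟩ := mem_pushSub.mp hv
  exact w.2

theorem pushSub_lt [FiniteDimensional ℂ M] (σ : Subrepresentation ρ)
    (τ : Subrepresentation σ.toRepresentation)
    (hτ : τ ≠ ⊤) : finrank ℂ (pushSub σ τ).toSubmodule < finrank ℂ σ.toSubmodule := by
  apply Submodule.finrank_lt_finrank_of_lt
  refine lt_of_le_of_ne (pushSub_le σ τ) ?_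
  intro h
  apply hτ
  apply Subrepresentation.toSubmodule_injective
  show τ.toSubmodule = ⊤
  rw [eq_top_iff]
  intro w _
  have hw : (w : M) ∈ (pushSub σ τ).toSubmodule := by rw [h]; exact w.2
  obtain ⟨w', hw', hww'⟩ := mem_pushSub.mp hw
  have : w' = w := Subtype.ext hww'
  rwa [this] at hw'

end

/-- (R) reduction to irreducible representations (Maschke) -/
theorem exists_irreducible_subrep_ne_one {G : Type*} [Group G] [Finite G] {M : Type*}
    [AddCommGroup M] [Module ℂ M] [FiniteDimensional ℂ M] (ρ : Representation ℂ G M) (g : G)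
    (hg : ρ g ≠ 1) :
    ∃ σ : Subrepresentation ρ, σ.toRepresentation.IsIrreducible ∧ σ.toRepresentation g ≠ 1 := by
  classical
  have : NeZero (Nat.card G : ℂ) := ⟨by exact_mod_cast Nat.card_pos.ne'⟩
  -- the property: `g` moves a vector of `σ`
  let P : Subrepresentation ρ → Prop := fun σ => ∃ v ∈ σ.toSubmodule, ρ g v ≠ v
  have hPtop : P ⊤ := by
    by_contra h
    apply hg
    ext v
    by_contra hv
    exact h ⟨v, Submodule.mem_top, hv⟩
  obtain ⟨σ, hσP, hσmin⟩ := (measure (fun σ : Subrepresentation ρ =>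
    finrank ℂ σ.toSubmodule)).wf.has_min {σ | P σ} ⟨⊤, hPtop⟩
  have hmin : ∀ τ : Subrepresentation ρ, finrank ℂ τ.toSubmodule < finrank ℂ σ.toSubmodule →
      ∀ v ∈ τ.toSubmodule, ρ g v = v := by
    intro τ hlt v hv
    by_contra hne
    exact hσmin τ ⟨v, hv, hne⟩ hlt
  obtain ⟨v₀, hv₀σ, hv₀⟩ := hσP
  refine ⟨σ, ?_, ?_⟩
  · -- irreducible
    have hnt : Nontrivial (Subrepresentation σ.toRepresentation) := by
      refine ⟨⊥, ⊤, ?_⟩
      intro h
      have h2 : (⟨v₀, hv₀σ⟩ : σ.toSubmodule) ∈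
          (⊤ : Subrepresentation σ.toRepresentation).toSubmodule := Submodule.mem_top
      rw [← h] at h2
      have h3 : (⟨v₀, hv₀σ⟩ : σ.toSubmodule) = 0 := (Submodule.mem_bot ℂ).mp h2
      have h4 : v₀ = 0 := congrArg Subtype.val h3
      apply hv₀
      rw [h4, map_zero]
    refine { toNontrivial := hnt, eq_bot_or_eq_top := ?_ }
    intro τ
    by_contra hcon
    push Not at hcon
    obtain ⟨hbot, htop⟩ := hcon
    obtain ⟨τ', hτ'⟩ := exists_isCompl τ
    have hτ'top : τ' ≠ ⊤ := by
      intro h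
      rw [h] at hτ'
      have h5 := hτ'.inf_eq_bot
      rw [inf_top_eq] at h5
      exact hbot h5
    have h1 := hmin (pushSub σ τ) (pushSub_lt σ τ htop)
    have h2 := hmin (pushSub σ τ') (pushSub_lt σ τ' hτ'top)
    -- decompose `v₀`
    have hsup : τ.toSubmodule ⊔ τ'.toSubmodule = ⊤ := by
      have := hτ'.sup_eq_top
      have h3 := congrArg Subrepresentation.toSubmodule this
      exact h3
    have hmem : (⟨v₀, hv₀σ⟩ : σ.toSubmodule) ∈ τ.toSubmodule ⊔ τ'.toSubmodule := by
      rw [hsup]; exact Submodule.mem_top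
    obtain ⟨a, ha, b, hb, hab⟩ := Submodule.mem_sup.mp hmem
    have hav : ρ g (a : M) = a := h1 _ (mem_pushSub.mpr ⟨a, ha, rfl⟩)
    have hbv : ρ g (b : M) = b := h2 _ (mem_pushSub.mpr ⟨b, hb, rfl⟩)
    apply hv₀
    have hv : v₀ = (a : M) + (b : M) := by
      have := congrArg Subtype.val hab
      exact this.symm
    rw [hv, map_add, hav, hbv]
  · intro h
    apply hv₀
    have := congrArg (fun f : Module.End ℂ σ.toSubmodule => ((f ⟨v₀, hv₀σ⟩ : σ.toSubmodule) : M)) h
    exact this

end Cfsg.Agent.Helper73.SUrep
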