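import Mathlib
import Cfsg.Agent.Helper30.HallSym.Defs
import Cfsg.Agent.Helper37.HallSymGA1

/-!
# Piece (A-1) of #6463 (Hall subgroups of `A_n`, helper30)

The alternating analogue of `Helper37.HallSym.valuation_eq_of_invariant`.
-/

set_option autoImplicit false

open Equiv Equiv.Perm MulAction Subgroup Cfsg Cfsg.Agent.Helper30.HallSym
open scoped Nat Pointwise

universe u

namespace Cfsg.Agent.Helper73.HallSym

open Cfsg.Agent.Helper37.HallSym

/-- a subgroup of `Perm α` containing an odd permutation has twice the order of its even part -/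
theorem two_mul_card_dvd_of_le_alternating {α : Type u} [Fintype α] [DecidableEq α]
    (S M : Subgroup (Perm α)) (hMS : M ≤ S) (hMA : M ≤ alternatingGroup α)
    (hodd : ∃ g ∈ S, Perm.sign g = -1) : 2 * Nat.card M ∣ Nat.card S := by
  let sg : S →* ℤˣ := Perm.sign.comp S.subtype
  have hker : M.subgroupOf S ≤ sg.ker := by
    intro g hg
    rw [MonoidHom.mem_ker]
    have : (g : Perm α) ∈ alternatingGroup α := hMA (Subgroup.mem_subgroupOf.1 hg)
    exact Perm.mem_alternatingGroup.1 this
  have hcardM : Nat.card (M.subgroupOf S) = Nat.card M :=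
    Nat.card_congr (Subgroup.subgroupOfEquivOfLe hMS).toEquiv
  have h1 : Nat.card M ∣ Nat.card sg.ker := by
    rw [← hcardM]
    exact Subgroup.card_dvd_of_le hker
  have hrange : sg.range = ⊤ := by
    obtain ⟨g, hgS, hg⟩ := hodd
    rw [eq_top_iff]
    intro u _
    rcases Int.units_eq_one_or u with h | h
    · rw [h]
      exact one_mem _
    · rw [h]
      exact ⟨⟨g, hgS⟩, hg⟩
  have h2 : Nat.card S = Nat.card sg.ker * 2 := by
    rw [← Subgroup.card_mul_index sg.ker, Subgroup.index_ker, hrange, Subgroup.card_top]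
    congr 1
    rw [Nat.card_eq_fintype_card]
    rfl
  rw [h2, mul_comm]
  exact Nat.mul_dvd_mul_right h1 2

theorem alt_valuation_eq_of_invariant {α : Type u} [Fintype α] [DecidableEq α] {ι : Type}
    [Fintype ι] [DecidableEq ι] {π : Set ℕ} (M : Subgroup (Perm α))
    (hM : IsPiHallOf π M (alternatingGroup α)) (f : α → ι)
    (hf : ∀ g ∈ M, ∀ x, f (g x) = f x) (hfib : ∃ x y : α, x ≠ y ∧ f x = f y)
    (r : ℕ) (hr : r.Prime) (hrπ : r ∈ π) :
    padicValNat r (Fintype.card α)! = ∑ i, padicValNat r (Fintype.card {a // f a = i})! := by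
  have : Fact r.Prime := ⟨hr⟩
  obtain ⟨x, y, hxy, hfxy⟩ := hfib
  have : Nontrivial α := ⟨⟨x, y, hxy⟩⟩
  have hle : M ≤ fiberStab f := by
    intro g hg
    rw [mem_fiberStab]
    funext z
    exact hf g hg z
  have hswap : swap x y ∈ fiberStab f := by
    rw [mem_fiberStab]
    funext z
    simp only [Function.comp_apply]
    by_cases hzx : z = x
    · rw [hzx, swap_apply_left, hfxy]
    · by_cases hzy : z = y
      · rw [hzy, swap_apply_right, hfxy]
      · rw [swap_apply_of_ne_of_ne hzx hzy]
  have hdvd : 2 * Nat.card M ∣ ∏ i, (Fintype.card {a // f a = i})! := by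
    rw [← card_fiberStab f]
    exact two_mul_card_dvd_of_le_alternating _ M hle hM.1 ⟨swap x y, hswap, Perm.sign_swap hxy⟩
  have hprod_ne : (∏ i, (Fintype.card {a // f a = i})!) ≠ 0 :=
    Finset.prod_ne_zero_iff.mpr (fun i _ => (Nat.factorial_pos _).ne')
  have hsum : ∑ i, Fintype.card {a // f a = i} = Fintype.card α := by
    rw [← Fintype.card_sigma]
    exact Fintype.card_congr (Equiv.sigmaFiberEquiv f)
  have hdvd2 : (∏ i, (Fintype.card {a // f a = i})!) ∣ (Fintype.card α)! := by
    have h := Nat.prod_factorial_dvd_factorial_sum Finset.univ (fun i => Fintype.card {a // f a = i})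
    rwa [hsum] at h
  -- `v_r (d!) = v_r (2 |M|)`
  have hA : 2 * Nat.card (alternatingGroup α) = (Fintype.card α)! := by
    rw [Nat.card_eq_fintype_card, two_mul_card_alternatingGroup, Fintype.card_perm]
  have hrel : Nat.card M * M.relIndex (alternatingGroup α) = Nat.card (alternatingGroup α) := by
    have h := Subgroup.card_mul_index (M.subgroupOf (alternatingGroup α))
    rw [Nat.card_congr (Subgroup.subgroupOfEquivOfLe hM.1).toEquiv] at h
    exact h
  have hidx : M.relIndex (alternatingGroup α) ≠ 0 := by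
    intro h0
    rw [h0, mul_zero] at hrel
    exact Nat.card_pos.ne' hrel.symm
  have hval : padicValNat r (Fintype.card α)! = padicValNat r (2 * Nat.card M) := by
    rw [← hA, ← hrel, ← mul_assoc,
      padicValNat.mul (Nat.mul_ne_zero two_ne_zero Nat.card_pos.ne') hidx,
      padicValNat.eq_zero_of_not_dvd (hM.2.2 r hr hrπ), add_zero]
  have h1 := padicValNat_le_of_dvd' (r := r) hprod_ne hdvd
  have h2 := padicValNat_le_of_dvd' (r := r) (Nat.factorial_pos (Fintype.card α)).ne' hdvd2
  rw [← hval] at h1
  rw [padicValNat_prod' _ _ (fun i _ => (Nat.factorial_pos _).ne') r hr] at h1 h2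
  exact le_antisymm h1 h2

end Cfsg.Agent.Helper73.HallSym
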