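import Mathlib
import Cfsg.Agent.Helper35.Asch.Defs
import Cfsg.Agent.Helper35.MultTrans

/-!
# Piece (S2) of helper35's S3401 farm (Aschbacher, degree `n ≡ 2 mod 4`)

The suborbits of a normal subgroup `N` of a 2-transitive group have a common length, which divides
`card Ω - 1`; so it is odd when `card Ω` is even.
-/

set_option autoImplicit false
set_option linter.unusedSectionVars false
set_option linter.unusedVariables false

namespace Cfsg.Agent.Helper73.Asch

open MulAction Cfsg.Agent.Helper35.Asch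

variable {G : Type*} [Group G] [Finite G] {Ω : Type*} [Fintype Ω] [MulAction G Ω]

/-- the orbit of `x` under the subgroup `A` has `|A : A_x|` elements. -/
theorem card_orbit_eq_relIndex (A : Subgroup G) (x : Ω) :
    Nat.card (orbit ↥A x) = (A ⊓ stabilizer G x).relIndex A := by
  rw [Subgroup.inf_relIndex_left, Subgroup.relIndex, Nat.card_coe_set_eq, ← index_stabilizer]
  congr 1

/-- conjugating the acting subgroup `A` into itself by `g` moves the orbit of `b` onto the orbit
of `g • b`. -/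
theorem card_orbit_smul_eq (A : Subgroup G) (g : G) (hg : ∀ k ∈ A, g * k * g⁻¹ ∈ A)
    (hg' : ∀ k ∈ A, g⁻¹ * k * g ∈ A) (b : Ω) :
    Nat.card (orbit ↥A (g • b)) = Nat.card (orbit ↥A b) := by
  have himg : orbit ↥A (g • b) = (fun y => g • y) '' orbit ↥A b := by
    ext y
    constructor
    · rintro ⟨k, rfl⟩
      refine ⟨(g⁻¹ * (k : G) * g) • b, ⟨⟨g⁻¹ * (k : G) * g, hg' k k.2⟩, rfl⟩, ?_⟩
      show g • (g⁻¹ * (k : G) * g) • b = (k : G) • g • b
      simp only [smul_smul]
      congr 1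
      group
    · rintro ⟨_, ⟨k, rfl⟩, rfl⟩
      refine ⟨⟨g * (k : G) * g⁻¹, hg k k.2⟩, ?_⟩
      show (g * (k : G) * g⁻¹) • g • b = g • (k : G) • b
      simp only [smul_smul]
      congr 1
      group
  rw [himg, Nat.card_coe_set_eq, Nat.card_coe_set_eq,
    Set.ncard_image_of_injective _ (MulAction.injective g)]

/-- (S2) the suborbits of `N` have odd length: `G_a` permutes the `N_a`-orbits on `Ω ∖ {a}`
transitively, so they have a common length `d`, and `d ∣ card Ω - 1`, which is odd. -/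
theorem odd_relIndex_stab_stab (h2 : TwoTrans (⊤ : Subgroup G) Ω) (N : Subgroup G) [N.Normal]
    (hn : Even (Fintype.card Ω)) {a b : Ω} (hab : a ≠ b) :
    ¬ 2 ∣ (stabIn N a ⊓ stabilizer G b).relIndex (stabIn N a) := by
  classical
  intro h2d
  set A : Subgroup G := stabIn N a with hA
  set d : ℕ := (A ⊓ stabilizer G b).relIndex A with hd
  -- every `A`-orbit off `a` has `d` elements
  have horb : ∀ x ∈ ({a}ᶜ : Set Ω), Nat.card (orbit ↥A x) = d := by
    intro x hx
    have hxa : a ≠ x := fun h => hx (by simp [h])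
    obtain ⟨g, -, hga, hgb⟩ := h2 hab hxa
    have hginv : g⁻¹ • a = a := by rw [inv_smul_eq_iff, hga]
    rw [← hgb, card_orbit_smul_eq A g ?_ ?_ b, card_orbit_eq_relIndex]
    · intro k hk
      rw [hA, Subgroup.mem_inf, mem_stabilizer_iff] at hk ⊢
      refine ⟨‹N.Normal›.conj_mem k hk.1 g, ?_⟩
      rw [mul_smul, mul_smul, hginv, hk.2, hga]
    · intro k hk
      rw [hA, Subgroup.mem_inf, mem_stabilizer_iff] at hk ⊢
      refine ⟨?_, ?_⟩
      · have := ‹N.Normal›.conj_mem k hk.1 g⁻¹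
        simpa using this
      · rw [mul_smul, mul_smul, hga, hk.2, hginv]
  have hinv : ∀ (k : ↥A) (x : Ω), x ∈ ({a}ᶜ : Set Ω) → k • x ∈ ({a}ᶜ : Set Ω) := by
    intro k x hx hkx
    apply hx
    have hkA : (k : G) ∈ N ⊓ stabilizer G a := k.2
    have hka : (k : G) • a = a := by
      rw [Subgroup.mem_inf, mem_stabilizer_iff] at hkA
      exact hkA.2
    have h1 : (k : G) • x = a := hkx
    have h3 : x = (k : G)⁻¹ • a := by rw [← h1, inv_smul_smul]
    have h4 : (k : G)⁻¹ • a = a := by rw [inv_smul_eq_iff, hka]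
    rw [h3, h4]
    rfl
  have hdvd : d ∣ ({a}ᶜ : Set Ω).ncard :=
    Cfsg.Agent.Helper35.dvd_ncard_of_orbits (K := ↥A) ({a}ᶜ : Set Ω) hinv d horb
  have hcard : ({a}ᶜ : Set Ω).ncard = Fintype.card Ω - 1 := by
    rw [Set.ncard_compl, Set.ncard_singleton, Nat.card_eq_fintype_card]
  rw [hcard] at hdvd
  have hpos : 0 < Fintype.card Ω := Fintype.card_pos_iff.mpr ⟨a⟩
  have h2c : 2 ∣ Fintype.card Ω - 1 := dvd_trans h2d hdvd
  obtain ⟨m, hm⟩ := hn
  omega

end Cfsg.Agent.Helper73.Asch
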