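import Mathlib

/-!
# S2500 part 7, shared lemma (J) for the leaves (Q1c), (Q1d) of helper43's farm #12613

A nilpotent endomorphism `N` of a 3-dimensional space with `ker N ≤ range N` is regular:
`N ^ 3 = 0` and some `x` has `N (N x) ≠ 0`, so that `x, N x, N (N x)` is a basis.
-/

set_option autoImplicit false

namespace Cfsg.Agent.Helper73.Cov2.P7

/-- `x, N x, N² x` are independent when `N³ x = 0 ≠ N² x`. -/
theorem indep_of_sq_ne {K W : Type*} [Field K] [AddCommGroup W] [Module K W]
    (N : W →ₗ[K] W) (x : W) (h3 : N (N (N x)) = 0) (h2 : N (N x) ≠ 0) :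
    LinearIndependent K ![x, N x, N (N x)] := by
  rw [Fintype.linearIndependent_iff]
  intro g hg
  rw [Fin.sum_univ_three] at hg
  simp only [Matrix.cons_val_zero, Matrix.cons_val_one, Matrix.cons_val_two,
    Matrix.head_cons, Matrix.tail_cons] at hg
  have h4 : N (N (N (N x))) = 0 := by rw [h3, map_zero]
  -- apply N twice
  have e2 : g 0 • N (N x) = 0 := by
    have := congrArg (fun v => N (N v)) hg
    simpa [map_add, map_smul, h3, h4] using this
  have g0 : g 0 = 0 := by
    rcases smul_eq_zero.mp e2 with h | h
    · exact h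
    · exact absurd h h2
  have e1 : g 1 • N (N x) = 0 := by
    have := congrArg (fun v => N v) hg
    simpa [map_add, map_smul, h3, g0] using this
  have g1 : g 1 = 0 := by
    rcases smul_eq_zero.mp e1 with h | h
    · exact h
    · exact absurd h h2
  have e0 : g 2 • N (N x) = 0 := by
    simpa [g0, g1] using hg
  have g2 : g 2 = 0 := by
    rcases smul_eq_zero.mp e0 with h | h
    · exact h
    · exact absurd h h2
  intro i
  fin_cases i
  · exact g0
  · exact g1
  · exact g2

/-- (J) a nilpotent endomorphism of a 3-space with `ker ≤ range` is regular nilpotent. -/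
theorem nilp_three {K W : Type*} [Field K] [AddCommGroup W] [Module K W]
    (h3 : Module.finrank K W = 3) (N : W →ₗ[K] W) (hnil : IsNilpotent N)
    (hker : LinearMap.ker N ≤ LinearMap.range N) :
    N ^ 3 = 0 ∧ ∃ x : W, N (N x) ≠ 0 ∧ LinearIndependent K ![x, N x, N (N x)] := by
  have : FiniteDimensional K W := Module.finite_of_finrank_pos (by rw [h3]; norm_num)
  have hN3 : N ^ 3 = 0 := by
    obtain ⟨n, hn⟩ := hnil
    have h1 := Module.End.ker_pow_le_ker_pow_finrank N n
    rw [hn, h3] at h1
    have : LinearMap.ker (N ^ 3) = ⊤ := by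
      apply top_unique
      refine le_trans ?_ h1
      intro v _
      simp
    exact LinearMap.ker_eq_top.mp this
  refine ⟨hN3, ?_⟩
  have hN3x : ∀ x, N (N (N x)) = 0 := by
    intro x
    have := congrArg (fun f : W →ₗ[K] W => f x) hN3
    simpa [pow_succ, Module.End.mul_apply] using this
  by_cases hsq : ∀ x, N (N x) = 0
  · exfalso
    have hle : LinearMap.range N ≤ LinearMap.ker N := by
      rintro _ ⟨z, rfl⟩
      exact LinearMap.mem_ker.mpr (hsq z)
    have heq : LinearMap.ker N = LinearMap.range N := le_antisymm hker hle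
    have hrn := LinearMap.finrank_range_add_finrank_ker N
    rw [heq, h3] at hrn
    omega
  · simp only [not_forall] at hsq
    obtain ⟨x, hx⟩ := hsq
    exact ⟨x, hx, indep_of_sq_ne N x (hN3x x) hx⟩

end Cfsg.Agent.Helper73.Cov2.P7
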