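import Mathlib
import Cfsg.Agent.Helper73.Cov2P7J

/-!
# S2500 part 7, leaf (Q1c): the abstract part

`E/F` a quadratic field extension with `F`-basis `1, ω`, `V` an `E`-space of `F`-dimension 6,
`N` an `E`-linear nilpotent endomorphism with `ker N ≤ range N`.  Then `N ^ 3 = 0` and for some `x`
the six vectors `(1 + N)^i x`, `(1 + N)^i (ω x)` are `F`-independent.
-/

set_option autoImplicit false

namespace Cfsg.Agent.Helper73.Cov2.P7

theorem abstract_irred {F E V : Type*} [Field F] [Field E] [Algebra F E] [AddCommGroup V]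
    [Module F V] [Module E V] [IsScalarTower F E V]
    (hE : Module.finrank F E = 2) (hV : Module.finrank F V = 6)
    (ω : E) (hω : LinearIndependent F ![1, ω])
    (N : V →ₗ[E] V) (hnil : IsNilpotent N) (hker : ∀ x, N x = 0 → ∃ z, x = N z) :
    N ^ 3 = 0 ∧ ∃ x : V, LinearIndependent F
      (fun p : Fin 3 × Fin 2 => ((1 + N) ^ (p.1 : ℕ)) (if p.2 = 0 then x else ω • x)) := by
  have h3 : Module.finrank E V = 3 := by
    have h := Module.finrank_mul_finrank F E V
    rw [hE, hV] at h
    omega
  have hk : LinearMap.ker N ≤ LinearMap.range N := by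
    intro x hx
    obtain ⟨z, hz⟩ := hker x (LinearMap.mem_ker.mp hx)
    exact ⟨z, hz.symm⟩
  obtain ⟨hN3, x, hx2, hind⟩ := nilp_three h3 N hnil hk
  refine ⟨hN3, x, ?_⟩
  -- E-independence of `x, (1+N) x, (1+N)^2 x`
  have hc : LinearIndependent E (fun i : Fin 3 => ((1 + N) ^ (i : ℕ)) x) := by
    rw [Fintype.linearIndependent_iff] at hind ⊢
    intro g hg
    rw [Fin.sum_univ_three] at hg
    have hg' : (g 0 + g 1 + g 2) • x + (g 1 + 2 * g 2) • N x + g 2 • N (N x) = 0 := by
      rw [← hg]
      simp only [Fin.val_zero, Fin.val_one, Fin.val_two, pow_zero, pow_one, pow_two,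
        Module.End.one_apply, Module.End.mul_apply, LinearMap.add_apply, map_add]
      module
    have h := hind ![g 0 + g 1 + g 2, g 1 + 2 * g 2, g 2] (by
      rw [Fin.sum_univ_three]
      simpa using hg')
    have h0 := h 0
    have h1 := h 1
    have h2 := h 2
    simp only [Matrix.cons_val_zero, Matrix.cons_val_one, Matrix.cons_val_two,
      Matrix.head_cons, Matrix.tail_cons] at h0 h1 h2
    have g2 : g 2 = 0 := h2
    have g1 : g 1 = 0 := by rw [g2] at h1; simpa using h1
    have g0 : g 0 = 0 := by rw [g1, g2] at h0; simpa using h0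
    intro i
    fin_cases i
    · exact g0
    · exact g1
    · exact g2
  have h := linearIndependent_smul hω hc
  have h' := h.comp (fun p : Fin 3 × Fin 2 => (p.2, p.1)) (by
    intro p q hpq
    simp only [Prod.mk.injEq] at hpq
    exact Prod.ext hpq.2 hpq.1)
  convert h' using 1
  funext p
  obtain ⟨i, j⟩ := p
  fin_cases j
  · simp
  · simp
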