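import Cfsg.Agent.Helper43.Cov2.P7Defs
import Cfsg.Agent.Helper69.Cov2P7Q2
import Cfsg.Agent.Helper73.Cov2P7Q1cA

/-!
# S2500 part 7, leaf (Q1c) `quad_irred` of helper43's farm #12613

`X² - γX + 1` irreducible: `E := F[X]/(X² - γX + 1)` is a field, `F⁶` is a 3-dimensional `E`-space
through `s`, `N = u - 1` is `E`-linear; apply `abstract_irred`.
-/

set_option autoImplicit false
set_option linter.unusedVariables false

namespace Cfsg.Agent.Helper73.Cov2.P7

open Matrix Polynomial Cfsg.Agent.Helper43.Cov2.P7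
open Cfsg.Agent.Helper69.Cov2.P7 (uFam)

variable {F : Type*} [Field F]

/-- `X² - γX + 1` -/
noncomputable def qpoly (γ : F) : F[X] := X ^ 2 - C γ * X + 1

theorem qpoly_natDegree (γ : F) : (qpoly γ).natDegree = 2 := by
  unfold qpoly
  compute_degree!

theorem qpoly_ne_zero (γ : F) : qpoly γ ≠ 0 := by
  intro h
  have := qpoly_natDegree γ
  rw [h, natDegree_zero] at this
  omega

theorem qpoly_irreducible (γ : F) (hirr : ∀ t : F, t * t - γ * t + 1 ≠ 0) :
    Irreducible (qpoly γ) := by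
  apply irreducible_of_degree_le_three_of_not_isRoot
  · rw [qpoly_natDegree]
    decide
  · intro t ht
    apply hirr t
    simpa [qpoly, IsRoot, pow_two] using ht

theorem qpoly_aeval (S : M6 F) (γ : F) (hs : S * S - γ • S + 1 = 0) :
    aeval S (qpoly γ) = 0 := by
  rw [← hs]
  simp [qpoly, pow_two, Algebra.smul_def]

/-- the quadratic extension -/
abbrev QE (γ : F) : Type _ := AdjoinRoot (qpoly γ)

/-- `E → M₆(F)`, `root ↦ S` -/
noncomputable def phiM (S : M6 F) (γ : F) (hs : S * S - γ • S + 1 = 0) : QE γ →ₐ[F] M6 F :=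
  Ideal.Quotient.liftₐ (Ideal.span {qpoly γ}) (aeval S) (by
    intro a ha
    obtain ⟨b, rfl⟩ := Ideal.mem_span_singleton.mp ha
    rw [map_mul, qpoly_aeval S γ hs, zero_mul])

theorem phiM_mk (S : M6 F) (γ : F) (hs : S * S - γ • S + 1 = 0) (p : F[X]) :
    phiM S γ hs (AdjoinRoot.mk (qpoly γ) p) = aeval S p := rfl

theorem phiM_root (S : M6 F) (γ : F) (hs : S * S - γ • S + 1 = 0) :
    phiM S γ hs (AdjoinRoot.root (qpoly γ)) = S := by
  rw [AdjoinRoot.root, phiM_mk, aeval_X]

/-- the `E`-module structure on `F⁶` through `S` -/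
@[reducible] noncomputable def modE (S : M6 F) (γ : F) (hs : S * S - γ • S + 1 = 0) :
    Module (QE γ) (V6 F) where
  smul e v := phiM S γ hs e *ᵥ v
  one_smul v := by
    change phiM S γ hs 1 *ᵥ v = v
    rw [map_one, Matrix.one_mulVec]
  mul_smul a b v := by
    change phiM S γ hs (a * b) *ᵥ v = phiM S γ hs a *ᵥ (phiM S γ hs b *ᵥ v)
    rw [map_mul, Matrix.mulVec_mulVec]
  smul_zero a := by
    change phiM S γ hs a *ᵥ (0 : V6 F) = 0
    rw [Matrix.mulVec_zero]
  smul_add a v w := by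
    change phiM S γ hs a *ᵥ (v + w) = phiM S γ hs a *ᵥ v + phiM S γ hs a *ᵥ w
    rw [Matrix.mulVec_add]
  add_smul a b v := by
    change phiM S γ hs (a + b) *ᵥ v = phiM S γ hs a *ᵥ v + phiM S γ hs b *ᵥ v
    rw [map_add, Matrix.add_mulVec]
  zero_smul v := by
    change phiM S γ hs 0 *ᵥ v = 0
    rw [map_zero, Matrix.zero_mulVec]

theorem phiM_commute (S : M6 F) (γ : F) (hs : S * S - γ • S + 1 = 0) (N : M6 F)
    (hSN : S * N = N * S) (e : QE γ) : phiM S γ hs e * N = N * phiM S γ hs e := by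
  induction e using AdjoinRoot.induction_on with
  | ih p =>
    rw [phiM_mk]
    induction p using Polynomial.induction_on' with
    | add p q hp hq => rw [map_add, add_mul, mul_add, hp, hq]
    | monomial n a =>
      rw [aeval_monomial]
      have h1 : Commute (S ^ n) N := (show Commute S N from hSN).pow_left n
      have h2 : Commute (algebraMap F (M6 F) a) N := Algebra.commute_algebraMap_left a N
      exact (h2.mul_left h1)

theorem root_indep (γ : F) :
    LinearIndependent F ![(1 : QE γ), AdjoinRoot.root (qpoly γ)] := by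
  have hb := (AdjoinRoot.powerBasis (qpoly_ne_zero γ)).basis.linearIndependent
  have hb' := hb.comp (Fin.cast (qpoly_natDegree γ).symm) (Fin.cast_injective _)
  have he : ![(1 : QE γ), AdjoinRoot.root (qpoly γ)] =
      ⇑(AdjoinRoot.powerBasis (qpoly_ne_zero γ)).basis ∘ Fin.cast (qpoly_natDegree γ).symm := by
    funext i
    fin_cases i
    · simp only [PowerBasis.coe_basis, Function.comp_apply, AdjoinRoot.powerBasis_gen]
      exact (pow_zero _).symm
    · simp only [PowerBasis.coe_basis, Function.comp_apply, AdjoinRoot.powerBasis_gen]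
      exact (pow_one _).symm
  rw [he]
  exact hb'

/-- (Q1c), matrix form -/
theorem quad_irred_mat (S U : M6 F) (hSU : S * U = U * S) (γ : F)
    (hs : S * S - γ • S + 1 = 0) (hirr : ∀ t : F, t * t - γ * t + 1 ≠ 0)
    (h6 : (U - 1) ^ 6 = 0)
    (hker : ∀ x : V6 F, (U - 1) *ᵥ x = 0 → ∃ z : V6 F, x = (U - 1) *ᵥ z) :
    (U - 1) ^ 3 = 0 ∧ ∃ x : V6 F, LinearIndependent F (uFam U S x) := by
  have : Fact (Irreducible (qpoly γ)) := ⟨qpoly_irreducible γ hirr⟩
  let _ : Module (QE γ) (V6 F) := modE S γ hs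
  have smul_def : ∀ (e : QE γ) (v : V6 F), e • v = phiM S γ hs e *ᵥ v := fun _ _ => rfl
  have : IsScalarTower F (QE γ) (V6 F) := ⟨fun a e v => by
    rw [smul_def, smul_def, map_smul, Matrix.smul_mulVec]⟩
  have hSN : S * (U - 1) = (U - 1) * S := by rw [mul_sub, sub_mul, hSU, mul_one, one_mul]
  let NE : V6 F →ₗ[QE γ] V6 F :=
    { toFun := fun v => (U - 1) *ᵥ v
      map_add' := fun v w => Matrix.mulVec_add _ _ _
      map_smul' := fun e v => by
        simp only [RingHom.id_apply]
        rw [smul_def, smul_def, Matrix.mulVec_mulVec, Matrix.mulVec_mulVec,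
          phiM_commute S γ hs _ hSN] }
  have NE_apply : ∀ v, NE v = (U - 1) *ᵥ v := fun _ => rfl
  have NE_pow : ∀ (k : ℕ) (v : V6 F), (NE ^ k) v = ((U - 1) ^ k) *ᵥ v := by
    intro k
    induction k with
    | zero => intro v; simp
    | succ k ih =>
      intro v
      rw [pow_succ', Module.End.mul_apply, ih, NE_apply, Matrix.mulVec_mulVec, ← pow_succ']
  have UE_apply : ∀ v, (1 + NE) v = U *ᵥ v := by
    intro v
    rw [LinearMap.add_apply, Module.End.one_apply, NE_apply, Matrix.sub_mulVec,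
      Matrix.one_mulVec]
    abel
  have UE_pow : ∀ (k : ℕ) (v : V6 F), ((1 + NE) ^ k) v = (U ^ k) *ᵥ v := by
    intro k
    induction k with
    | zero => intro v; simp
    | succ k ih =>
      intro v
      rw [pow_succ', Module.End.mul_apply, ih, UE_apply, Matrix.mulVec_mulVec, ← pow_succ']
  have hE : Module.finrank F (QE γ) = 2 := by
    rw [(AdjoinRoot.powerBasis (qpoly_ne_zero γ)).finrank]
    exact qpoly_natDegree γ
  have hV : Module.finrank F (V6 F) = 6 := by simp
  obtain ⟨h3, x, hx⟩ := abstract_irred (F := F) (E := QE γ) (V := V6 F) hE hV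
    (AdjoinRoot.root (qpoly γ)) (root_indep γ) NE
    ⟨6, by
      ext v i
      rw [NE_pow, h6]
      simp⟩
    (fun x hx => hker x hx)
  refine ⟨?_, x, ?_⟩
  · have h0 : ∀ v : V6 F, ((U - 1) ^ 3) *ᵥ v = 0 := by
      intro v
      rw [← NE_pow, h3]
      rfl
    ext i j
    have := congrFun (h0 (Pi.single j 1)) i
    simpa using this
  · have he : uFam U S x = fun p : Fin 3 × Fin 2 =>
        ((1 + NE) ^ (p.1 : ℕ)) (if p.2 = 0 then x else AdjoinRoot.root (qpoly γ) • x) := by
      funext p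
      rw [UE_pow]
      unfold uFam
      split_ifs
      · rfl
      · rw [smul_def, phiM_root]
    rw [he]
    exact hx

/-- (Q1c) the case `X² - γX + 1` irreducible. -/
theorem quad_irred (h2 : (2 : F) ≠ 0) (s u : Sp6 F) (hcomm : Commute s u) (γ : F)
    (hs : (s : M6 F) * (s : M6 F) - γ • (s : M6 F) + 1 = 0)
    (hirr : ∀ t : F, t * t - γ * t + 1 ≠ 0)
    (h6 : ((u : M6 F) - 1) ^ 6 = 0)
    (hker : ∀ x : V6 F, ((u : M6 F) - 1) *ᵥ x = 0 → ∃ z : V6 F, x = ((u : M6 F) - 1) *ᵥ z) :
    ((u : M6 F) - 1) ^ 3 = 0 ∧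
      ∃ x : V6 F, LinearIndependent F (uFam (u : M6 F) (s : M6 F) x) := by
  have hSU : (s : M6 F) * (u : M6 F) = (u : M6 F) * (s : M6 F) := by
    rw [← coe_mul_Sp6, ← coe_mul_Sp6, hcomm.eq]
  exact quad_irred_mat (s : M6 F) (u : M6 F) hSU γ hs hirr h6 hker

end Cfsg.Agent.Helper73.Cov2.P7
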