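import Cfsg.Agent.Helper43.G2Vec

/-!
# (G2-B2) for helper43 (S4632): Skolem-Noether on the quaternion subalgebra `H₀`

An element of `G₂(F)` commuting with `z₀` acts on `H₀ = M₂(F)` as conjugation by some `p ∈ GL₂(F)`.
-/

set_option autoImplicit false

namespace Cfsg.Agent.Helper73.G2S

open Cfsg.Agent.Helper43.G2S Matrix Cfsg.Lie

variable {F : Type*} [Field F]

/-- the coordinates `0, 1, 4, 7` as a `2 × 2` matrix -/
def unvecH (x : Fin 8 → F) : Matrix (Fin 2) (Fin 2) F := !![x 0, x 1; x 4, x 7]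

theorem unvecH_vecH (h : Matrix (Fin 2) (Fin 2) F) : unvecH (vecH h) = h := by
  ext i j
  fin_cases i <;> fin_cases j <;> simp [unvecH, vecH]

theorem unvecH_add (x y : Fin 8 → F) : unvecH (x + y) = unvecH x + unvecH y := by
  ext i j
  fin_cases i <;> fin_cases j <;> simp [unvecH]

theorem unvecH_smul (c : F) (x : Fin 8 → F) : unvecH (c • x) = c • unvecH x := by
  ext i j
  fin_cases i <;> fin_cases j <;> simp [unvecH]

theorem vecH_add (h h' : Matrix (Fin 2) (Fin 2) F) : vecH (h + h') = vecH h + vecH h' := by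
  ext i
  fin_cases i <;> simp [vecH]

theorem vecH_smul (c : F) (h : Matrix (Fin 2) (Fin 2) F) : vecH (c • h) = c • vecH h := by
  ext i
  fin_cases i <;> simp [vecH]

theorem Z0M_vecH (h : Matrix (Fin 2) (Fin 2) F) : Z0M *ᵥ vecH h = vecH h := by
  rw [Z0M_mulVec]
  ext i
  fin_cases i <;> simp [vecH]

theorem eq_zero_of_eq_neg (h2 : (2 : F) ≠ 0) {a : F} (h : -a = a) : a = 0 := by
  have : (2 : F) * a = 0 := by linear_combination -h
  rcases mul_eq_zero.1 this with h' | h'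
  · exact absurd h' h2
  · exact h'

/-- a vector fixed by `z₀` lies in `H₀` -/
theorem vecH_unvecH_of_fix (h2 : (2 : F) ≠ 0) (x : Fin 8 → F) (hx : Z0M *ᵥ x = x) :
    vecH (unvecH x) = x := by
  rw [Z0M_mulVec] at hx
  have e2 : x 2 = 0 := eq_zero_of_eq_neg h2 (by simpa using congrFun hx 2)
  have e3 : x 3 = 0 := eq_zero_of_eq_neg h2 (by simpa using congrFun hx 3)
  have e5 : x 5 = 0 := eq_zero_of_eq_neg h2 (by simpa using congrFun hx 5)
  have e6 : x 6 = 0 := eq_zero_of_eq_neg h2 (by simpa using congrFun hx 6)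
  ext i
  fin_cases i <;> simp [vecH, unvecH, e2, e3, e5, e6]

/-- (own proof of the `H₀` half of (G2-B1)) -/
theorem mulVec_vecH_of_comm (h2 : (2 : F) ≠ 0) (g : Matrix (Fin 8) (Fin 8) F)
    (hg : g * Z0M = Z0M * g) (h : Matrix (Fin 2) (Fin 2) F) :
    g *ᵥ vecH h = vecH (unvecH (g *ᵥ vecH h)) := by
  symm
  apply vecH_unvecH_of_fix h2
  rw [Matrix.mulVec_mulVec, ← hg, ← Matrix.mulVec_mulVec, Z0M_vecH]

/-- every multiplicative linear bijection of `M₂(F)` is conjugation by some `p ∈ GL₂(F)` -/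
theorem exists_conj_of_mul (f f' : Matrix (Fin 2) (Fin 2) F →ₗ[F] Matrix (Fin 2) (Fin 2) F)
    (hmul : ∀ a b, f (a * b) = f a * f b) (h1 : ∀ a, f' (f a) = a) (h2 : ∀ a, f (f' a) = a) :
    ∃ p : GL (Fin 2) F, ∀ h : Matrix (Fin 2) (Fin 2) F, f h = p.1 * h * (p⁻¹).1 := by
  classical
  let l : Matrix (Fin 2) (Fin 2) F ≃ₗ[F] Matrix (Fin 2) (Fin 2) F :=
    LinearEquiv.ofLinear f f' (LinearMap.ext h2) (LinearMap.ext h1)
  have hl : ∀ a, l a = f a := fun a => rfl
  have hone : l 1 = 1 := by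
    obtain ⟨e, he⟩ := l.surjective 1
    have : l 1 = l 1 * l e := by rw [he, mul_one]
    rw [this, hl, hl, ← hmul, one_mul, ← hl, he]
  let e : Matrix (Fin 2) (Fin 2) F ≃ₐ[F] Matrix (Fin 2) (Fin 2) F :=
    AlgEquiv.ofLinearEquiv l hone (fun a b => hmul a b)
  have he : ∀ a, e a = f a := fun a => rfl
  let E : Module.End F (Fin 2 → F) ≃ₐ[F] Module.End F (Fin 2 → F) :=
    (Matrix.toLinAlgEquiv' (R := F) (n := Fin 2)).symm.trans (e.trans Matrix.toLinAlgEquiv')
  obtain ⟨T, hT⟩ := E.eq_linearEquivConjAlgEquiv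
  let P : Matrix (Fin 2) (Fin 2) F := LinearMap.toMatrix' (T : (Fin 2 → F) →ₗ[F] (Fin 2 → F))
  let P' : Matrix (Fin 2) (Fin 2) F :=
    LinearMap.toMatrix' (T.symm : (Fin 2 → F) →ₗ[F] (Fin 2 → F))
  have hPP' : P * P' = 1 := by
    rw [← LinearMap.toMatrix'_comp]
    have : (T : (Fin 2 → F) →ₗ[F] (Fin 2 → F)) ∘ₗ (T.symm : (Fin 2 → F) →ₗ[F] (Fin 2 → F))
        = LinearMap.id := by
      ext x
      simp
    rw [this, LinearMap.toMatrix'_id]
  have hP'P : P' * P = 1 := by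
    rw [← LinearMap.toMatrix'_comp]
    have : (T.symm : (Fin 2 → F) →ₗ[F] (Fin 2 → F)) ∘ₗ (T : (Fin 2 → F) →ₗ[F] (Fin 2 → F))
        = LinearMap.id := by
      ext x
      simp
    rw [this, LinearMap.toMatrix'_id]
  refine ⟨⟨P, P', hPP', hP'P⟩, fun h => ?_⟩
  have hE : E (Matrix.toLinAlgEquiv' h) = Matrix.toLinAlgEquiv' (f h) := by
    show Matrix.toLinAlgEquiv' (e (Matrix.toLinAlgEquiv'.symm (Matrix.toLinAlgEquiv' h))) = _
    rw [AlgEquiv.symm_apply_apply, he]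
  rw [hT, LinearEquiv.conjAlgEquiv_apply] at hE
  have := congrArg LinearMap.toMatrix' hE
  rw [LinearMap.toMatrix'_comp, LinearMap.toMatrix'_comp] at this
  have e1 : LinearMap.toMatrix' (Matrix.toLinAlgEquiv' h : (Fin 2 → F) →ₗ[F] (Fin 2 → F)) = h :=
    LinearMap.toMatrix'_toLin' h
  have e2 : LinearMap.toMatrix' (Matrix.toLinAlgEquiv' (f h) : (Fin 2 → F) →ₗ[F] (Fin 2 → F))
      = f h := LinearMap.toMatrix'_toLin' (f h)
  rw [e1, e2] at this
  rw [← this, mul_assoc]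
  rfl

/-- (G2-B2) Skolem-Noether -/
theorem exists_conj_of_comm (h2 : (2 : F) ≠ 0) (g : G2 F) (hg : g * z0 = z0 * g) :
    ∃ p : GL (Fin 2) F, ∀ h : Matrix (Fin 2) (Fin 2) F,
      (g : GL (Fin 8) F).1 *ᵥ vecH h = vecH (p.1 * h * (p⁻¹).1) := by
  have hg' : g⁻¹ * z0 = z0 * g⁻¹ := by
    have := congrArg (fun x => g⁻¹ * x * g⁻¹) hg
    simp only [mul_assoc, inv_mul_cancel_left, mul_inv_cancel, mul_one] at this
    exact this.symm
  have hM : ∀ k : G2 F, k * z0 = z0 * k →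
      (k : GL (Fin 8) F).1 * Z0M = Z0M * (k : GL (Fin 8) F).1 := by
    intro k hk
    have := congrArg (fun x : G2 F => (x : GL (Fin 8) F).1) hk
    simp only [coe_mul_G2, coe_z0] at this
    exact this
  set M : Matrix (Fin 8) (Fin 8) F := (g : GL (Fin 8) F).1 with hMdef
  set M' : Matrix (Fin 8) (Fin 8) F := ((g⁻¹ : G2 F) : GL (Fin 8) F).1 with hM'def
  have hMM' : M * M' = 1 := by
    rw [hMdef, hM'def, ← coe_mul_G2, mul_inv_cancel]
    rfl
  have hM'M : M' * M = 1 := by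
    rw [hMdef, hM'def, ← coe_mul_G2, inv_mul_cancel]
    rfl
  have cM := hM g hg
  have cM' := hM g⁻¹ hg'
  have aut : ∀ x y, M *ᵥ zornMul x y = zornMul (M *ᵥ x) (M *ᵥ y) := (mem_G2_iff _).1 g.2
  -- the linear maps
  let mk : Matrix (Fin 8) (Fin 8) F → Matrix (Fin 2) (Fin 2) F →ₗ[F] Matrix (Fin 2) (Fin 2) F :=
    fun N =>
    { toFun := fun h => unvecH (N *ᵥ vecH h)
      map_add' := fun a b => by rw [vecH_add, Matrix.mulVec_add, unvecH_add]
      map_smul' := fun c a => by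
        rw [vecH_smul, Matrix.mulVec_smul, unvecH_smul]
        rfl }
  have hmk : ∀ N h, mk N h = unvecH (N *ᵥ vecH h) := fun N h => rfl
  have key : ∀ h, M *ᵥ vecH h = vecH (mk M h) := fun h => mulVec_vecH_of_comm h2 M cM h
  have key' : ∀ h, M' *ᵥ vecH h = vecH (mk M' h) := fun h => mulVec_vecH_of_comm h2 M' cM' h
  obtain ⟨p, hp⟩ := exists_conj_of_mul (mk M) (mk M')
    (by
      intro a b
      apply vecH_injective
      rw [← key, ← zornMul_vecH_vecH, aut, key, key, zornMul_vecH_vecH])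
    (by
      intro a
      apply vecH_injective
      rw [← key', ← key, Matrix.mulVec_mulVec, hM'M, Matrix.one_mulVec])
    (by
      intro a
      apply vecH_injective
      rw [← key, ← key', Matrix.mulVec_mulVec, hMM', Matrix.one_mulVec])
  exact ⟨p, fun h => by rw [key, hp]⟩

end Cfsg.Agent.Helper73.G2S
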