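import Cfsg.Agent.Helper73.G2B2

/-!
# (G2-B4) for helper43 (S4632): an element of `C(z₀)` fixing `H₀` pointwise is some `Φ(B)`
-/

set_option autoImplicit false

namespace Cfsg.Agent.Helper73.G2S

open Cfsg.Agent.Helper43.G2S Matrix Cfsg.Lie

variable {F : Type*} [Field F]

theorem Z0M_vecM (u₁ u₂ : Fin 2 → F) : Z0M *ᵥ vecM u₁ u₂ = -vecM u₁ u₂ := by
  rw [Z0M_mulVec]
  ext i
  fin_cases i <;> simp [vecM]

/-- a vector negated by `z₀` lies in `M` -/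
theorem vecM_of_neg (h2 : (2 : F) ≠ 0) (x : Fin 8 → F) (hx : Z0M *ᵥ x = -x) :
    vecM ![x 2, x 6] ![x 3, -x 5] = x := by
  rw [Z0M_mulVec] at hx
  have e0 : x 0 = 0 := eq_zero_of_eq_neg h2 (by simpa using (congrFun hx 0).symm)
  have e1 : x 1 = 0 := eq_zero_of_eq_neg h2 (by simpa using (congrFun hx 1).symm)
  have e4 : x 4 = 0 := eq_zero_of_eq_neg h2 (by simpa using (congrFun hx 4).symm)
  have e7 : x 7 = 0 := eq_zero_of_eq_neg h2 (by simpa using (congrFun hx 7).symm)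
  ext i
  fin_cases i <;> simp [vecM, e0, e1, e4, e7]

/-- (own proof of the `M` half of (G2-B1), with explicit witnesses) -/
theorem mulVec_vecM_of_comm (h2 : (2 : F) ≠ 0) (g : Matrix (Fin 8) (Fin 8) F)
    (hg : g * Z0M = Z0M * g) (u₁ u₂ : Fin 2 → F) :
    g *ᵥ vecM u₁ u₂ = vecM ![(g *ᵥ vecM u₁ u₂) 2, (g *ᵥ vecM u₁ u₂) 6]
      ![(g *ᵥ vecM u₁ u₂) 3, -(g *ᵥ vecM u₁ u₂) 5] := by
  symm
  apply vecM_of_neg h2
  rw [Matrix.mulVec_mulVec, ← hg, ← Matrix.mulVec_mulVec, Z0M_vecM, Matrix.mulVec_neg]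

theorem vecM_injective {u₁ u₂ v₁ v₂ : Fin 2 → F} (h : vecM u₁ u₂ = vecM v₁ v₂) :
    u₁ = v₁ ∧ u₂ = v₂ := by
  have h2 := congrFun h 2
  have h3 := congrFun h 3
  have h5 := congrFun h 5
  have h6 := congrFun h 6
  simp [vecM] at h2 h3 h5 h6
  constructor
  · ext i
    fin_cases i
    · exact h2
    · exact h6
  · ext i
    fin_cases i
    · exact h3
    · exact h5

/-- (G2-B4) -/
theorem eq_phi_of_fix (h2 : (2 : F) ≠ 0) (g : G2 F) (hg : g * z0 = z0 * g)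
    (hfix : ∀ h : Matrix (Fin 2) (Fin 2) F, (g : GL (Fin 8) F).1 *ᵥ vecH h = vecH h) :
    ∃ B : SL2 F, g = phi B := by
  set M : Matrix (Fin 8) (Fin 8) F := (g : GL (Fin 8) F).1 with hMdef
  have cM : M * Z0M = Z0M * M := by
    have := congrArg (fun x : G2 F => (x : GL (Fin 8) F).1) hg
    simp only [coe_mul_G2, coe_z0] at this
    exact this
  have aut : ∀ x y, M *ᵥ zornMul x y = zornMul (M *ᵥ x) (M *ᵥ y) := (mem_G2_iff _).1 g.2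
  -- `M` is `H₀`-linear on the module `M`
  have hmod : ∀ (h : Matrix (Fin 2) (Fin 2) F) (u₁ u₂ : Fin 2 → F),
      M *ᵥ vecM (hᵀ *ᵥ u₁) (hᵀ *ᵥ u₂) = zornMul (vecH h) (M *ᵥ vecM u₁ u₂) := by
    intro h u₁ u₂
    rw [← zornMul_vecH_vecM, aut, hfix]
  obtain ⟨a₁, a₂, ha⟩ : ∃ a₁ a₂ : Fin 2 → F, M *ᵥ vecM ![1, 0] ![0, 0] = vecM a₁ a₂ :=
    ⟨_, _, mulVec_vecM_of_comm h2 M cM _ _⟩
  obtain ⟨c₁, c₂, hc⟩ : ∃ c₁ c₂ : Fin 2 → F, M *ᵥ vecM ![0, 0] ![1, 0] = vecM c₁ c₂ :=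
    ⟨_, _, mulVec_vecM_of_comm h2 M cM _ _⟩
  have e1 : (!![1, 0; 0, 0] : Matrix (Fin 2) (Fin 2) F)ᵀ *ᵥ ![1, 0] = ![1, 0] := by
    ext i
    fin_cases i <;> simp [Matrix.mulVec, dotProduct]
  have e2 : (!![1, 0; 0, 0] : Matrix (Fin 2) (Fin 2) F)ᵀ *ᵥ ![0, 0] = ![0, 0] := by
    ext i
    fin_cases i <;> simp [Matrix.mulVec, dotProduct]
  have ha' : M *ᵥ vecM ![1, 0] ![0, 0] = vecM ![a₁ 0, 0] ![a₂ 0, 0] := by
    have := hmod !![1, 0; 0, 0] ![1, 0] ![0, 0]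
    rw [e1, e2, ha, zornMul_vecH_vecM] at this
    rw [ha, this]
    congr 1 <;> (ext i; fin_cases i <;> simp [Matrix.mulVec, dotProduct])
  have hc' : M *ᵥ vecM ![0, 0] ![1, 0] = vecM ![c₁ 0, 0] ![c₂ 0, 0] := by
    have := hmod !![1, 0; 0, 0] ![0, 0] ![1, 0]
    rw [e1, e2, hc, zornMul_vecH_vecM] at this
    rw [hc, this]
    congr 1 <;> (ext i; fin_cases i <;> simp [Matrix.mulVec, dotProduct])
  set B : Matrix (Fin 2) (Fin 2) F := !![a₁ 0, c₁ 0; a₂ 0, c₂ 0] with hBdef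
  have hgen : ∀ u₁ u₂ : Fin 2 → F, M *ᵥ vecM u₁ u₂ =
      vecM (B 0 0 • u₁ + B 0 1 • u₂) (B 1 0 • u₁ + B 1 1 • u₂) := by
    intro u₁ u₂
    have e : vecM u₁ u₂ =
        vecM ((!![u₁ 0, u₁ 1; 0, 0] : Matrix (Fin 2) (Fin 2) F)ᵀ *ᵥ ![1, 0])
          ((!![u₁ 0, u₁ 1; 0, 0] : Matrix (Fin 2) (Fin 2) F)ᵀ *ᵥ ![0, 0]) +
        vecM ((!![u₂ 0, u₂ 1; 0, 0] : Matrix (Fin 2) (Fin 2) F)ᵀ *ᵥ ![0, 0])
          ((!![u₂ 0, u₂ 1; 0, 0] : Matrix (Fin 2) (Fin 2) F)ᵀ *ᵥ ![1, 0]) := by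
      ext i
      fin_cases i <;> simp [vecM, Matrix.mulVec, dotProduct]
    calc M *ᵥ vecM u₁ u₂ = _ := by rw [e]
      _ = _ := by
        rw [Matrix.mulVec_add, hmod, hmod, ha', hc', zornMul_vecH_vecM, zornMul_vecH_vecM]
        ext i
        fin_cases i <;> simp [vecM, Matrix.mulVec, dotProduct, hBdef] <;> ring
  have hdet : B.det = 1 := by
    have := aut (vecM ![1, 0] ![0, 0]) (vecM ![0, 0] ![0, 1])
    rw [zornMul_vecM_vecM, hfix, hgen, hgen, zornMul_vecM_vecM] at this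
    have := congrFun (congrFun (vecH_injective this) 0) 0
    simp [hBdef] at this
    rw [Matrix.det_fin_two]
    simp [hBdef]
    linear_combination this
  refine ⟨(⟨B, hdet⟩ : SL2 F), G2_ext ?_⟩
  show M = PhiM B
  have hall : ∀ x : Fin 8 → F, M *ᵥ x = PhiM B *ᵥ x := by
    intro x
    rw [vec_decomp x, Matrix.mulVec_add, Matrix.mulVec_add, hfix, hgen, PhiM_vecH, PhiM_vecM]
  apply Matrix.toLin'.injective
  apply LinearMap.ext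
  intro x
  simp only [Matrix.toLin'_apply]
  exact hall x

end Cfsg.Agent.Helper73.G2S
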