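import Mathlib
import Cfsg.Agent.Helper43.PsuM.EvDefs
import Cfsg.Agent.Helper61.PsuM_AQ
import Cfsg.Agent.Helper55.PsuM_AROOTa
import Cfsg.Agent.Helper41.PsuM_AROOTb
import Cfsg.Agent.Helper35.SuBNLAM
import Cfsg.Agent.Helper10.SuBNSIG

/-!
helper73: piece (E1a) of helper43's farm #14748 (S2089, block I-even, skeleton B):
lifts of a long root element commute with lifts of every element of `Qsub`.
-/

set_option autoImplicit false
set_option linter.unusedSectionVars false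

namespace Cfsg.Agent.Helper73.PsuM

open Matrix
open scoped commutatorElement
open Cfsg.Agent.Helper96.StLift
open Cfsg.Agent.Helper43.PsuM.Ev

universe u

variable {K : Type u} [Field K] [Fintype K] {q : ℕ} {σ : K →+* K} {m : ℕ}

/-! ### field facts -/

theorem E1a_invol (hK : Fintype.card K = q ^ 2) (hσq : ∀ x, σ x = x ^ q) (x : K) : σ (σ x) = x := by
  rw [hσq, hσq, ← pow_mul, ← sq, ← hK, FiniteField.pow_card]

theorem E1a_exists_lambda (hK : Fintype.card K = q ^ 2) (hσq : ∀ x, σ x = x ^ q) :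
    ∃ l : K, l + σ l = -1 := by
  obtain ⟨l, hl⟩ := Cfsg.Agent.Helper35.SuBNLAM.exists_lambda q hK
  exact ⟨l, by rw [hσq]; exact hl⟩

theorem E1a_exists_skew (hK : Fintype.card K = q ^ 2) (hσq : ∀ x, σ x = x ^ q) :
    ∃ c : K, c ≠ 0 ∧ σ c + c = 0 := by
  obtain ⟨σ', h1, -, c, hc0, hc⟩ := Cfsg.Agent.Helper10.SuBNSIG.exists_sigma q hK
  refine ⟨c, hc0, ?_⟩
  rw [hσq, ← h1, hc, neg_add_cancel]

/-! ### index facts -/

theorem E1a_exists_third (hm : 3 ≤ m) (i j : Fin m) : ∃ l : Fin m, l ≠ j ∧ l ≠ i := by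
  classical
  by_contra hcon
  push Not at hcon
  have hsub : (Finset.univ : Finset (Fin m)) ⊆ {i, j} := by
    intro l _
    by_cases h : l = j
    · simp [h]
    · simp [hcon l h]
  have h1 := Finset.card_le_card hsub
  have h2 : ({i, j} : Finset (Fin m)).card ≤ 2 := Finset.card_le_two
  rw [Finset.card_univ, Fintype.card_fin] at h1
  omega

theorem E1a_exists_ne (hm : 2 ≤ m) (i : Fin m) : ∃ l : Fin m, l ≠ i := by
  have : Nontrivial (Fin m) := Fin.nontrivial_iff_two_le.mpr hm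
  exact exists_ne i

/-! ### root elements -/

theorem E1a_zE_mem (i : Fin m) {c : K} (hc : σ c + c = 0) : zE σ i c ∈ Qsub m σ :=
  (Cfsg.Agent.Helper61.PsuM.mem_Qsub_iff _).mpr
    ⟨_, Cfsg.Agent.Helper55.PsuM.single_mem_SkewH i hc, rfl⟩

theorem E1a_cE_mem (hσ : ∀ x, σ (σ x) = x) {i j : Fin m} (hij : i ≠ j) (t : K) :
    cE σ i j t ∈ Qsub m σ :=
  (Cfsg.Agent.Helper61.PsuM.mem_Qsub_iff _).mpr
    ⟨_, Cfsg.Agent.Helper55.PsuM.single_sub_mem_SkewH hσ hij t, rfl⟩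

theorem E1a_zE_zero (i : Fin m) : zE σ i (0 : K) = 1 := by
  unfold zE
  rw [Matrix.single_zero]
  exact Cfsg.Agent.Helper61.PsuM.qE_zero

theorem E1a_zE_neg (i : Fin m) {c : K} (hc : σ c + c = 0) : zE σ i (-c) = (zE σ i c)⁻¹ := by
  have hn : σ (-c) + -c = 0 := by rw [map_neg, ← neg_add, hc, neg_zero]
  have h := Cfsg.Agent.Helper55.PsuM.zE_add i hc hn
  rw [add_neg_cancel, E1a_zE_zero] at h
  exact eq_inv_of_mul_eq_one_right h.symm

section ext

variable {Γ : Type u} [Group Γ] (τ : Γ →* SUe m σ) (hτ : Function.Surjective τ)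
  (hc : τ.ker ≤ Subgroup.center Γ)

include hc

/-- the torus trick for single elements (the proof of `Cfsg.Agent.Helper31.PsuM.lc_eq_one_of_torus`) -/
theorem E1a_kill (h x' y : SUe m σ) (hcomm : Commute x' y) (hhy : h * y * h⁻¹ = y) :
    lc hτ (h * x' * h⁻¹ * x'⁻¹) y = 1 := by
  obtain ⟨g, rfl⟩ := hτ h
  have hcomm' : Commute x'⁻¹ y := hcomm.inv_left
  have h1 : lc hτ x'⁻¹ y = (lc hτ x' y)⁻¹ := by
    have h2 := lc_mul_left_of_commute hτ hc (a := x'⁻¹) (a' := x') (b := y) hcomm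
    rw [inv_mul_cancel, lc_one_left hτ hc] at h2
    exact (inv_eq_of_mul_eq_one_right h2.symm).symm
  have h3 : lc hτ (τ g * x' * (τ g)⁻¹) y = lc hτ x' y := by
    have h4 := lc_conj hτ hc g x' y
    rw [hhy] at h4
    rw [← h4]
    have hz := lc_mem_center hτ hc hcomm
    rw [Subgroup.mem_center_iff] at hz
    rw [hz g, mul_inv_cancel_right]
  rw [lc_mul_left_of_commute hτ hc hcomm', h1, h3, inv_mul_cancel]

/-- (G1), case A: a spare index -/
theorem E1a_zz_spare (hK : Fintype.card K = q ^ 2) (hσq : ∀ x, σ x = x ^ q) (i j l : Fin m)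
    (hlj : l ≠ j) (hli : l ≠ i) {c c'' : K} (hc' : σ c + c = 0) (hc'' : σ c'' + c'' = 0) :
    lc hτ (zE σ i c) (zE σ j c'') = 1 := by
  have hσ : ∀ x, σ (σ x) = x := E1a_invol hK hσq
  obtain ⟨l0, hl0⟩ := E1a_exists_lambda (σ := σ) hK hσq
  have hsc : σ c'' = -c'' := eq_neg_of_add_eq_zero_left hc''
  have hu : (1 : K) * (-l0 * c'') - σ (1 * (-l0 * c'')) = c'' := by
    rw [one_mul, map_mul, map_neg, hsc]
    have : σ l0 = -1 - l0 := by rw [← hl0]; ring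
    rw [this]
    ring
  have hcomm := Cfsg.Agent.Helper41.PsuM.commutator_xE_cE hσ hlj.symm (1 : K) (-l0 * c'')
  rw [hu] at hcomm
  rw [← hcomm]
  apply lc_spare hτ hc
  · exact (Cfsg.Agent.Helper41.PsuM.commute_xE_zE hσ hlj.symm hli (1 : K) hc').symm
  · exact Cfsg.Agent.Helper61.PsuM.Qsub_comm _ _ (E1a_zE_mem i hc') (E1a_cE_mem hσ hlj _)

/-- (G1), case B: the torus trick -/
theorem E1a_zz_torus (hK : Fintype.card K = q ^ 2) (hσq : ∀ x, σ x = x ^ q) (i j : Fin m)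
    (hji : j ≠ i) {s : K} (hs0 : s ≠ 0) (hss : σ s = s) (hs1 : s * s ≠ 1)
    {c c'' : K} (hc' : σ c + c = 0) (hc'' : σ c'' + c'' = 0) :
    lc hτ (zE σ i c) (zE σ j c'') = 1 := by
  classical
  have hσ : ∀ x, σ (σ x) = x := E1a_invol hK hσq
  set d : Fin m → K := Function.update (fun _ => (1 : K)) i s with hd_def
  have hdi : d i = s := by rw [hd_def, Function.update_self]
  have hdj : d j = 1 := by rw [hd_def, Function.update_of_ne hji]
  have hd : ∀ k, d k ≠ 0 := by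
    intro k
    by_cases hk : k = i
    · rw [hk, hdi]; exact hs0
    · rw [hd_def, Function.update_of_ne hk]; exact one_ne_zero
  have hprod : ∏ k, d k = s := by
    rw [hd_def, Finset.prod_update_of_mem (Finset.mem_univ i)]
    simp
  have hdet : σ (∏ k, d k) = ∏ k, d k := by rw [hprod, hss]
  have hne : s * s - 1 ≠ 0 := sub_ne_zero.mpr hs1
  have hsc : σ c = -c := eq_neg_of_add_eq_zero_left hc'
  -- the preimage
  have hc1 : σ (c / (s * s - 1)) + c / (s * s - 1) = 0 := by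
    rw [map_div₀, map_sub, map_mul, hss, map_one, hsc]
    field_simp
    ring
  have hc2 : σ (s * s * (c / (s * s - 1))) + s * s * (c / (s * s - 1)) = 0 := by
    rw [map_mul, map_mul, hss]
    have := eq_neg_of_add_eq_zero_left hc1
    rw [this]; ring
  have hx : tE σ d * zE σ i (c / (s * s - 1)) * (tE σ d)⁻¹ * (zE σ i (c / (s * s - 1)))⁻¹
      = zE σ i c := by
    rw [Cfsg.Agent.Helper41.PsuM.tE_conj_zE hσ d hd hdet i hc1, hdi, hss, ← E1a_zE_neg i hc1,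
      ← Cfsg.Agent.Helper55.PsuM.zE_add i hc2
        (by rw [map_neg, ← neg_add, hc1, neg_zero] : σ (-(c / (s * s - 1))) + -(c / (s * s - 1)) = 0)]
    congr 1
    have e : s * s * (c / (s * s - 1)) + -(c / (s * s - 1)) = (s * s - 1) * (c / (s * s - 1)) := by
      ring
    rw [e, mul_div_cancel₀ _ hne]
  have hy : tE σ d * zE σ j c'' * (tE σ d)⁻¹ = zE σ j c'' := by
    rw [Cfsg.Agent.Helper41.PsuM.tE_conj_zE hσ d hd hdet j hc'', hdj, map_one, one_mul, one_mul]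
  rw [← hx]
  exact E1a_kill τ hτ hc _ _ _
    (Cfsg.Agent.Helper61.PsuM.Qsub_comm _ _ (E1a_zE_mem i hc1) (E1a_zE_mem j hc'')) hy

/-- (G1) -/
theorem E1a_zz (hK : Fintype.card K = q ^ 2) (hσq : ∀ x, σ x = x ^ q) (hm : 2 ≤ m)
    (hs : 3 ≤ m ∨ ∃ s : K, s ≠ 0 ∧ σ s = s ∧ s * s ≠ 1) (i j : Fin m)
    {c c'' : K} (hc' : σ c + c = 0) (hc'' : σ c'' + c'' = 0) :
    lc hτ (zE σ i c) (zE σ j c'') = 1 := by
  by_cases hji : j = i
  · obtain ⟨l, hl⟩ := E1a_exists_ne hm i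
    subst hji
    exact E1a_zz_spare τ hτ hc hK hσq j j l hl hl hc' hc''
  · rcases hs with h3 | ⟨s, hs0, hss, hs1⟩
    · obtain ⟨l, hlj, hli⟩ := E1a_exists_third h3 i j
      exact E1a_zz_spare τ hτ hc hK hσq i j l hlj hli hc' hc''
    · exact E1a_zz_torus τ hτ hc hK hσq i j hji hs0 hss hs1 hc' hc''

/-- (G2), second index different from `i` -/
theorem E1a_zc_core (hK : Fintype.card K = q ^ 2) (hσq : ∀ x, σ x = x ^ q) (hm : 2 ≤ m)
    (hs : 3 ≤ m ∨ ∃ s : K, s ≠ 0 ∧ σ s = s ∧ s * s ≠ 1) (i j k : Fin m) (hjk : j ≠ k)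
    (hki : k ≠ i) {c : K} (hc' : σ c + c = 0) (t : K) :
    lc hτ (zE σ i c) (cE σ j k t) = 1 := by
  have hσ : ∀ x, σ (σ x) = x := E1a_invol hK hσq
  obtain ⟨c0, hc00, hc0⟩ := E1a_exists_skew (σ := σ) hK hσq
  have hsc0 : σ c0 = -c0 := eq_neg_of_add_eq_zero_left hc0
  have hw : σ (t / c0 * σ (t / c0) * c0) + t / c0 * σ (t / c0) * c0 = 0 := by
    rw [map_mul, map_mul, hσ, hsc0]; ring
  have hcomm := Cfsg.Agent.Helper41.PsuM.commutator_xE_zE hσ hjk (t / c0) hc0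
  rw [div_mul_cancel₀ t hc00] at hcomm
  have hcE : cE σ j k t = ⁅xE σ j k (t / c0), zE σ k c0⁆ * zE σ j (-(t / c0 * σ (t / c0) * c0)) := by
    rw [hcomm, E1a_zE_neg j hw, mul_inv_cancel_right]
  have hwn : σ (-(t / c0 * σ (t / c0) * c0)) + -(t / c0 * σ (t / c0) * c0) = 0 := by
    rw [map_neg, ← neg_add, hw, neg_zero]
  rw [hcE, lc_mul_right_of_commute hτ hc
    (Cfsg.Agent.Helper61.PsuM.Qsub_comm _ _ (E1a_zE_mem i hc') (E1a_zE_mem j hwn)),
    E1a_zz τ hτ hc hK hσq hm hs i j hc' hwn, mul_one]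
  apply lc_spare hτ hc
  · exact (Cfsg.Agent.Helper41.PsuM.commute_xE_zE hσ hjk hki (t / c0) hc').symm
  · exact Cfsg.Agent.Helper61.PsuM.Qsub_comm _ _ (E1a_zE_mem i hc') (E1a_zE_mem k hc0)

/-- (G2) -/
theorem E1a_zc (hK : Fintype.card K = q ^ 2) (hσq : ∀ x, σ x = x ^ q) (hm : 2 ≤ m)
    (hs : 3 ≤ m ∨ ∃ s : K, s ≠ 0 ∧ σ s = s ∧ s * s ≠ 1) (i j k : Fin m) (hjk : j ≠ k)
    {c : K} (hc' : σ c + c = 0) (t : K) :
    lc hτ (zE σ i c) (cE σ j k t) = 1 := by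
  have hσ : ∀ x, σ (σ x) = x := E1a_invol hK hσq
  by_cases hki : k = i
  · rw [Cfsg.Agent.Helper55.PsuM.cE_symm hσ hjk.symm t]
    refine E1a_zc_core τ hτ hc hK hσq hm hs i k j hjk.symm ?_ hc' _
    rw [hki] at hjk
    exact hjk
  · exact E1a_zc_core τ hτ hc hK hσq hm hs i j k hjk hki hc' t

/-- (E1a) lifts of a long root element commute with lifts of every element of `Qsub`. -/
theorem lc_zE_eq_one (hK : Fintype.card K = q ^ 2) (hσq : ∀ x, σ x = x ^ q) (hm : 2 ≤ m)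
    (hs : 3 ≤ m ∨ ∃ s : K, s ≠ 0 ∧ σ s = s ∧ s * s ≠ 1) (i : Fin m) {c : K} (hc' : σ c + c = 0)
    (y : SUe m σ) (hy : y ∈ Qsub m σ) : lc hτ (zE σ i c) y = 1 := by
  have hσ : ∀ x, σ (σ x) = x := E1a_invol hK hσq
  have hz : zE σ i c ∈ Qsub m σ := E1a_zE_mem i hc'
  have hcl := Cfsg.Agent.Helper55.PsuM.Qsub_le_closure hσ hy
  have key : y ∈ Qsub m σ ∧ lc hτ (zE σ i c) y = 1 := by
    clear hy
    induction hcl using Subgroup.closure_induction with
    | mem g hg =>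
      rcases hg with ⟨j, c'', hc'', rfl⟩ | ⟨j, k, hjk, t, rfl⟩
      · exact ⟨E1a_zE_mem j hc'', E1a_zz τ hτ hc hK hσq hm hs i j hc' hc''⟩
      · exact ⟨E1a_cE_mem hσ hjk t, E1a_zc τ hτ hc hK hσq hm hs i j k hjk hc' t⟩
    | one => exact ⟨Subgroup.one_mem _, lc_one_right hτ hc _⟩
    | mul a b _ _ iha ihb =>
      refine ⟨Subgroup.mul_mem _ iha.1 ihb.1, ?_⟩
      rw [lc_mul_right_of_commute hτ hc (Cfsg.Agent.Helper61.PsuM.Qsub_comm _ _ hz ihb.1),
        iha.2, ihb.2, mul_one]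
    | inv a _ iha =>
      refine ⟨Subgroup.inv_mem _ iha.1, ?_⟩
      have h1 := lc_mul_right_of_commute hτ hc (a := zE σ i c) (b := a) (b' := a⁻¹)
        (Cfsg.Agent.Helper61.PsuM.Qsub_comm _ _ hz (Subgroup.inv_mem _ iha.1))
      rw [mul_inv_cancel, lc_one_right hτ hc, iha.2, one_mul] at h1
      exact h1.symm
  exact key.2

end ext

end Cfsg.Agent.Helper73.PsuM
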