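import Mathlib
import Cfsg.Agent.Helper77.Res.Defs

/-!
# S5289 T-subfarm (helper48 #14163), leaf (TB2): the kernel of `ρ` consists of automorphisms induced
by `P` (hence by `T`).
-/

set_option autoImplicit false

universe u

namespace Cfsg.Agent.Helper73.ResT

open Subgroup Cfsg.Agent.Helper77.Res

variable {Ω : Type u} [Group Ω] {p : ℕ} [hp : Fact p.Prime]

section cfg

variable {T P : Subgroup Ω} {A : Subgroup (MulAut ↥P)} {B : Subgroup (MulAut ↥T)} {M : Type*} [Group M]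

/-- (TB2) the kernel of `ρ` consists of automorphisms induced by `T`, indeed by `P`. -/
theorem conjBy_of_ker (hc : Cfg p T P A B) (hrad : Rad p P A) (ρ : ↥A →* M)
    (hker : ∀ α : ↥A, ρ α = 1 → ∃ k : ℕ, orderOf α = p ^ k) (α : ↥A) (hα : ρ α = 1) :
    ConjBy T P (α : MulAut ↥P) ∧ ConjBy P P (α : MulAut ↥P) := by
  have hKp : IsPGroup p ↥ρ.ker := by
    intro x
    obtain ⟨k, hk⟩ := hker x.1 (MonoidHom.mem_ker.1 x.2)
    refine ⟨k, ?_⟩
    apply Subtype.ext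
    rw [Subgroup.coe_pow, ← hk, pow_orderOf_eq_one]
    rfl
  have hN1 : ρ.ker.map A.subtype ≤ A := Subgroup.map_subtype_le _
  have hN2 : IsPGroup p ↥(ρ.ker.map A.subtype) := hKp.map A.subtype
  have hN3 : ∀ α' ∈ A, ∀ β ∈ ρ.ker.map A.subtype, α' * β * α'⁻¹ ∈ ρ.ker.map A.subtype := by
    intro α' hα' β hβ
    obtain ⟨b, hb, rfl⟩ := Subgroup.mem_map.1 hβ
    refine Subgroup.mem_map.2 ⟨⟨α', hα'⟩ * b * ⟨α', hα'⟩⁻¹, ?_, rfl⟩
    exact (inferInstance : ρ.ker.Normal).conj_mem b hb ⟨α', hα'⟩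
  have hmem : (α : MulAut ↥P) ∈ ρ.ker.map A.subtype :=
    Subgroup.mem_map.2 ⟨α, MonoidHom.mem_ker.2 hα, rfl⟩
  have hPP : ConjBy P P (α : MulAut ↥P) := hrad _ hN1 hN2 hN3 _ hmem
  refine ⟨?_, hPP⟩
  obtain ⟨g, hg, hgx⟩ := hPP
  exact ⟨g, hc.le hg, hgx⟩

end cfg

end Cfsg.Agent.Helper73.ResT
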