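import Mathlib
import Cfsg.Agent.Helper77.Res.Defs
import Cfsg.Agent.Helper73.ResTTB2

/-!
# S5289 T-subfarm (helper48 #14163), leaf (TB6): if the image of `Aut_T(P)` is normalized by the
image of `A` then `A` is `p`-closed.
-/

set_option autoImplicit false

universe u

namespace Cfsg.Agent.Helper73.ResT

open Subgroup Cfsg.Agent.Helper77.Res

variable {Ω : Type u} [Group Ω] {p : ℕ} [hp : Fact p.Prime]

section cfg

variable {T P : Subgroup Ω} {A : Subgroup (MulAut ↥P)} {B : Subgroup (MulAut ↥T)} {M : Type*} [Group M]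

/-- `ConjBy T P` is closed under products. -/
theorem TB6_conjBy_mul {δ γ : MulAut ↥P} (hδ : ConjBy T P δ) (hγ : ConjBy T P γ) :
    ConjBy T P (δ * γ) := by
  obtain ⟨g1, hg1, h1⟩ := hδ
  obtain ⟨g2, hg2, h2⟩ := hγ
  refine ⟨g1 * g2, T.mul_mem hg1 hg2, ?_⟩
  intro x
  rw [MulAut.mul_apply, h1, h2]
  group

/-- (TB6) if the image of `Aut_T(P)` is normalized by the image of `A` then `A` is `p`-closed. -/
theorem pclosed_of_normal_image (hc : Cfg p T P A B) (hrad : Rad p P A) (ρ : ↥A →* M)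
    (hker : ∀ α : ↥A, ρ α = 1 → ∃ k : ℕ, orderOf α = p ^ k)
    (hn : ∀ α β : ↥A, ConjBy T P (β : MulAut ↥P) →
      ∃ γ : ↥A, ConjBy T P (γ : MulAut ↥P) ∧ ρ (α * β * α⁻¹) = ρ γ) : PClosed T P A := by
  intro α hα β hβ
  have hβA : β ∈ A := hc.conj_mem β hβ
  obtain ⟨γ, hγ, hργ⟩ := hn ⟨α, hα⟩ ⟨β, hβA⟩ hβ
  have hδ : ρ (⟨α, hα⟩ * ⟨β, hβA⟩ * ⟨α, hα⟩⁻¹ * γ⁻¹) = 1 := by
    rw [map_mul, hργ, map_inv, mul_inv_cancel]
  have h1 := (conjBy_of_ker hc hrad ρ hker _ hδ).1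
  have h2 := TB6_conjBy_mul h1 hγ
  have e : ((⟨α, hα⟩ * ⟨β, hβA⟩ * ⟨α, hα⟩⁻¹ * γ⁻¹ : ↥A) : MulAut ↥P) * (γ : MulAut ↥P) =
      α * β * α⁻¹ := by
    simp
  rwa [e] at h2

end cfg

end Cfsg.Agent.Helper73.ResT
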