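import Cfsg.Agent.Helper73.SPAux

/-!
# (S0g) of helper6's plan for `Sp_{2n}(q)` (S2347): the commutator in the Heisenberg group
-/

set_option autoImplicit false

namespace Cfsg.Agent.Helper73.SPrep

open Matrix Cfsg.Agent.Helper13 Cfsg.Agent.Helper5 Cfsg.Agent.Helper6.SPrep Module

variable {F : Type*} [Field F] {m : ℕ}

local notation "Vec" => (Fin m ⊕ Fin m → F)
local notation "⟪" x ", " y "⟫" => Cfsg.sympForm m F x y

/-- (S0g) the commutator in the Heisenberg group -/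
theorem exists_eiW_conj (h2 : (2 : F) ≠ 0) {W : Submodule F (Fin m ⊕ Fin m → F)}
    (hW : RelNondeg W) (u u' : Vec) (hu : u ∈ W) (hu' : u' ∈ W) (huu' : ⟪u, u'⟫ = 1) (y₀ : Vec)
    (hy₀ : y₀ ∈ hypCompl W u u') (hy₀0 : y₀ ≠ 0) (c₀ s : F) :
    ∃ (y₁ : Vec) (hy₁ : y₁ ∈ hypCompl W u u') (c₁ : F),
      eiW W u y₁ hu (hypCompl_le W u u' hy₁) c₁ * eiW W u y₀ hu (hypCompl_le W u u' hy₀) c₀ *
          (eiW W u y₁ hu (hypCompl_le W u u' hy₁) c₁)⁻¹ =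
        eiW W u y₀ hu (hypCompl_le W u u' hy₀) c₀ * tvW W u hu s := by
  have hnd := relNondeg_hypCompl' hW u u' hu hu' huu'
  obtain ⟨y₁, hy₁, hyy⟩ := exists_sympForm_eq hnd hy₀ hy₀0 (s * (2 : F)⁻¹)
  refine ⟨y₁, hy₁, 0, ?_⟩
  have hy₀u : ⟪y₀, u⟫ = 0 := hy₀.2.1
  have hy₁u : ⟪y₁, u⟫ = 0 := hy₁.2.1
  have huy₀ : ⟪u, y₀⟫ = 0 := by rw [sympForm_swap, hy₀u, neg_zero]
  have huy₁ : ⟪u, y₁⟫ = 0 := by rw [sympForm_swap, hy₁u, neg_zero]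
  have hy₁y₀ : ⟪y₁, y₀⟫ = -(s * (2 : F)⁻¹) := by rw [sympForm_swap, hyy]
  rw [mul_inv_eq_iff_eq_mul]
  apply spW_ext
  intro x
  rw [spMat_mul, spMat_mul, spMat_mul, ← Matrix.mulVec_mulVec, ← Matrix.mulVec_mulVec,
    ← Matrix.mulVec_mulVec,
    spMat_eiW_mulVec' W u y₀ hu (hypCompl_le W u u' hy₀) hy₀u,
    spMat_eiW_mulVec' W u y₁ hu (hypCompl_le W u u' hy₁) hy₁u,
    spMat_eiW_mulVec' W u y₁ hu (hypCompl_le W u u' hy₁) hy₁u,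
    spMat_tvW_mulVec,
    spMat_eiW_mulVec' W u y₀ hu (hypCompl_le W u u' hy₀) hy₀u]
  simp only [sympForm_add_left, sympForm_smul_left, sympForm_self, hy₀u, hy₁u, huy₀, huy₁, hyy,
    hy₁y₀, mul_zero, add_zero, zero_mul, zero_smul]
  have h2' : (2 : F) * (2 : F)⁻¹ = 1 := mul_inv_cancel₀ h2
  have key : s = s * (2 : F)⁻¹ + s * (2 : F)⁻¹ := by
    have : s * (2 : F)⁻¹ + s * (2 : F)⁻¹ = s * ((2 : F) * (2 : F)⁻¹) := by ring
    rw [this, h2', mul_one]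
  generalize hσ : s * (2 : F)⁻¹ = σ at key ⊢
  subst key
  module

end Cfsg.Agent.Helper73.SPrep
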