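import Mathlib
import Cfsg.Agent.Helper63.PGroup
import Cfsg.Agent.Helper66.StemGen
import Cfsg.Agent.Helper73.PGroupCyclic

/-!
# Taussky's theorem

* `card_eq_card_center_mul_card_commutator` : a non-abelian finite group `G` with an abelian subgroup `M` of
  index 2 satisfies `|M| = |Z(G)| * |G'|`.
* `taussky` : a group of order `2 ^ n`, `n ≥ 3`, whose commutator subgroup has index 4 has an element of
  order `2 ^ (n - 1)` (a cyclic maximal subgroup).
-/

set_option autoImplicit false

namespace Cfsg.Agent.Helper73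

open Subgroup
open scoped commutatorElement

section AbelianIndexTwo

variable {G : Type*} [Group G]

/-- a non-abelian finite group `G` with an abelian subgroup `M` of index 2: `|M| = |Z(G)| * |G'|`. -/
theorem card_eq_card_center_mul_card_commutator [Finite G] (M : Subgroup G)
    (hidx : M.index = 2) (hMc : ∀ x ∈ M, ∀ y ∈ M, x * y = y * x) (hnc : ∃ x y : G, x * y ≠ y * x) :
    Nat.card M = Nat.card (center G) * Nat.card (commutator G) := by
  have hMn : M.Normal := normal_of_index_eq_two hidx
  obtain ⟨g, hg⟩ : ∃ g : G, g ∉ M := by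
    by_contra h
    push Not at h
    have : M = ⊤ := eq_top_iff.2 fun x _ => h x
    rw [this, index_top] at hidx
    omega
  -- every element is in `M` or of the form `m * g`
  have hdecomp : ∀ x : G, x ∉ M → x * g⁻¹ ∈ M := by
    intro x hx
    rw [mul_mem_iff_of_index_two hidx, inv_mem_iff]
    exact ⟨fun h => (hx h).elim, fun h => (hg h).elim⟩
  have hconjM : ∀ m ∈ M, g * m * g⁻¹ ∈ M := fun m hm => hMn.conj_mem m hm g
  have hψM : ∀ m ∈ M, m * g * m⁻¹ * g⁻¹ ∈ M := by
    intro m hm
    have : m * g * m⁻¹ * g⁻¹ = m * (g * m⁻¹ * g⁻¹) := by group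
    rw [this]
    exact mul_mem hm (hconjM _ (inv_mem hm))
  let ψ : M →* G := MonoidHom.mk' (fun m => (m : G) * g * (m : G)⁻¹ * g⁻¹) (by
    intro m₁ m₂
    have hu := hψM m₂ m₂.2
    have hv := hconjM _ (inv_mem m₁.2)
    have huv := hMc _ hu _ hv
    show ((m₁ * m₂ : M) : G) * g * ((m₁ * m₂ : M) : G)⁻¹ * g⁻¹ =
      ((m₁ : G) * g * (m₁ : G)⁻¹ * g⁻¹) * ((m₂ : G) * g * (m₂ : G)⁻¹ * g⁻¹)
    calc ((m₁ * m₂ : M) : G) * g * ((m₁ * m₂ : M) : G)⁻¹ * g⁻¹
        = (m₁ : G) * (((m₂ : G) * g * (m₂ : G)⁻¹ * g⁻¹) * (g * (m₁ : G)⁻¹ * g⁻¹)) := by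
          rw [Subgroup.coe_mul]; group
      _ = (m₁ : G) * ((g * (m₁ : G)⁻¹ * g⁻¹) * ((m₂ : G) * g * (m₂ : G)⁻¹ * g⁻¹)) := by rw [huv]
      _ = _ := by group)
  have hψ : ∀ m : M, ψ m = (m : G) * g * (m : G)⁻¹ * g⁻¹ := fun m => rfl
  -- the centre lies in `M`
  have hZM : center G ≤ M := by
    intro c hc
    by_contra hcM
    obtain ⟨x, y, hxy⟩ := hnc
    apply hxy
    have hdecomp' : ∀ x : G, ∃ m ∈ M, x = m ∨ x = m * c := by
      intro x
      by_cases hx : x ∈ M
      · exact ⟨x, hx, Or.inl rfl⟩
      · refine ⟨x * c⁻¹, ?_, Or.inr (by group)⟩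
        rw [mul_mem_iff_of_index_two hidx, inv_mem_iff]
        exact ⟨fun h => (hx h).elim, fun h => (hcM h).elim⟩
    have hcc : ∀ t : G, t * c = c * t := fun t => mem_center_iff.1 hc t
    obtain ⟨m₁, hm₁, h1 | h1⟩ := hdecomp' x <;> obtain ⟨m₂, hm₂, h2 | h2⟩ := hdecomp' y <;>
      rw [h1, h2]
    · exact hMc _ hm₁ _ hm₂
    · rw [← mul_assoc, hMc _ hm₁ _ hm₂, mul_assoc, mul_assoc, hcc m₁]
    · rw [mul_assoc, ← hcc m₂, ← mul_assoc, hMc _ hm₁ _ hm₂, mul_assoc]
    · calc m₁ * c * (m₂ * c) = m₁ * (c * m₂) * c := by group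
        _ = m₁ * (m₂ * c) * c := by rw [hcc m₂]
        _ = (m₁ * m₂) * c * c := by group
        _ = (m₂ * m₁) * c * c := by rw [hMc _ hm₁ _ hm₂]
        _ = m₂ * (m₁ * c) * c := by group
        _ = m₂ * (c * m₁) * c := by rw [hcc m₁]
        _ = m₂ * c * (m₁ * c) := by group
  -- kernel
  have hker : (ψ.ker).map M.subtype = center G := by
    ext c
    constructor
    · rintro ⟨m, hm, rfl⟩
      rw [SetLike.mem_coe, MonoidHom.mem_ker, hψ] at hm
      have hmg : (m : G) * g = g * m := by
        calc (m : G) * g = ((m : G) * g * (m : G)⁻¹ * g⁻¹) * (g * m) := by group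
          _ = g * m := by rw [hm, one_mul]
      rw [Subgroup.coe_subtype, mem_center_iff]
      intro x
      by_cases hx : x ∈ M
      · exact hMc _ hx _ m.2
      · have h1 := hMc _ (hdecomp x hx) _ m.2
        calc x * (m : G) = (x * g⁻¹) * (g * m) := by group
          _ = (x * g⁻¹) * (m * g) := by rw [hmg]
          _ = ((x * g⁻¹) * m) * g := by group
          _ = (m * (x * g⁻¹)) * g := by rw [h1]
          _ = m * x := by group
    · intro hc
      refine ⟨⟨c, hZM hc⟩, ?_, rfl⟩
      rw [SetLike.mem_coe, MonoidHom.mem_ker, hψ]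
      show c * g * c⁻¹ * g⁻¹ = 1
      rw [← mem_center_iff.1 hc g]
      group
  -- range
  have hrange_le : ψ.range ≤ M := by
    rintro _ ⟨m, rfl⟩
    exact hψM m m.2
  have hrn : ψ.range.Normal := by
    constructor
    rintro _ ⟨m, rfl⟩ x
    have hconj_g : g * ψ m * g⁻¹ ∈ ψ.range := by
      refine ⟨⟨g * m * g⁻¹, hconjM m m.2⟩, ?_⟩
      rw [hψ, hψ]
      show g * (m : G) * g⁻¹ * g * (g * (m : G) * g⁻¹)⁻¹ * g⁻¹ = g * ((m : G) * g * (m : G)⁻¹ * g⁻¹) * g⁻¹
      group
    by_cases hx : x ∈ M
    · have h1 := hMc _ hx _ (hrange_le ⟨m, rfl⟩)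
      have : x * ψ m * x⁻¹ = ψ m := by rw [h1]; group
      rw [this]; exact ⟨m, rfl⟩
    · have h1 := hMc _ (hdecomp x hx) _ (hrange_le hconj_g)
      have : x * ψ m * x⁻¹ = g * ψ m * g⁻¹ := by
        calc x * ψ m * x⁻¹ = ((x * g⁻¹) * (g * ψ m * g⁻¹)) * (x * g⁻¹)⁻¹ := by group
          _ = ((g * ψ m * g⁻¹) * (x * g⁻¹)) * (x * g⁻¹)⁻¹ := by rw [h1]
          _ = g * ψ m * g⁻¹ := by group
      rw [this]; exact hconj_g
  have hrange : ψ.range = commutator G := by
    apply le_antisymm
    · rintro _ ⟨m, rfl⟩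
      rw [hψ, _root_.commutator_def]
      exact commutator_mem_commutator (mem_top (m : G)) (mem_top g)
    · apply Cfsg.Agent.Helper66.commutator_le_of_generators ((M : Set G) ∪ {g})
      · rw [eq_top_iff]
        intro x _
        by_cases hx : x ∈ M
        · exact subset_closure (Or.inl hx)
        · have : x = (x * g⁻¹) * g := by group
          rw [this]
          exact mul_mem (subset_closure (Or.inl (hdecomp x hx))) (subset_closure (Or.inr rfl))
      · have hmg : ∀ s ∈ M, ⁅s, g⁆ ∈ ψ.range := fun s hs => ⟨⟨s, hs⟩, rfl⟩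
        rintro s (hs | hs) t (ht | ht)
        · rw [commutatorElement_eq_one_iff_mul_comm.2 (hMc _ hs _ ht)]
          exact one_mem _
        · rw [Set.mem_singleton_iff.1 ht]
          exact hmg s hs
        · rw [Set.mem_singleton_iff.1 hs, ← commutatorElement_inv]
          exact inv_mem (hmg t ht)
        · rw [Set.mem_singleton_iff.1 hs, Set.mem_singleton_iff.1 ht, commutatorElement_self]
          exact one_mem _
  have h1 := ψ.ker.card_mul_index
  rw [index_ker, hrange] at h1
  rw [← h1, ← hker, Subgroup.card_map_of_injective M.subtype_injective]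

end AbelianIndexTwo

section Taussky

universe u

/-- all squares trivial implies commutative. -/
theorem mul_comm_of_sq_eq_one {G : Type*} [Group G] (h : ∀ x : G, x ^ 2 = 1) (a b : G) :
    a * b = b * a := by
  have ha : a⁻¹ = a := by rw [inv_eq_iff_mul_eq_one, ← sq]; exact h a
  have hb : b⁻¹ = b := by rw [inv_eq_iff_mul_eq_one, ← sq]; exact h b
  have hab : (a * b)⁻¹ = a * b := by rw [inv_eq_iff_mul_eq_one, ← sq]; exact h (a * b)
  rw [mul_inv_rev, ha, hb] at hab
  exact hab.symm

/-- a commutative group has trivial commutator subgroup. -/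
theorem commutator_eq_bot_of_comm {G : Type*} [Group G] (h : ∀ a b : G, a * b = b * a) :
    commutator G = ⊥ := by
  rw [_root_.commutator_def, eq_bot_iff, Subgroup.commutator_le]
  intro a _ b _
  rw [mem_bot, commutatorElement_eq_one_iff_mul_comm]
  exact h a b

theorem two_group_sub_eq {G : Type*} [Group G] (K : Subgroup G) (hK : Nat.card K = 2) (w : G) (hw : w ∈ K)
    (hw1 : w ≠ 1) (y : G) (hy : y ∈ K) : y = 1 ∨ y = w := by
  by_cases hy1 : y = 1
  · exact Or.inl hy1
  · right
    obtain ⟨b, -, hb⟩ := (Nat.card_eq_two_iff' (1 : K)).1 hK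
    have h1 : (⟨y, hy⟩ : K) = b := hb _ (fun h => hy1 (congrArg Subtype.val h))
    have h2 : (⟨w, hw⟩ : K) = b := hb _ (fun h => hw1 (congrArg Subtype.val h))
    exact congrArg Subtype.val (h1.trans h2.symm)

theorem taussky_aux (n : ℕ) : ∀ (G : Type u) [Group G] [Finite G], Nat.card G = 2 ^ (n + 3) →
    (commutator G).index = 4 → ∃ a : G, orderOf a = 2 ^ (n + 2) := by
  have : Fact (Nat.Prime 2) := ⟨Nat.prime_two⟩
  induction n with
  | zero =>
    intro G _ _ hcard hidx
    obtain ⟨x, hx⟩ : ∃ x : G, x ^ 2 ≠ 1 := by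
      by_contra h
      push Not at h
      have hc := commutator_eq_bot_of_comm (mul_comm_of_sq_eq_one h)
      rw [hc, index_bot, hcard] at hidx
      norm_num at hidx
    have hdvd : orderOf x ∣ 2 ^ 3 := by
      have := orderOf_dvd_natCard x
      rwa [hcard] at this
    obtain ⟨k, hk3, hk⟩ := (Nat.dvd_prime_pow Nat.prime_two).1 hdvd
    have hk2 : 2 ≤ k := by
      by_contra hlt
      apply hx
      apply orderOf_dvd_iff_pow_eq_one.1
      rw [hk]
      have : k ≤ 1 := by omega
      exact pow_dvd_pow 2 this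
    interval_cases k
    · exact ⟨x, hk⟩
    · refine ⟨x ^ 2, ?_⟩
      rw [orderOf_pow_of_dvd (by norm_num) (by rw [hk]; norm_num), hk]
      norm_num
  | succ n ih =>
    intro G _ _ hcard hidx
    have hG2 : IsPGroup 2 G := IsPGroup.of_card hcard
    have hnc : ∃ x y : G, x * y ≠ y * x := by
      by_contra h
      push Not at h
      have hc := commutator_eq_bot_of_comm h
      rw [hc, index_bot, hcard] at hidx
      have : 2 ^ (n + 1 + 3) = 2 ^ n * 16 := by ring
      omega
    have hcne : commutator G ≠ ⊥ := by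
      intro hc
      rw [hc, index_bot, hcard] at hidx
      have : 2 ^ (n + 1 + 3) = 2 ^ n * 16 := by ring
      omega
    have hne := Cfsg.Agent.Helper63.normal_inf_center_ne_bot hG2 (commutator G) hcne
    obtain ⟨⟨w, hw⟩, hw1⟩ := (Subgroup.ne_bot_iff_exists_ne_one).1 hne
    have hw1' : w ≠ 1 := fun h => hw1 (Subtype.ext h)
    obtain ⟨j, hj⟩ := (IsPGroup.iff_orderOf.1 hG2) w
    have hj1 : 1 ≤ j := by
      by_contra h0
      have : j = 0 := by omega
      rw [this, pow_zero, orderOf_eq_one_iff] at hj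
      exact hw1' hj
    have hzord := orderOf_pow_pred hj hj1
    have hzmem : w ^ 2 ^ (j - 1) ∈ commutator G ⊓ center G := pow_mem hw _
    set z := w ^ 2 ^ (j - 1) with hz
    have hzc : z ∈ center G := (mem_inf.1 hzmem).2
    have hzG' : z ∈ commutator G := (mem_inf.1 hzmem).1
    have hz1 : z ≠ 1 := by
      intro h
      rw [h, orderOf_one] at hzord
      omega
    have hz2 : z ^ 2 = 1 := by rw [← hzord, pow_orderOf_eq_one]
    let N : Subgroup G := zpowers z
    have hNc : N ≤ center G := zpowers_le.2 hzc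
    have hNn : N.Normal := by
      constructor
      intro x hx g
      have : g * x * g⁻¹ = x := by
        rw [mem_center_iff.1 (hNc hx) g]; group
      rw [this]; exact hx
    have hNcard : Nat.card N = 2 := by rw [Nat.card_zpowers, hzord]
    have hNsq : ∀ x ∈ N, x ^ 2 = 1 := by
      intro x hx
      obtain ⟨k, rfl⟩ := mem_zpowers_iff.1 hx
      rw [← zpow_natCast, ← zpow_mul, mul_comm, zpow_mul, zpow_natCast, hz2, one_zpow]
    -- the quotient
    have hQcard : Nat.card (G ⧸ N) = 2 ^ (n + 3) := by
      have h := N.card_eq_card_quotient_mul_card_subgroup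
      rw [hcard, hNcard] at h
      have : 2 ^ (n + 1 + 3) = 2 ^ (n + 3) * 2 := by ring
      omega
    have hQidx : (commutator (G ⧸ N)).index = 4 := by
      have h1 : commutator (G ⧸ N) = (commutator G).map (QuotientGroup.mk' N) := by
        rw [_root_.commutator_def, _root_.commutator_def, Subgroup.map_commutator,
          Subgroup.map_top_of_surjective _ (QuotientGroup.mk'_surjective N)]
      rw [h1, index_map_eq (commutator G) (QuotientGroup.mk'_surjective N)
        (by rw [QuotientGroup.ker_mk']; exact zpowers_le.2 hzG')]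
      exact hidx
    obtain ⟨abar, habar⟩ := ih (G ⧸ N) hQcard hQidx
    obtain ⟨a, rfl⟩ := QuotientGroup.mk'_surjective N abar
    by_cases hcase : a ^ 2 ^ (n + 2) = 1
    · exfalso
      have hao : orderOf a = 2 ^ (n + 2) := by
        apply Nat.dvd_antisymm (orderOf_dvd_of_pow_eq_one hcase)
        rw [← habar]
        exact orderOf_map_dvd _ a
      -- z ∉ ⟨a⟩
      have hza : z ∉ zpowers a := by
        intro h
        obtain ⟨k, hk⟩ := mem_zpowers_iff.1 h
        have h1 : (QuotientGroup.mk' N a) ^ k = 1 := by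
          rw [← map_zpow, hk]
          exact (QuotientGroup.eq_one_iff z).2 (mem_zpowers z)
        have h2 := orderOf_dvd_iff_zpow_eq_one.2 h1
        rw [habar, ← hao] at h2
        have h3 := orderOf_dvd_iff_zpow_eq_one.1 h2
        rw [hk] at h3
        exact hz1 h3
      have heord := orderOf_pow_pred hao (by omega : 1 ≤ n + 2)
      have he1 : a ^ 2 ^ (n + 2 - 1) ≠ 1 := by
        intro h
        rw [h, orderOf_one] at heord
        omega
      have hez : a ^ 2 ^ (n + 2 - 1) ≠ z := by
        intro h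
        apply hza
        rw [← h]
        exact pow_mem (mem_zpowers a) _
      set e := a ^ 2 ^ (n + 2 - 1) with he
      -- M
      let M : Subgroup G := (zpowers (QuotientGroup.mk' N a)).comap (QuotientGroup.mk' N)
      have hMidx : M.index = 2 := by
        rw [index_comap_of_surjective _ (QuotientGroup.mk'_surjective N)]
        have h := (zpowers (QuotientGroup.mk' N a)).card_mul_index
        rw [Nat.card_zpowers, habar, hQcard] at h
        have : 2 ^ (n + 3) = 2 ^ (n + 2) * 2 := by ring
        rw [this] at h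
        exact Nat.eq_of_mul_eq_mul_left (by positivity) h
      have hMn : M.Normal := normal_of_index_eq_two hMidx
      have haM : a ∈ M := mem_zpowers _
      have hform : ∀ x ∈ M, ∃ i : ℤ, ∃ v ∈ N, x = a ^ i * v := by
        intro x hx
        obtain ⟨i, hi⟩ := mem_zpowers_iff.1 (show QuotientGroup.mk' N x ∈ zpowers (QuotientGroup.mk' N a) from hx)
        refine ⟨i, (a ^ i)⁻¹ * x, ?_, by group⟩
        rw [← QuotientGroup.eq_one_iff]
        have : (QuotientGroup.mk ((a ^ i)⁻¹ * x) : G ⧸ N) =
            ((QuotientGroup.mk' N a) ^ i)⁻¹ * QuotientGroup.mk' N x := by simp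
        rw [this, hi]; group
      have hMc : ∀ x ∈ M, ∀ y ∈ M, x * y = y * x := by
        intro x hx y hy
        obtain ⟨i, v, hv, rfl⟩ := hform x hx
        obtain ⟨k, v', hv', rfl⟩ := hform y hy
        have hvc : ∀ t : G, t * v = v * t := fun t => mem_center_iff.1 (hNc hv) t
        have hvc' : ∀ t : G, t * v' = v' * t := fun t => mem_center_iff.1 (hNc hv') t
        calc a ^ i * v * (a ^ k * v') = a ^ i * (v * a ^ k) * v' := by group
          _ = a ^ i * (a ^ k * v) * v' := by rw [hvc]
          _ = (a ^ i * a ^ k) * (v * v') := by group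
          _ = (a ^ k * a ^ i) * (v' * v) := by rw [← zpow_add, add_comm, zpow_add, hvc' v]
          _ = a ^ k * (a ^ i * v') * v := by group
          _ = a ^ k * (v' * a ^ i) * v := by rw [hvc']
          _ = a ^ k * v' * (a ^ i * v) := by group
      have hMcard : Nat.card M = 2 ^ (n + 3) := by
        have h := M.card_mul_index
        rw [hMidx, hcard] at h
        have : 2 ^ (n + 1 + 3) = 2 ^ (n + 3) * 2 := by ring
        omega
      have hG'card : Nat.card (commutator G) = 2 ^ (n + 2) := by
        have h := (commutator G).card_mul_index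
        rw [hidx, hcard] at h
        have : 2 ^ (n + 1 + 3) = 2 ^ (n + 2) * 4 := by ring
        omega
      have hformula := card_eq_card_center_mul_card_commutator M hMidx hMc hnc
      rw [hMcard, hG'card] at hformula
      have hZcard : Nat.card (center G) = 2 := by
        have : 2 ^ (n + 3) = 2 * 2 ^ (n + 2) := by ring
        rw [this] at hformula
        exact (Nat.eq_of_mul_eq_mul_right (by positivity) hformula).symm
      -- e is central
      have hec : e ∈ center G := by
        rw [mem_center_iff]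
        intro g
        obtain ⟨i, v, hv, hgi⟩ := hform (g * a * g⁻¹) (hMn.conj_mem a haM g)
        have hvc : Commute (a ^ i) v := (mem_center_iff.1 (hNc hv) (a ^ i))
        have h1 : g * e * g⁻¹ = e ^ i := by
          rw [he, ← conj_pow, hgi, hvc.mul_pow]
          have h2 : v ^ 2 ^ (n + 2 - 1) = 1 := by
            have : 2 ^ (n + 2 - 1) = 2 * 2 ^ n := by
              rw [show n + 2 - 1 = n + 1 by omega, pow_succ]; ring
            rw [this, pow_mul, hNsq v hv, one_pow]
          rw [h2, mul_one, ← zpow_natCast, ← zpow_mul, mul_comm, zpow_mul, zpow_natCast]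
        have h3 : e ^ i = 1 ∨ e ^ i = e := by
          have h4 := zpow_mod_orderOf e i
          rw [heord] at h4
          rcases Int.emod_two_eq_zero_or_one i with h5 | h5
          · left; rw [← h4]; simp [h5]
          · right; rw [← h4]; simp [h5]
        rcases h3 with h3 | h3
        · exfalso
          rw [h3] at h1
          apply he1
          have : e = g⁻¹ * (g * e * g⁻¹) * g := by group
          rw [this, h1]; group
        · rw [h3] at h1
          calc g * e = (g * e * g⁻¹) * g := by group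
            _ = e * g := by rw [h1]
      rcases two_group_sub_eq (center G) hZcard z hzc hz1 e hec with h | h
      · exact he1 h
      · exact hez h
    · refine ⟨a, ?_⟩
      have haN : a ^ 2 ^ (n + 2) ∈ N := by
        rw [← QuotientGroup.eq_one_iff]
        have h : (QuotientGroup.mk' N a) ^ 2 ^ (n + 2) = 1 := by
          rw [← habar, pow_orderOf_eq_one]
        exact h
      have h2 : a ^ 2 ^ (n + 1 + 2) = 1 := by
        rw [show n + 1 + 2 = (n + 2) + 1 by ring, pow_succ, pow_mul]
        exact hNsq _ haN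
      exact orderOf_eq_prime_pow hcase h2

/-- **Taussky**: a group of order `2 ^ n`, `n ≥ 3`, whose commutator subgroup has index 4, has an element of
order `2 ^ (n - 1)`. -/
theorem taussky {G : Type u} [Group G] [Finite G] (n : ℕ) (hn : 3 ≤ n) (hG : Nat.card G = 2 ^ n)
    (hidx : (commutator G).index = 4) : ∃ a : G, orderOf a = 2 ^ (n - 1) := by
  obtain ⟨m, rfl⟩ : ∃ m, n = m + 3 := ⟨n - 3, by omega⟩
  exact taussky_aux m G hG hidx

end Taussky

end Cfsg.Agent.Helper73
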