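import Mathlib

/-!
# Piece (T1) of helper54's S0679 farm (transitive groups of degree 11)

A 2-transitive group on 11 points moves a 4-set `Γ` onto a set meeting `Γ` in exactly one point.
-/

set_option autoImplicit false

namespace Cfsg.Agent.Helper73.D11

open Equiv MulAction

variable {α : Type*} [Fintype α] [DecidableEq α]

/-- (T1) -/
theorem exists_inter_card_one (hα : Fintype.card α = 11) (G : Subgroup (Perm α))
    (h2 : IsMultiplyPretransitive G α 2) (Γ : Finset α) (hΓ : Γ.card = 4) :
    ∃ g : Perm α, g ∈ G ∧ (Γ ∩ Γ.image g).card = 1 := by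
  classical
  rw [MulAction.is_two_pretransitive_iff] at h2
  have h2' : ∀ {a b c d : α}, a ≠ b → c ≠ d → ∃ g : Perm α, g ∈ G ∧ g a = c ∧ g b = d := by
    intro a b c d hab hcd
    obtain ⟨g, h1, h2⟩ := h2 hab hcd
    exact ⟨g.1, g.2, h1, h2⟩
  obtain ⟨a, haΓ⟩ : ∃ a, a ∈ Γ := by
    apply Finset.card_pos.mp; omega
  set B : Finset α := Γ.erase a with hB
  have hBcard : B.card = 3 := by
    rw [hB, Finset.card_erase_of_mem haΓ, hΓ]
  -- the stabilizer of `a` in `G`, as a finset
  set S : Finset (Perm α) := Finset.univ.filter (fun g : Perm α => g ∈ G ∧ g a = a) with hS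
  have hSmem : ∀ g : Perm α, g ∈ S ↔ g ∈ G ∧ g a = a := by
    intro g; simp [hS]
  have h1S : (1 : Perm α) ∈ S := (hSmem 1).mpr ⟨G.one_mem, rfl⟩
  -- the fibres
  have hfib : ∀ u v w : α, v ≠ a → w ≠ a →
      (S.filter (fun g => g u = v)).card ≤ (S.filter (fun g => g u = w)).card := by
    intro u v w hv hw
    obtain ⟨h, hhG, hha, hhv⟩ := h2' (a := a) (b := v) (c := a) (d := w) (Ne.symm hv) (Ne.symm hw)
    apply Finset.card_le_card_of_injOn (fun g => h * g)
    · intro g hg
      rw [Finset.mem_coe, Finset.mem_filter, hSmem] at hg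
      rw [Finset.mem_coe, Finset.mem_filter, hSmem]
      refine ⟨⟨G.mul_mem hhG hg.1.1, ?_⟩, ?_⟩
      · rw [Perm.mul_apply, hg.1.2, hha]
      · rw [Perm.mul_apply, hg.2, hhv]
    · intro g _ g' _ hgg'
      exact mul_left_cancel hgg'
  -- `|S| = 10 |S_{u,v}|`
  have hten : ∀ u v : α, u ≠ a → v ≠ a → 10 * (S.filter (fun g => g u = v)).card = S.card := by
    intro u v hu hv
    have hunion : S = (Finset.univ.erase a).biUnion (fun w => S.filter (fun g => g u = w)) := by
      ext g
      simp only [Finset.mem_biUnion, Finset.mem_erase, Finset.mem_univ, and_true,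
        Finset.mem_filter]
      constructor
      · intro hg
        refine ⟨g u, ?_, hg, rfl⟩
        intro hgu
        have hga := ((hSmem g).mp hg).2
        exact hu (g.injective (hgu.trans hga.symm))
      · rintro ⟨w, -, hg, -⟩
        exact hg
    have hcard : S.card = ∑ w ∈ Finset.univ.erase a, (S.filter (fun g => g u = w)).card := by
      conv_lhs => rw [hunion]
      apply Finset.card_biUnion
      intro w _ w' _ hww'
      rw [Function.onFun, Finset.disjoint_left]
      intro g hg hg'
      rw [Finset.mem_filter] at hg hg'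
      exact hww' (hg.2.symm.trans hg'.2)
    have hconst : ∀ w ∈ Finset.univ.erase a,
        (S.filter (fun g => g u = w)).card = (S.filter (fun g => g u = v)).card := by
      intro w hw
      have hw' : w ≠ a := (Finset.mem_erase.mp hw).1
      exact le_antisymm (hfib u w v hw' hv) (hfib u v w hv hw')
    rw [hcard, Finset.sum_congr rfl hconst, Finset.sum_const, Finset.card_erase_of_mem
      (Finset.mem_univ a), Finset.card_univ, hα]
    simp
  -- some element of `S` moves `B` off itself
  obtain ⟨g, hgS, hgB⟩ : ∃ g ∈ S, ∀ u ∈ B, g u ∉ B := by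
    by_contra hcon
    push Not at hcon
    have hsub : S ⊆ B.biUnion (fun u => B.biUnion (fun v => S.filter (fun g => g u = v))) := by
      intro g hg
      obtain ⟨u, hu, hgu⟩ := hcon g hg
      simp only [Finset.mem_biUnion, Finset.mem_filter]
      exact ⟨u, hu, g u, hgu, hg, rfl⟩
    have hle : 10 * S.card ≤ 9 * S.card := by
      calc 10 * S.card
          ≤ 10 * (B.biUnion (fun u => B.biUnion (fun v => S.filter (fun g => g u = v)))).card :=
            Nat.mul_le_mul_left _ (Finset.card_le_card hsub)
        _ ≤ 10 * ∑ u ∈ B, ∑ v ∈ B, (S.filter (fun g => g u = v)).card := by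
            apply Nat.mul_le_mul_left
            refine le_trans Finset.card_biUnion_le ?_
            apply Finset.sum_le_sum
            intro u _
            exact Finset.card_biUnion_le
        _ = ∑ u ∈ B, ∑ v ∈ B, 10 * (S.filter (fun g => g u = v)).card := by
            rw [Finset.mul_sum]
            apply Finset.sum_congr rfl
            intro u _
            rw [Finset.mul_sum]
        _ = ∑ u ∈ B, ∑ v ∈ B, S.card := by
            apply Finset.sum_congr rfl
            intro u hu
            apply Finset.sum_congr rfl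
            intro v hv
            exact hten u v (Finset.ne_of_mem_erase hu) (Finset.ne_of_mem_erase hv)
        _ = 9 * S.card := by
            simp only [Finset.sum_const, hBcard, smul_eq_mul]
            ring
    have hpos : 0 < S.card := Finset.card_pos.mpr ⟨1, h1S⟩
    omega
  obtain ⟨hgG, hga⟩ := (hSmem g).mp hgS
  refine ⟨g, hgG, ?_⟩
  have hinter : Γ ∩ Γ.image g = {a} := by
    ext y
    simp only [Finset.mem_inter, Finset.mem_image, Finset.mem_singleton]
    constructor
    · rintro ⟨hyΓ, z, hzΓ, rfl⟩
      by_contra hne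
      have hza : z ≠ a := by
        intro hza
        apply hne
        rw [hza, hga]
      have hzB : z ∈ B := Finset.mem_erase.mpr ⟨hza, hzΓ⟩
      exact hgB z hzB (Finset.mem_erase.mpr ⟨hne, hyΓ⟩)
    · rintro rfl
      exact ⟨haΓ, y, haΓ, hga⟩
  rw [hinter, Finset.card_singleton]

end Cfsg.Agent.Helper73.D11
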