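import Mathlib

/-!
# (E) for helper6 (S2343): a representation of a simple group with a nontrivial kernel element is
trivial; a trivial representation of degree `≥ 2` is not irreducible
-/

set_option autoImplicit false

namespace Cfsg.Agent.Helper73.ReeH

theorem rho_eq_one_of_simple {G : Type*} [Group G] [IsSimpleGroup G] {V : Type*} [AddCommGroup V]
    [Module ℂ V] (ρ : Representation ℂ G V) (z : G) (hz : z ≠ 1) (h : ρ z = 1) (g : G) :
    ρ g = 1 := by
  have hzk : z ∈ (ρ : G →* Module.End ℂ V).ker := h
  rcases (inferInstance : (ρ : G →* Module.End ℂ V).ker.Normal).eq_bot_or_eq_top with hb | ht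
  · rw [hb, Subgroup.mem_bot] at hzk
    exact absurd hzk hz
  · have : g ∈ (ρ : G →* Module.End ℂ V).ker := by
      rw [ht]
      exact Subgroup.mem_top g
    exact this

theorem not_irreducible_of_trivial {G : Type*} [Group G] {k : ℕ}
    (ρ : Representation ℂ G (Fin k → ℂ)) (h : ∀ g, ρ g = 1) (hk : 2 ≤ k) : ¬ ρ.IsIrreducible := by
  intro hirr
  have h0 : 0 < k := by omega
  have h1 : 1 < k := by omega
  let e0 : Fin k → ℂ := Pi.single ⟨0, h0⟩ 1
  let W : Subrepresentation ρ :=
    { toSubmodule := Submodule.span ℂ {e0}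
      apply_mem_toSubmodule := by
        intro g v hv
        rw [h g]
        exact hv }
  have hW : W.toSubmodule = Submodule.span ℂ {e0} := rfl
  have he0 : e0 ∈ W.toSubmodule := Submodule.subset_span rfl
  rcases hirr.eq_bot_or_eq_top W with hb | ht
  · have : e0 ∈ (⊥ : Subrepresentation ρ).toSubmodule := hb ▸ he0
    have h2 : e0 = 0 := this
    have := congrFun h2 ⟨0, h0⟩
    simp [e0] at this
  · have : (Pi.single ⟨1, h1⟩ 1 : Fin k → ℂ) ∈ (⊤ : Subrepresentation ρ).toSubmodule :=
      Submodule.mem_top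
    rw [← ht, hW, Submodule.mem_span_singleton] at this
    obtain ⟨c, hc⟩ := this
    have hc1 := congrFun hc ⟨1, h1⟩
    have hne : (⟨1, h1⟩ : Fin k) ≠ ⟨0, h0⟩ := by
      intro hh
      have := congrArg Fin.val hh
      simp at this
    simp [e0, hne] at hc1

end Cfsg.Agent.Helper73.ReeH
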