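import Cfsg.Agent.Helper73.SPAux

/-!
# (A3c) of helper6's Landazuri–Seitz plan for `Sp_{2n}(q)` (S2347)

If the root groups of the vectors of `⟨u, u'⟩^⊥ ∩ W` fix `fixZ u` pointwise, then all the
`fixZ p` (`p` non-zero in `W`) coincide.  Port of `Cfsg/Agent/Helper12/SUA3c.lean`.
-/

set_option autoImplicit false

namespace Cfsg.Agent.Helper73.SPrep

open Matrix Cfsg.Agent.Helper13 Cfsg.Agent.Helper5 Cfsg.Agent.Helper6.SPrep Module

variable {F : Type*} [Field F] {m : ℕ}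

local notation "Vec" => (Fin m ⊕ Fin m → F)
local notation "⟪" x ", " y "⟫" => Cfsg.sympForm m F x y

variable {M : Type*} [AddCommGroup M] [Module ℂ M]

/-- `x` is fixed by the root group of `p ∈ W` -/
def InFix (W : Submodule F (Fin m ⊕ Fin m → F)) (ρ : Representation ℂ ↥(spW W) M) (p : Vec)
    (x : M) : Prop :=
  ∃ hp : p ∈ W, x ∈ fixZ W ρ p hp

theorem inFix_iff {W : Submodule F (Fin m ⊕ Fin m → F)} (ρ : Representation ℂ ↥(spW W) M)
    {p : Vec} (hp : p ∈ W) (x : M) : InFix W ρ p x ↔ x ∈ fixZ W ρ p hp :=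
  ⟨fun ⟨_, h⟩ => h, fun h => ⟨hp, h⟩⟩

theorem inFix_map {W : Submodule F (Fin m ⊕ Fin m → F)} (ρ : Representation ℂ ↥(spW W) M)
    (g : spW W) {p : Vec} {x : M} (h : InFix W ρ p x) :
    InFix W ρ (spMat g *ᵥ p) (ρ g x) := by
  obtain ⟨hp, hx⟩ := h
  exact ⟨_, map_fixZ' ρ g p hp x hx⟩

theorem rho_inv_apply {W : Submodule F (Fin m ⊕ Fin m → F)} (ρ : Representation ℂ ↥(spW W) M)
    (g : spW W) (x : M) : ρ g (ρ g⁻¹ x) = x := by
  rw [← Module.End.mul_apply, ← map_mul, mul_inv_cancel, map_one, Module.End.one_apply]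

/-- moving the pair `(p, x)` by `g⁻¹` and back -/
theorem inFix_of_map_inv {W : Submodule F (Fin m ⊕ Fin m → F)}
    (ρ : Representation ℂ ↥(spW W) M) (g : spW W) {p : Vec} {x : M}
    (h : InFix W ρ (spMat g⁻¹ *ᵥ p) (ρ g⁻¹ x)) : InFix W ρ p x := by
  have := inFix_map ρ g h
  rwa [spMat_mulVec_inv, rho_inv_apply] at this

theorem inFix_smul {W : Submodule F (Fin m ⊕ Fin m → F)} (ρ : Representation ℂ ↥(spW W) M)
    {p : Vec} {a : F} (ha : a ≠ 0) (x : M) : InFix W ρ (a • p) x ↔ InFix W ρ p x := by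
  constructor
  · rintro ⟨hap, hx⟩
    have hp : p ∈ W := by
      have := W.smul_mem a⁻¹ hap
      rwa [smul_smul, inv_mul_cancel₀ ha, one_smul] at this
    refine ⟨hp, ?_⟩
    rw [← fixZ_smul' ρ p hp a ha]
    exact hx
  · rintro ⟨hp, hx⟩
    refine ⟨W.smul_mem a hp, ?_⟩
    rw [fixZ_smul' ρ p hp a ha]
    exact hx

section main

/-- Step 1a: a vector orthogonal to `u` and not on the line of `u` -/
theorem inFix_of_perp_u {W : Submodule F (Fin m ⊕ Fin m → F)} (hW : RelNondeg W)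
    (ρ : Representation ℂ ↥(spW W) M) {u u' : Vec} (hu : u ∈ W) (hu' : u' ∈ W)
    (huu' : ⟪u, u'⟫ = 1)
    (Hu : ∀ v ∈ hypCompl W u u', ∀ x, InFix W ρ u x → InFix W ρ v x)
    {p : Vec} (hp : p ∈ W) (hpu : ⟪p, u⟫ = 0) (hne : p - ⟪p, u'⟫ • u ≠ 0) {x : M}
    (hx : InFix W ρ u x) : InFix W ρ p x := by
  set a := ⟪p, u'⟫ with ha
  set y : Vec := p - a • u with hy
  have hyW' : y ∈ hypCompl W u u' := by
    refine ⟨W.sub_mem hp (W.smul_mem _ hu), ?_, ?_⟩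
    · rw [hy, sympForm_sub_left, sympForm_smul_left, sympForm_self, hpu]
      ring
    · rw [hy, sympForm_sub_left, sympForm_smul_left, huu']
      ring
  have hdec : p = y + a • u := by rw [hy]; abel
  have hyu : ⟪y, u⟫ = 0 := hyW'.2.1
  -- `y₁` with `⟪y, y₁⟫ = a`
  have hnd := relNondeg_hypCompl' hW u u' hu hu' huu'
  obtain ⟨y₁, hy₁, hyy₁⟩ := exists_sympForm_eq hnd hyW' hne a
  have hy₁u : ⟪y₁, u⟫ = 0 := hy₁.2.1
  set e : spW W := eiW W u y₁ hu hy₁.1 0 with he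
  have heu : spMat e *ᵥ u = u := eiW_fix_u W u y₁ hu hy₁.1 hy₁u 0
  have hey : spMat e *ᵥ y = p := by
    rw [he, spMat_eiW_mulVec' W u y₁ hu hy₁.1 hy₁u, hyu, hyy₁, hdec]
    simp
  -- move `x` by `e⁻¹`
  have heinvu : spMat e⁻¹ *ᵥ u = u := by
    have := spMat_inv_mulVec e u
    rwa [heu] at this
  have h1 : InFix W ρ u (ρ e⁻¹ x) := by
    have := inFix_map ρ e⁻¹ hx
    rwa [heinvu] at this
  have h2 : InFix W ρ y (ρ e⁻¹ x) := Hu y hyW' _ h1
  have h3 := inFix_map ρ e h2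
  rwa [hey, rho_inv_apply] at h3

/-- Step 1: orthogonal independent vectors -/
theorem inFix_of_perp {W : Submodule F (Fin m ⊕ Fin m → F)} (hW : RelNondeg W)
    (ρ : Representation ℂ ↥(spW W) M) {u u' : Vec} (hu : u ∈ W) (hu' : u' ∈ W)
    (huu' : ⟪u, u'⟫ = 1)
    (Hu : ∀ v ∈ hypCompl W u u', ∀ x, InFix W ρ u x → InFix W ρ v x)
    {p p' : Vec} (hp : p ∈ W) (hp0 : p ≠ 0) (hp' : p' ∈ W) (hp'p : ⟪p', p⟫ = 0)
    (hind : ∀ c : F, p' ≠ c • p) {x : M} (hx : InFix W ρ p x) : InFix W ρ p' x := by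
  have hu0 : u ≠ 0 := by
    rintro rfl
    rw [sympForm_zero_left] at huu'
    exact zero_ne_one huu'
  obtain ⟨g, hg⟩ := exists_spW_map hW hu hp hu0 hp0
  have hginvp : spMat g⁻¹ *ᵥ p = u := by
    rw [← hg]; exact spMat_inv_mulVec g u
  set p'' : Vec := spMat g⁻¹ *ᵥ p' with hp''
  have hp''W : p'' ∈ W := spMat_mulVec_mem g⁻¹ hp'
  have hp''u : ⟪p'', u⟫ = 0 := by
    rw [← hginvp, hp'', sympForm_spMat, hp'p]
  have hgp'' : spMat g *ᵥ p'' = p' := spMat_mulVec_inv g p'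
  have hne : p'' - ⟪p'', u'⟫ • u ≠ 0 := by
    intro h0
    apply hind ⟪p'', u'⟫
    have h1 : p'' = ⟪p'', u'⟫ • u := sub_eq_zero.mp h0
    rw [← hgp'', ← hg, ← Matrix.mulVec_smul, ← h1]
  have h1 : InFix W ρ u (ρ g⁻¹ x) := by
    have := inFix_map ρ g⁻¹ hx
    rwa [hginvp] at this
  have h2 := inFix_of_perp_u hW ρ hu hu' huu' Hu hp''W hp''u hne h1
  exact inFix_of_map_inv ρ g h2

/-- a non-zero vector of `W` orthogonal to two given vectors, when `4 ≤ finrank W` -/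
theorem exists_ne_zero_perp_two [FiniteDimensional F (Fin m ⊕ Fin m → F)]
    {W : Submodule F (Fin m ⊕ Fin m → F)} (hk : 4 ≤ finrank F W) (p p'' : Vec) :
    ∃ r ∈ W, r ≠ 0 ∧ ⟪r, p⟫ = 0 ∧ ⟪r, p''⟫ = 0 := by
  let f : W →ₗ[F] (F × F) :=
    { toFun := fun w => (⟪(w : Vec), p⟫, ⟪(w : Vec), p''⟫)
      map_add' := by
        intro a b
        simp only [Submodule.coe_add, sympForm_add_left, Prod.mk_add_mk]
      map_smul' := by
        intro c a
        simp only [Submodule.coe_smul, sympForm_smul_left, RingHom.id_apply, Prod.smul_mk,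
          smul_eq_mul] }
  have hlt : finrank F (F × F) < finrank F W := by
    rw [Module.finrank_prod, Module.finrank_self]
    omega
  have hker : LinearMap.ker f ≠ ⊥ := LinearMap.ker_ne_bot_of_finrank_lt hlt
  obtain ⟨w, hw, hw0⟩ := (Submodule.ne_bot_iff _).mp hker
  have hfw : f w = 0 := hw
  have h1 : ⟪(w : Vec), p⟫ = 0 := congrArg Prod.fst hfw
  have h2 : ⟪(w : Vec), p''⟫ = 0 := congrArg Prod.snd hfw
  refine ⟨w, w.2, ?_, h1, h2⟩
  intro h
  exact hw0 (Subtype.ext h)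

/-- Step 2: vectors that are not orthogonal -/
theorem inFix_of_not_perp {W : Submodule F (Fin m ⊕ Fin m → F)} (hW : RelNondeg W)
    (hk : 4 ≤ finrank F W)
    (ρ : Representation ℂ ↥(spW W) M) {u u' : Vec} (hu : u ∈ W) (hu' : u' ∈ W)
    (huu' : ⟪u, u'⟫ = 1)
    (Hu : ∀ v ∈ hypCompl W u u', ∀ x, InFix W ρ u x → InFix W ρ v x)
    {p p' : Vec} (hp : p ∈ W) (hp' : p' ∈ W) (hpp' : ⟪p, p'⟫ ≠ 0) {x : M}
    (hx : InFix W ρ p x) : InFix W ρ p' x := by
  have hp0 : p ≠ 0 := by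
    rintro rfl
    exact hpp' (sympForm_zero_left p')
  set c : F := (⟪p, p'⟫)⁻¹ with hc
  have hc0 : c ≠ 0 := inv_ne_zero hpp'
  set p'' : Vec := c • p' with hp''
  have hp''W : p'' ∈ W := W.smul_mem c hp'
  have hpp'' : ⟪p, p''⟫ = 1 := by
    rw [hp'', sympForm_smul_right, hc, inv_mul_cancel₀ hpp']
  have hp''p : ⟪p'', p⟫ = -1 := by rw [sympForm_swap, hpp'']
  obtain ⟨r, hrW, hr0, hrp, hrp''⟩ := exists_ne_zero_perp_two hk p p''
  have hp''r : ⟪p'', r⟫ = 0 := by rw [sympForm_swap, hrp'', neg_zero]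
  -- `p → r`
  have h1 : InFix W ρ r x := by
    refine inFix_of_perp hW ρ hu hu' huu' Hu hp hp0 hrW hrp ?_ hx
    intro d hd
    rw [hd, sympForm_smul_left, hpp'', mul_one] at hrp''
    rw [hrp'', zero_smul] at hd
    exact hr0 hd
  -- `r → p''`
  have h2 : InFix W ρ p'' x := by
    refine inFix_of_perp hW ρ hu hu' huu' Hu hrW hr0 hp''W hp''r ?_ h1
    intro d hd
    have h3 := hp''p
    rw [hd, sympForm_smul_left, hrp, mul_zero] at h3
    exact (neg_ne_zero.mpr one_ne_zero) h3.symm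
  exact (inFix_smul ρ hc0 x).mp h2

/-- all the fixed spaces coincide -/
theorem inFix_of_inFix {W : Submodule F (Fin m ⊕ Fin m → F)} (hW : RelNondeg W)
    (hk : 4 ≤ finrank F W)
    (ρ : Representation ℂ ↥(spW W) M) {u u' : Vec} (hu : u ∈ W) (hu' : u' ∈ W)
    (huu' : ⟪u, u'⟫ = 1)
    (Hu : ∀ v ∈ hypCompl W u u', ∀ x, InFix W ρ u x → InFix W ρ v x)
    {p p' : Vec} (hp : p ∈ W) (hp0 : p ≠ 0) (hp' : p' ∈ W) (hp'0 : p' ≠ 0) {x : M}
    (hx : InFix W ρ p x) : InFix W ρ p' x := by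
  by_cases hdep : ∃ d : F, p' = d • p
  · obtain ⟨d, rfl⟩ := hdep
    have hd0 : d ≠ 0 := by
      rintro rfl
      exact hp'0 (zero_smul F p)
    exact (inFix_smul ρ hd0 x).mpr hx
  · push Not at hdep
    by_cases hperp : ⟪p', p⟫ = 0
    · exact inFix_of_perp hW ρ hu hu' huu' Hu hp hp0 hp' hperp hdep hx
    · have hpp' : ⟪p, p'⟫ ≠ 0 := by
        intro h
        apply hperp
        rw [sympForm_swap, h, neg_zero]
      exact inFix_of_not_perp hW hk ρ hu hu' huu' Hu hp hp' hpp' hx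

end main

/-- (A3c) if the transvections of `⟨u, u'⟩^⊥ ∩ W` fix `fixZ u` pointwise, then all the
`fixZ p` coincide -/
theorem fixZ_eq_of_le [FiniteDimensional ℂ M] {W : Submodule F (Fin m ⊕ Fin m → F)}
    (hW : RelNondeg W) (hk : 4 ≤ finrank F W) (ρ : Representation ℂ ↥(spW W) M)
    (u u' : Vec) (hu : u ∈ W) (hu' : u' ∈ W) (huu' : ⟪u, u'⟫ = 1)
    (H : ∀ (v : Vec) (hv : v ∈ hypCompl W u u'),
      fixZ W ρ u hu ≤ fixZ W ρ v (hypCompl_le W u u' hv))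
    (p : Vec) (hp : p ∈ W) (hp0 : p ≠ 0) :
    fixZ W ρ p hp = fixZ W ρ u hu := by
  have hu0 : u ≠ 0 := by
    rintro rfl
    rw [sympForm_zero_left] at huu'
    exact zero_ne_one huu'
  have Hu : ∀ v ∈ hypCompl W u u', ∀ x, InFix W ρ u x → InFix W ρ v x := by
    intro v hv x hx
    exact ⟨hypCompl_le W u u' hv, H v hv ((inFix_iff ρ hu x).mp hx)⟩
  ext x
  rw [← inFix_iff ρ hp x, ← inFix_iff ρ hu x]
  constructor
  · exact inFix_of_inFix hW hk ρ hu hu' huu' Hu hp hp0 hu hu0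
  · exact inFix_of_inFix hW hk ρ hu hu' huu' Hu hu hu0 hp hp0

end Cfsg.Agent.Helper73.SPrep
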