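import Mathlib
import Cfsg.Agent.Helper61.W2pDefs
import Cfsg.Agent.Helper80.CharBasic
import Cfsg.Agent.Helper82.GaloisConj

/-!
# (B1) for S0720 (helper61): the constituent `θ` of the permutation character containing the second
trivial constituent of `π` restricted to a subgroup of order `p`
-/

set_option autoImplicit false
set_option linter.unusedSectionVars false
set_option linter.style.haveILetI false

namespace Cfsg.Agent.Helper73.W2p

open Cfsg Cfsg.Agent.Helper61.W2p
open scoped ComplexConjugate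

/-- the sum of the powers of a `p`-th root of unity -/
theorem sum_pow_root {p : ℕ} (μ : ℂ) (hμ : μ ^ p = 1) :
    (∑ k ∈ Finset.range p, μ ^ k) = if μ = 1 then (p : ℂ) else 0 := by
  split_ifs with h
  · rw [h]; simp
  · rw [geom_sum_eq h, hμ, sub_self, zero_div]

section general

variable {G : Type*} [Group G] [Fintype G]

/-- the sum of a character over the powers of an element of order `p` is `p` times a natural
number -/
theorem exists_sum_range_eq {p : ℕ} (x : G) (hx : orderOf x = p) (χ : G → ℂ)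
    (hχ : IsIrrCharacter G χ) :
    ∃ m : ℕ, (∑ k ∈ Finset.range p, χ (x ^ k)) = (p : ℂ) * m := by
  classical
  obtain ⟨n, ρ, _, rfl⟩ := hχ
  obtain ⟨b, μ, -, h2, -, h4⟩ := Helper80.exists_eigen_data_rep ρ x (isOfFinOrder_of_finite x)
  rw [hx] at h2
  refine ⟨(Finset.univ.filter fun i => μ i = 1).card, ?_⟩
  simp only [h4]
  rw [Finset.sum_comm]
  simp only [sum_pow_root _ (h2 _)]
  rw [Finset.sum_ite, Finset.sum_const, Finset.sum_const_zero, add_zero, nsmul_eq_mul, mul_comm]

/-- summing over the powers of `x` commutes with a coprime power map -/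
theorem sum_range_pow_comp {p : ℕ} (x : G) (hx : orderOf x = p) (κ : ℕ)
    (hκ : κ.Coprime (Nat.card G)) (f : G → ℂ) :
    (∑ k ∈ Finset.range p, f ((x ^ k) ^ κ)) = ∑ k ∈ Finset.range p, f (x ^ k) := by
  classical
  set T : Finset G := (Finset.range p).image (fun k => x ^ k) with hT
  have hinj : Set.InjOn (fun k : ℕ => x ^ k) (Finset.range p : Set ℕ) := by
    have := pow_injOn_Iio_orderOf (x := x)
    rw [hx] at this
    intro a ha b hb hab
    exact this (by simpa using ha) (by simpa using hb) hab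
  have h1 : (∑ k ∈ Finset.range p, f ((x ^ k) ^ κ)) = ∑ g ∈ T, f (g ^ κ) := by
    rw [hT, Finset.sum_image hinj]
  have h2 : (∑ k ∈ Finset.range p, f (x ^ k)) = ∑ g ∈ T, f g := by
    rw [hT, Finset.sum_image hinj]
  rw [h1, h2]
  apply Helper82.sum_pow_coprime_eq T κ hκ
  intro g hg
  rw [hT, Finset.mem_image] at hg ⊢
  obtain ⟨k, _, rfl⟩ := hg
  have hp : 0 < p := by rw [← hx]; exact orderOf_pos x
  refine ⟨(k * κ) % p, Finset.mem_range.mpr (Nat.mod_lt _ hp), ?_⟩
  show x ^ ((k * κ) % p) = (x ^ k) ^ κ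
  rw [← hx, pow_mod_orderOf, pow_mul]

variable {Ω : Type*} [Fintype Ω] [MulAction G Ω]

/-- the permutation character is invariant under coprime power maps -/
theorem pc_pow' (κ : ℕ) (hκ : κ.Coprime (Nat.card G)) (g : G) :
    pc G Ω (g ^ κ) = pc G Ω g := by
  have hcop : κ.Coprime (orderOf g) := Nat.Coprime.coprime_dvd_right (orderOf_dvd_natCard g) hκ
  obtain ⟨m, hm⟩ := exists_pow_eq_self_of_coprime hcop
  have : MulAction.fixedBy Ω (g ^ κ) = MulAction.fixedBy Ω g := by
    ext a
    simp only [MulAction.mem_fixedBy]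
    constructor
    · intro h
      have h2 : ∀ j : ℕ, (g ^ κ) ^ j • a = a := by
        intro j
        induction j with
        | zero => simp
        | succ j ih => rw [pow_succ, mul_smul, h, ih]
      have := h2 m
      rwa [hm] at this
    · intro h
      have h2 : ∀ j : ℕ, g ^ j • a = a := by
        intro j
        induction j with
        | zero => simp
        | succ j ih => rw [pow_succ, mul_smul, h, ih]
      exact h2 κ
  show ((Nat.card (MulAction.fixedBy Ω (g ^ κ)) : ℕ) : ℂ) = (Nat.card (MulAction.fixedBy Ω g) : ℂ)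
  rw [this]

/-- multiplicities in the permutation character are invariant under coprime power maps -/
theorem classInner_pc_pow' (κ : ℕ) (hκ : κ.Coprime (Nat.card G)) (χ : G → ℂ) :
    classInner (pc G Ω) (fun g => χ (g ^ κ)) = classInner (pc G Ω) χ := by
  classical
  unfold classInner
  congr 1
  have h1 : (∑ g : G, pc G Ω g * conj (χ (g ^ κ))) =
      ∑ g : G, (fun h : G => pc G Ω h * conj (χ h)) (g ^ κ) := by
    refine Finset.sum_congr rfl fun g _ => ?_
    show pc G Ω g * conj (χ (g ^ κ)) = pc G Ω (g ^ κ) * conj (χ (g ^ κ))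
    rw [pc_pow' κ hκ g]
  rw [h1]
  exact Helper82.sum_pow_coprime_eq Finset.univ κ hκ (fun g _ => Finset.mem_univ _)
    (fun h : G => pc G Ω h * conj (χ h))

end general

section main

variable {G : Type*} [Group G] [Fintype G] {Ω : Type*} [Fintype Ω] [MulAction G Ω] {p : ℕ}

/-- the sum of the permutation character over `⟨x⟩` -/
theorem sum_range_pc (S : Setup G Ω p) (x : G) (hx : orderOf x = p) :
    (∑ k ∈ Finset.range p, pc G Ω (x ^ k)) = 2 * (p : ℂ) := by
  have hp := S.hp
  obtain ⟨n, rfl⟩ : ∃ n, p = n + 1 := ⟨p - 1, by have := hp.pos; omega⟩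
  rw [Finset.sum_range_succ', pow_zero]
  have h0 : ∀ k ∈ Finset.range n, pc G Ω (x ^ (k + 1)) = 0 := by
    intro k hk
    have hk' := Finset.mem_range.mp hk
    have hcop : (orderOf x).Coprime (k + 1) := by
      rw [hx]
      apply (Nat.Prime.coprime_iff_not_dvd hp).2
      intro hdvd
      have := Nat.le_of_dvd (Nat.succ_pos k) hdvd
      omega
    have hord : orderOf (x ^ (k + 1)) = n + 1 := by rw [hcop.orderOf_pow, hx]
    have hemp : MulAction.fixedBy Ω (x ^ (k + 1)) = ∅ := by
      ext a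
      simp only [MulAction.mem_fixedBy, Set.mem_empty_iff_false, iff_false]
      exact S.hfix (x ^ (k + 1)) (by rw [hord]) a
    show ((Nat.card (MulAction.fixedBy Ω (x ^ (k + 1))) : ℕ) : ℂ) = 0
    rw [hemp]
    simp
  rw [Finset.sum_congr rfl h0, Finset.sum_const_zero, zero_add]
  have h1 : pc G Ω (1 : G) = (Fintype.card Ω : ℂ) := Helper12.PermCharBasics.permChar_one
  rw [h1, S.hcard]
  push_cast
  ring

open Helper12.PermCharBasics in
/-- (B1) the constituent `θ` containing the second trivial constituent of `π|_P` -/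
theorem exists_theta (S : Setup G Ω p) (x : G) (hx : orderOf x = p) :
    ∃ θ : G → ℂ, IsIrrCharacter G θ ∧ θ ≠ (fun _ => 1) ∧ classInner (pc G Ω) θ = 1 ∧
      (∑ k ∈ Finset.range p, θ (x ^ k)) = p ∧
      (∀ χ : G → ℂ, IsIrrCharacter G χ → χ ≠ (fun _ => 1) → χ ≠ θ →
        classInner (pc G Ω) χ ≠ 0 → (∑ k ∈ Finset.range p, χ (x ^ k)) = 0) ∧
      (∀ κ : ℕ, κ.Coprime (Nat.card G) → ∀ g : G, θ (g ^ κ) = θ g) := by
  classical
  letI : Fintype (IrrCharacter G) := Helper74.irrFintype G
  have : MulAction.IsPretransitive G Ω := S.hprim.toIsPretransitive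
  have hp := S.hp
  have hpC : (p : ℂ) ≠ 0 := by exact_mod_cast hp.pos.ne'
  have hne : Nonempty Ω := by
    rw [← Fintype.card_pos_iff, S.hcard]
    have := hp.pos
    omega
  obtain ⟨a⟩ := hne
  -- the numbers `m ψ`
  choose m hmψ using fun ψ : IrrCharacter G => exists_sum_range_eq x hx (ψ : G → ℂ) ψ.2
  set t0 : IrrCharacter G := Helper74.irrTriv G with ht0
  have hm0 : m t0 = 1 := by
    have := hmψ t0
    simp only [ht0, Helper74.irrTriv_apply, Finset.sum_const, Finset.card_range, nsmul_eq_mul,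
      mul_one] at this
    have h2 : (p : ℂ) * 1 = (p : ℂ) * (m (Helper74.irrTriv G) : ℂ) := by rw [mul_one]; exact this
    have := mul_left_cancel₀ hpC h2
    exact_mod_cast this.symm
  -- decomposition of `π`
  have hdec : ∀ g : G, pc G Ω g = ∑ ψ : IrrCharacter G, (mult Ω ψ : ℂ) * (ψ : G → ℂ) g := by
    intro g
    have h := congrFun (Helper74.isCharacter_eq_sum_irr
      (permChar_isCharacter (G := G) (Ω := Ω))) g
    simp only [Finset.sum_apply, Pi.smul_apply, smul_eq_mul, mult_spec] at h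
    exact h
  have hsum2 : ∑ ψ : IrrCharacter G, mult Ω ψ * m ψ = 2 := by
    have h1 := sum_range_pc S x hx
    simp only [hdec] at h1
    rw [Finset.sum_comm] at h1
    have h2 : ∀ ψ : IrrCharacter G, (∑ k ∈ Finset.range p, (mult Ω ψ : ℂ) * (ψ : G → ℂ) (x ^ k)) =
        (p : ℂ) * ((mult Ω ψ * m ψ : ℕ) : ℂ) := by
      intro ψ
      rw [← Finset.mul_sum, hmψ ψ]
      push_cast
      ring
    simp only [h2] at h1
    rw [← Finset.mul_sum, mul_comm (2 : ℂ) (p : ℂ)] at h1
    have h3 := mul_left_cancel₀ hpC h1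
    have h4 : ((∑ ψ : IrrCharacter G, mult Ω ψ * m ψ : ℕ) : ℂ) = ((2 : ℕ) : ℂ) := by
      rw [Nat.cast_sum]
      exact h3
    exact_mod_cast h4
  rw [← Finset.add_sum_erase Finset.univ _ (Finset.mem_univ t0), mult_irrTriv a, hm0] at hsum2
  have hrest : ∑ ψ ∈ Finset.univ.erase t0, mult Ω ψ * m ψ = 1 := by omega
  obtain ⟨θ', hθ'mem, hθ'ne⟩ := Finset.exists_ne_zero_of_sum_ne_zero
    (show ∑ ψ ∈ Finset.univ.erase t0, mult Ω ψ * m ψ ≠ 0 by rw [hrest]; exact one_ne_zero)
  rw [← Finset.add_sum_erase _ _ hθ'mem] at hrest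
  have hθ'1 : mult Ω θ' * m θ' = 1 := by
    have : 1 ≤ mult Ω θ' * m θ' := Nat.one_le_iff_ne_zero.mpr hθ'ne
    omega
  have hothers : ∑ ψ ∈ (Finset.univ.erase t0).erase θ', mult Ω ψ * m ψ = 0 := by omega
  have hmultθ : mult Ω θ' = 1 := Nat.eq_one_of_mul_eq_one_right hθ'1
  have hmθ : m θ' = 1 := Nat.eq_one_of_mul_eq_one_left hθ'1
  have hθ't0 : θ' ≠ t0 := Finset.ne_of_mem_erase hθ'mem
  have hzero : ∀ ψ : IrrCharacter G, ψ ≠ t0 → ψ ≠ θ' → mult Ω ψ * m ψ = 0 := by
    intro ψ h1 h2
    have hmem : ψ ∈ (Finset.univ.erase t0).erase θ' :=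
      Finset.mem_erase.mpr ⟨h2, Finset.mem_erase.mpr ⟨h1, Finset.mem_univ _⟩⟩
    exact (Finset.sum_eq_zero_iff.mp hothers) ψ hmem
  -- the properties
  have P2 : (θ' : G → ℂ) ≠ fun _ => 1 := by
    intro h
    apply hθ't0
    apply Subtype.ext
    rw [h]
    funext g
    rw [ht0, Helper74.irrTriv_apply]
  have P3 : classInner (pc G Ω) (θ' : G → ℂ) = 1 := by
    have := mult_spec (Ω := Ω) θ'
    rw [hmultθ] at this
    simpa using this
  have P4 : (∑ k ∈ Finset.range p, (θ' : G → ℂ) (x ^ k)) = p := by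
    rw [hmψ θ', hmθ]; simp
  have P5 : ∀ χ : G → ℂ, IsIrrCharacter G χ → χ ≠ (fun _ => 1) → χ ≠ (θ' : G → ℂ) →
      classInner (pc G Ω) χ ≠ 0 → (∑ k ∈ Finset.range p, χ (x ^ k)) = 0 := by
    intro χ hχ hχ1 hχθ hc
    set χ' : IrrCharacter G := ⟨χ, hχ⟩ with hχ'
    have h1 : χ' ≠ t0 := by
      intro h
      apply hχ1
      have := congrArg Subtype.val h
      funext g
      have h2 := congrFun this g
      rw [ht0, Helper74.irrTriv_apply] at h2
      exact h2
    have h2 : χ' ≠ θ' := by
      intro h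
      apply hχθ
      exact congrArg Subtype.val h
    have h3 := hzero χ' h1 h2
    have h4 : mult Ω χ' ≠ 0 := by
      intro h
      apply hc
      have := mult_spec (Ω := Ω) χ'
      rw [h, Nat.cast_zero] at this
      exact this
    have h5 : m χ' = 0 := by
      rcases Nat.mul_eq_zero.mp h3 with h | h
      · exact absurd h h4
      · exact h
    have := hmψ χ'
    rw [h5] at this
    simpa using this
  refine ⟨(θ' : G → ℂ), θ'.2, P2, P3, P4, P5, ?_⟩
  -- invariance
  intro κ hκ
  set χ : G → ℂ := fun g => (θ' : G → ℂ) (g ^ κ) with hχdef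
  have hχirr : IsIrrCharacter G χ := Helper82.galoisConj_isIrrCharacter θ'.2 κ hκ
  have hχ1 : χ ≠ fun _ => 1 := by
    intro h
    apply P2
    funext g
    obtain ⟨h', rfl⟩ := (powCoprime (G := G) (Nat.coprime_comm.mp hκ)).surjective g
    have := congrFun h h'
    simpa [hχdef, powCoprime] using this
  have hχc : classInner (pc G Ω) χ ≠ 0 := by
    rw [hχdef, classInner_pc_pow' κ hκ, P3]
    exact one_ne_zero
  have hχsum : (∑ k ∈ Finset.range p, χ (x ^ k)) = p := by
    rw [hχdef]
    show (∑ k ∈ Finset.range p, (θ' : G → ℂ) ((x ^ k) ^ κ)) = p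
    rw [sum_range_pow_comp x hx κ hκ, P4]
  have hχθ : χ = (θ' : G → ℂ) := by
    by_contra hne
    have := P5 χ hχirr hχ1 hne hχc
    rw [hχsum] at this
    exact hpC this
  intro g
  exact congrFun hχθ g

end main

end Cfsg.Agent.Helper73.W2p
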