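import Mathlib
import Cfsg.Agent.Helper61.W2pDefs

/-!
# (B2) for S0720 (helper61): the degree of `θ` is `1`, `p` or `2p - 1`
-/

set_option autoImplicit false
set_option linter.unusedSectionVars false
set_option linter.style.haveILetI false

namespace Cfsg.Agent.Helper73.W2p

open Cfsg Cfsg.Agent.Helper61.W2p
open scoped ComplexConjugate

/-- A rational algebraic integer (in `ℂ`) is an integer. -/
theorem exists_int_of_isIntegral_ratCast (q : ℚ) (h : IsIntegral ℤ ((q : ℂ))) :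
    ∃ m : ℤ, q = m := by
  have h1 : ((q : ℂ)) = algebraMap ℚ ℂ q := by simp
  rw [h1, isIntegral_algebraMap_iff (algebraMap ℚ ℂ).injective] at h
  obtain ⟨m, hm⟩ := IsIntegrallyClosed.algebraMap_eq_of_integral h
  exact ⟨m, by simpa using hm.symm⟩

/-- a unit mod `p` lifts to a unit mod `N` when `p ∥ N` -/
theorem exists_coprime_modEq {p N : ℕ} (hp : p.Prime) (hpN : p ∣ N) (hsq : ¬ p ^ 2 ∣ N)
    (j : ℕ) (hj : ¬ p ∣ j) : ∃ κ : ℕ, κ.Coprime N ∧ κ ≡ j [MOD p] := by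
  obtain ⟨m, rfl⟩ := hpN
  have hpm : ¬ p ∣ m := by
    intro h
    apply hsq
    rw [sq]
    exact Nat.mul_dvd_mul_left p h
  have hcop : Nat.Coprime p m := (Nat.Prime.coprime_iff_not_dvd hp).2 hpm
  obtain ⟨κ, h1, h2⟩ := Nat.chineseRemainder hcop j 1
  refine ⟨κ, ?_, h1⟩
  apply Nat.Coprime.mul_right
  · have : Nat.gcd κ p = Nat.gcd j p := Nat.ModEq.gcd_eq h1
    show Nat.gcd κ p = 1
    rw [this]
    exact Nat.Coprime.symm ((Nat.Prime.coprime_iff_not_dvd hp).2 hj)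
  · have : Nat.gcd κ m = Nat.gcd 1 m := Nat.ModEq.gcd_eq h2
    show Nat.gcd κ m = 1
    rw [this]
    exact Nat.gcd_one_left m

variable {G : Type*} [Group G] [Fintype G] {Ω : Type*} [Fintype Ω] [MulAction G Ω] {p : ℕ}

/-- a power-map invariant class function is constant on the non-identity elements of a subgroup of
order `p` when `p ∥ |G|` -/
theorem apply_pow_eq_of_inv (hp : p.Prime) (hsq : ¬ p ^ 2 ∣ Nat.card G) (x : G)
    (hx : orderOf x = p) (θ : G → ℂ)
    (hinv : ∀ κ : ℕ, κ.Coprime (Nat.card G) → ∀ g : G, θ (g ^ κ) = θ g) (j : ℕ) (hj : ¬ p ∣ j) :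
    θ (x ^ j) = θ x := by
  have hpG : p ∣ Nat.card G := by rw [← hx]; exact orderOf_dvd_natCard x
  obtain ⟨κ, hκ, hmod⟩ := exists_coprime_modEq hp hpG hsq j hj
  have h1 : x ^ κ = x ^ j := by
    rw [pow_eq_pow_iff_modEq, hx]
    exact hmod
  rw [← h1]
  exact hinv κ hκ x

/-- the sum of `θ` over `⟨x⟩` -/
theorem sum_range_eq (hp : p.Prime) (hsq : ¬ p ^ 2 ∣ Nat.card G) (x : G)
    (hx : orderOf x = p) (θ : G → ℂ)
    (hinv : ∀ κ : ℕ, κ.Coprime (Nat.card G) → ∀ g : G, θ (g ^ κ) = θ g) :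
    (∑ k ∈ Finset.range p, θ (x ^ k)) = θ 1 + ((p : ℂ) - 1) * θ x := by
  obtain ⟨n, rfl⟩ : ∃ n, p = n + 1 := ⟨p - 1, by have := hp.pos; omega⟩
  rw [Finset.sum_range_succ', pow_zero]
  have : ∀ k ∈ Finset.range n, θ (x ^ (k + 1)) = θ x := by
    intro k hk
    apply apply_pow_eq_of_inv hp hsq x hx θ hinv
    intro hdvd
    have := Nat.le_of_dvd (Nat.succ_pos k) hdvd
    have := Finset.mem_range.mp hk
    omega
  rw [Finset.sum_congr rfl this, Finset.sum_const, Finset.card_range, nsmul_eq_mul]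
  push_cast
  ring

open Helper12.PermCharBasics in
/-- `θ(1) + 1 ≤ 2p` -/
theorem deg_add_one_le (S : Setup G Ω p) (θ : G → ℂ)
    (hθ : IsIrrCharacter G θ) (hθ1 : θ ≠ fun _ => 1) (hm : classInner (pc G Ω) θ = 1) :
    deg (⟨θ, hθ⟩ : IrrCharacter G) + 1 ≤ 2 * p := by
  classical
  letI : Fintype (IrrCharacter G) := Helper74.irrFintype G
  have : MulAction.IsPretransitive G Ω := S.hprim.toIsPretransitive
  have hne : Nonempty Ω := by
    rw [← Fintype.card_pos_iff, S.hcard]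
    have := S.hp.pos
    omega
  obtain ⟨a⟩ := hne
  set t0 : IrrCharacter G := Helper74.irrTriv G with ht0
  set θ' : IrrCharacter G := ⟨θ, hθ⟩ with hθ'
  have hdist : t0 ≠ θ' := by
    intro h
    apply hθ1
    have := congrArg Subtype.val h
    funext g
    have h2 := congrFun this g
    rw [ht0, Helper74.irrTriv_apply] at h2
    exact h2.symm
  have hmθ : mult Ω θ' = 1 := by
    have := mult_spec (Ω := Ω) θ'
    have h2 : classInner (permChar G Ω) (θ' : G → ℂ) = 1 := hm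
    rw [h2] at this
    exact_mod_cast this.symm
  have E1 := sum_mult_deg (G := G) (Ω := Ω)
  have hsub : ({t0, θ'} : Finset (IrrCharacter G)) ⊆ Finset.univ := Finset.subset_univ _
  have hle := Finset.sum_le_sum_of_subset (f := fun ψ : IrrCharacter G => mult Ω ψ * deg ψ) hsub
  rw [Finset.sum_pair hdist, E1, S.hcard, mult_irrTriv a, deg_irrTriv, hmθ] at hle
  omega

/-- (B2) the degree of `θ` is `1`, `p` or `2p - 1` -/
theorem theta_degree (S : Setup G Ω p) (x : G) (hx : orderOf x = p) (θ : G → ℂ)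
    (hθ : IsIrrCharacter G θ) (hθ1 : θ ≠ fun _ => 1) (hm : classInner (pc G Ω) θ = 1)
    (hsum : (∑ k ∈ Finset.range p, θ (x ^ k)) = p)
    (hinv : ∀ κ : ℕ, κ.Coprime (Nat.card G) → ∀ g : G, θ (g ^ κ) = θ g) :
    θ 1 = 1 ∨ (θ 1 = p ∧ ∀ k : ℕ, ¬ p ∣ k → θ (x ^ k) = 0) ∨ θ 1 = 2 * (p : ℂ) - 1 := by
  have hp := S.hp
  have hsq := S.hsq
  have hp2 : 2 ≤ p := hp.two_le
  set t : ℕ := Helper12.PermCharBasics.deg (⟨θ, hθ⟩ : IrrCharacter G) with ht
  have hdeg : θ 1 = (t : ℂ) := Helper12.PermCharBasics.deg_spec (⟨θ, hθ⟩ : IrrCharacter G)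
  have htpos : 0 < t := Helper12.PermCharBasics.deg_pos _
  have htle : t + 1 ≤ 2 * p := deg_add_one_le S θ hθ hθ1 hm
  have hS := sum_range_eq hp hsq x hx θ hinv
  rw [hsum, hdeg] at hS
  -- `θ x` is rational
  have hp1 : ((p : ℂ) - 1) ≠ 0 := by
    have : (p : ℂ) ≠ 1 := by
      intro h
      have : p = 1 := by exact_mod_cast h
      omega
    exact sub_ne_zero.mpr this
  have hv : θ x = (((((p : ℤ) - (t : ℤ)) : ℤ) : ℚ) / ((((p : ℤ) - 1 : ℤ)) : ℚ) : ℚ) := by
    push_cast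
    rw [eq_div_iff hp1]
    linear_combination -hS
  have hint : IsIntegral ℤ (θ x) := Helper78.isIntegral_irrChar_apply hθ x
  rw [hv] at hint
  obtain ⟨c, hc⟩ := exists_int_of_isIntegral_ratCast _ hint
  have hp1Q : ((((p : ℤ) - 1 : ℤ)) : ℚ) ≠ 0 := by
    have : ((p : ℤ) - 1) ≠ 0 := by omega
    exact_mod_cast this
  rw [div_eq_iff hp1Q] at hc
  have hcZ : (p : ℤ) - (t : ℤ) = c * ((p : ℤ) - 1) := by exact_mod_cast hc
  have hvc : θ x = (c : ℂ) := by
    rw [hv]
    have : ((((p : ℤ) - (t : ℤ)) : ℤ) : ℚ) / ((((p : ℤ) - 1 : ℤ)) : ℚ) = (c : ℚ) := by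
      rw [div_eq_iff hp1Q]; exact hc
    rw [this]
    simp
  -- `c ∈ {1, 0, -1}`
  have hc1 : c ≤ 1 := by
    by_contra h
    push Not at h
    have : 2 * ((p : ℤ) - 1) ≤ c * ((p : ℤ) - 1) := by
      apply mul_le_mul_of_nonneg_right (by omega) (by omega)
    omega
  have hc2 : -1 ≤ c := by
    by_contra h
    push Not at h
    have : c * ((p : ℤ) - 1) ≤ (-2) * ((p : ℤ) - 1) := by
      apply mul_le_mul_of_nonneg_right (by omega) (by omega)
    omega
  have hcases : c = 1 ∨ c = 0 ∨ c = -1 := by omega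
  rcases hcases with rfl | rfl | rfl
  · left
    have : (t : ℤ) = 1 := by linarith
    have : t = 1 := by exact_mod_cast this
    rw [hdeg, this]; simp
  · right; left
    have : (t : ℤ) = p := by linarith
    have : t = p := by exact_mod_cast this
    refine ⟨by rw [hdeg, this], ?_⟩
    intro k hk
    rw [apply_pow_eq_of_inv hp hsq x hx θ hinv k hk, hvc]
    simp
  · right; right
    have : (t : ℤ) = 2 * p - 1 := by linarith
    rw [hdeg]
    have h2 : ((t : ℤ) : ℂ) = ((2 * (p : ℤ) - 1 : ℤ) : ℂ) := by rw [this]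
    push_cast at h2
    exact h2

end Cfsg.Agent.Helper73.W2p
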