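import Mathlib
import Cfsg.Agent.Helper74.A7Defs

/-!
# Piece (A2) of helper74's S0984 farm: the degree pattern `(1, 8, 15, 24, 24)` of the principal
7-block is incompatible with the arithmetic of the principal 5-block
-/

set_option autoImplicit false
set_option linter.unusedVariables false

namespace Cfsg.Agent.Helper73.A7

open Cfsg Cfsg.Agent.Helper74.A7
open Cfsg.Agent

universe u

variable {G : Type u} [Group G]

/-- (A2) the pattern `(1, 8, 15, 24, 24)` is impossible: the arithmetic of the principal 5-block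
(`X Y s` as produced by (A1) for `p = 5`; `e = |N(Q) : C(Q)| ∈ {2, 4}` for a Sylow 5-subgroup `Q`) -/
theorem pattern_A_arith [Fact (Nat.Prime 7)] (B : Blk7 G) (hpat : B.Pat 8 15 24 1) (e : ℕ)
    (he : e = 2 ∨ e = 4) (X Y : Finset (IrrCharacter G)) (s : IrrCharacter G → ℤ)
    (hdisj : Disjoint X Y) (hprin : Helper79.principalIrr G ∈ X ∨ Helper79.principalIrr G ∈ Y) (hX : X.card = e)
    (hY : Y.card = (5 - 1) / e) (hs : ∀ χ, s χ = 1 ∨ s χ = -1)
    (hXm : ∀ χ ∈ X, (charDegree (χ : G → ℂ) : ℤ) ≡ s χ [ZMOD 5])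
    (hYm : ∀ θ ∈ Y, (charDegree (θ : G → ℂ) : ℤ) ≡ -(s θ * (e : ℤ)) [ZMOD 5])
    (hYeq : ∀ θ ∈ Y, ∀ θ' ∈ Y, charDegree (θ : G → ℂ) = charDegree (θ' : G → ℂ) ∧ s θ = s θ')
    (hsum : ∀ θ ∈ Y, ∑ χ ∈ X, s χ * (charDegree (χ : G → ℂ) : ℤ) +
        s θ * (charDegree (θ : G → ℂ) : ℤ) = 0) : False := by
  classical
  obtain ⟨h2, h3, ht, -⟩ := hpat
  have ht2 : charDegree (B.θ₂ : G → ℂ) = 24 := by rw [B.hdegθ, ht]
  obtain ⟨one, hone⟩ : ∃ one : IrrCharacter G, one = Helper79.principalIrr G := ⟨_, rfl⟩
  have h1 : charDegree (one : G → ℂ) = 1 := by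
    rw [hone]
    show ⌊((1 : ℂ)).re⌋₊ = 1
    simp
  rw [← hone] at hprin
  have hall : ∀ ψ : IrrCharacter G, ψ = one ∨ ψ = B.χ₂ ∨ ψ = B.χ₃ ∨ ψ = B.θ₁ ∨ ψ = B.θ₂ ∨
      7 ∣ charDegree (ψ : G → ℂ) := by
    intro ψ; rw [hone]; exact B.hall ψ
  have hnd := B.nodup
  rw [← hone] at hnd
  simp only [List.nodup_cons, List.mem_cons, List.not_mem_nil, or_false, not_or,
    List.nodup_nil, and_true] at hnd
  obtain ⟨⟨n12, n13, n1t1, n1t2⟩, ⟨n23, n2t1, n2t2⟩, ⟨n3t1, n3t2⟩, nt12, -⟩ := hnd
  -- the key lemma: reduction modulo 7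
  have key : ∀ Z : Finset (IrrCharacter G), one ∈ Z →
      (∀ χ ∈ Z, ((charDegree (χ : G → ℂ) : ℤ) ≡ s χ [ZMOD 5]) ∨ 7 ∣ charDegree (χ : G → ℂ)) →
      ∑ χ ∈ Z, s χ * (charDegree (χ : G → ℂ) : ℤ) = 0 → False := by
    intro Z h1Z hZ hsum0
    have hfg : ∀ χ ∈ Z, (7 : ℤ) ∣ s χ * (charDegree (χ : G → ℂ) : ℤ) -
        ((if χ = one then 1 else 0) + (if χ = B.θ₁ then -24 else 0) +
          (if χ = B.θ₂ then -24 else 0)) := by
      intro χ hχ
      have hseven : 7 ∣ charDegree (χ : G → ℂ) → (7 : ℤ) ∣ s χ * (charDegree (χ : G → ℂ) : ℤ) -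
          ((if χ = one then 1 else 0) + (if χ = B.θ₁ then -24 else 0) +
            (if χ = B.θ₂ then -24 else 0)) := by
        intro h7
        have e1 : χ ≠ one := by
          intro h; rw [h, h1] at h7; omega
        have e2 : χ ≠ B.θ₁ := by
          intro h; rw [h, ht] at h7; omega
        have e3 : χ ≠ B.θ₂ := by
          intro h; rw [h, ht2] at h7; omega
        rw [if_neg e1, if_neg e2, if_neg e3]
        have : (7 : ℤ) ∣ (charDegree (χ : G → ℂ) : ℤ) := by exact_mod_cast h7
        simpa using Dvd.dvd.mul_left this (s χ)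
      rcases hZ χ hχ with hm | h7
      · unfold Int.ModEq at hm
        rcases hall χ with h | h | h | h | h | h
        · rw [h] at hm ⊢
          rw [h1] at hm ⊢
          rw [if_pos rfl, if_neg n1t1, if_neg n1t2]
          rcases hs one with h' | h' <;> rw [h'] at hm ⊢
          · norm_num
          · omega
        · rw [h, h2] at hm
          rcases hs B.χ₂ with h' | h' <;> rw [h'] at hm <;> omega
        · rw [h, h3] at hm
          rcases hs B.χ₃ with h' | h' <;> rw [h'] at hm <;> omega
        · rw [h] at hm ⊢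
          rw [ht] at hm ⊢
          rw [if_neg (Ne.symm n1t1), if_pos rfl, if_neg nt12]
          rcases hs B.θ₁ with h' | h' <;> rw [h'] at hm ⊢
          · omega
          · norm_num
        · rw [h] at hm ⊢
          rw [ht2] at hm ⊢
          rw [if_neg (Ne.symm n1t2), if_neg (Ne.symm nt12), if_pos rfl]
          rcases hs B.θ₂ with h' | h' <;> rw [h'] at hm ⊢
          · omega
          · norm_num
        · exact hseven h
      · exact hseven h7
    have hdvd := Finset.dvd_sum hfg
    rw [Finset.sum_sub_distrib, hsum0] at hdvd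
    simp only [Finset.sum_add_distrib, Finset.sum_ite_eq', h1Z, if_true] at hdvd
    split_ifs at hdvd <;> omega
  rcases he with rfl | rfl
  · -- `e = 2`
    have hY2 : Y.card = 2 := by rw [hY]
    obtain ⟨ψ, ψ', hne, rfl⟩ := Finset.card_eq_two.mp hY2
    have hψ : ψ ∈ ({ψ, ψ'} : Finset (IrrCharacter G)) := by simp
    have hψ' : ψ' ∈ ({ψ, ψ'} : Finset (IrrCharacter G)) := by simp
    have hdd : charDegree (ψ : G → ℂ) = charDegree (ψ' : G → ℂ) := (hYeq ψ hψ ψ' hψ').1
    have hm := hYm ψ hψ
    unfold Int.ModEq at hm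
    have h7ψ : 7 ∣ charDegree (ψ : G → ℂ) := by
      rcases hall ψ with h | h | h | h | h | h
      · exfalso
        rw [h, h1] at hm
        rcases hs one with h' | h' <;> rw [h'] at hm <;> omega
      · exfalso
        rcases hall ψ' with k | k | k | k | k | k
        · rw [h, k, h2, h1] at hdd; omega
        · exact hne (h.trans k.symm)
        · rw [h, k, h2, h3] at hdd; omega
        · rw [h, k, h2, ht] at hdd; omega
        · rw [h, k, h2, ht2] at hdd; omega
        · rw [← hdd, h, h2] at k; omega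
      · exfalso
        rw [h, h3] at hm
        rcases hs B.χ₃ with h' | h' <;> rw [h'] at hm <;> omega
      · exfalso
        rw [h, ht] at hm
        rcases hs B.θ₁ with h' | h' <;> rw [h'] at hm <;> omega
      · exfalso
        rw [h, ht2] at hm
        rcases hs B.θ₂ with h' | h' <;> rw [h'] at hm <;> omega
      · exact h
    have h1X : one ∈ X := by
      rcases hprin with h | h
      · exact h
      · exfalso
        rw [Finset.mem_insert, Finset.mem_singleton] at h
        rcases h with h | h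
        · rw [← h, h1] at h7ψ; omega
        · rw [hdd, ← h, h1] at h7ψ; omega
    have hψX : ψ ∉ X := fun h => (Finset.disjoint_left.mp hdisj h) hψ
    apply key (insert ψ X) (Finset.mem_insert_of_mem h1X)
    · intro χ hχ
      rcases Finset.mem_insert.mp hχ with h | h
      · right; rw [h]; exact h7ψ
      · left; exact hXm χ h
    · rw [Finset.sum_insert hψX, add_comm]
      exact hsum ψ hψ
  · -- `e = 4`
    have hY1 : Y.card = 1 := by rw [hY]
    obtain ⟨θ, rfl⟩ := Finset.card_eq_one.mp hY1
    have hθ : θ ∈ ({θ} : Finset (IrrCharacter G)) := Finset.mem_singleton_self θ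
    apply key (X ∪ {θ})
    · rcases hprin with h | h
      · exact Finset.mem_union_left _ h
      · exact Finset.mem_union_right _ h
    · intro χ hχ
      left
      rcases Finset.mem_union.mp hχ with h | h
      · exact hXm χ h
      · rw [Finset.mem_singleton] at h
        rw [h]
        have hm := hYm θ hθ
        unfold Int.ModEq at hm ⊢
        push_cast at hm
        omega
    · rw [Finset.sum_union hdisj, Finset.sum_singleton]
      exact hsum θ hθ

end Cfsg.Agent.Helper73.A7
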