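import Mathlib
import Cfsg.Agent.Helper17.SylowKit
import Cfsg.Agent.Helper17.LemmaR

/-!
# Piece (N7c) of helper74's S0984 farm: a simple group of order 2520 does not have 15 Sylow
7-subgroups
-/

set_option autoImplicit false

namespace Cfsg.Agent.Helper73.A7

open Cfsg Subgroup

universe u

variable {G : Type u} [Group G]

/-- (N7c) `n_7 ≠ 15` -/
theorem card_sylow7_ne_15 [Finite G] [IsSimpleGroup G] [Fact (Nat.Prime 7)]
    (hcard : Nat.card G = 2520) : Nat.card (Sylow 7 G) ≠ 15 := by
  intro h15
  obtain ⟨P⟩ : Nonempty (Sylow 7 G) := inferInstance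
  have hP : Nat.card (P : Subgroup G) = 7 := by
    have := Cfsg.Agent.Helper17.card_sylow_subgroup_of_card_eq (p := 7) (k := 1) (m := 360)
      (by rw [hcard]; norm_num) (by norm_num) P
    simpa using this
  have hN : Nat.card (normalizer ((P : Subgroup G) : Set G)) = 168 := by
    have := Cfsg.Agent.Helper17.card_normalizer_mul_card_sylow P
    rw [h15, hcard] at this
    omega
  obtain ⟨he6, -⟩ := Cfsg.Agent.Helper17.relIndex_dvd_of_card_sylow_prime P hP
  have hCe := Cfsg.Agent.Helper17.card_centralizer_mul_relIndex (P : Subgroup G)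
  rw [hN] at hCe
  have h4 : 2 ^ 2 ∣ Nat.card (centralizer ((P : Subgroup G) : Set G)) := by
    generalize (centralizer ((P : Subgroup G) : Set G)).relIndex
      (normalizer ((P : Subgroup G) : Set G)) = e at he6 hCe
    generalize Nat.card (centralizer ((P : Subgroup G) : Set G)) = c at hCe
    have he : e ∣ 6 := he6
    have hle : e ≤ 6 := Nat.le_of_dvd (by norm_num) he
    interval_cases e <;> omega
  obtain ⟨W0, hW0⟩ := Sylow.exists_subgroup_card_pow_prime 2 h4
  set W : Subgroup G := W0.map (centralizer ((P : Subgroup G) : Set G)).subtype with hW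
  have hWcard : Nat.card W = 4 := by
    rw [hW, Subgroup.card_map_of_injective (Subgroup.subtype_injective _), hW0]
    norm_num
  have hWp : IsPGroup 2 W := IsPGroup.of_card (n := 2) (by rw [hWcard]; norm_num)
  have hWC : W ≤ centralizer ((P : Subgroup G) : Set G) := by
    rw [hW]
    exact Subgroup.map_subtype_le _
  have hdvd := Cfsg.Agent.Helper17.card_dvd_of_le_centralizer_sylow (p := 7) P (q := 2)
    (by norm_num) (by rw [h15]) W hWp hWC
  rw [hWcard] at hdvd
  omega

end Cfsg.Agent.Helper73.A7
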