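import Mathlib

set_option autoImplicit false

/-!
# Affine avoidance over fields with enough elements

`LineClosed P` : the set `{x | P x}` contains the whole line through any two of its points
(affine subspaces, in particular linear subspaces, have this property).

`avoid` : if `I.card < s.card` for a finset `s` of scalars, finitely many proper line-closed
predicates `Q i`, `i ∈ I`, can be avoided simultaneously.
-/

namespace Cfsg.Agent.Helper73.Avoid

variable {K : Type*} [Field K] {W : Type*} [AddCommGroup W] [Module K W]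

/-- The set `{x | P x}` contains the line through any two of its points. -/
def LineClosed (K : Type*) [Field K] {W : Type*} [AddCommGroup W] [Module K W]
    (P : W → Prop) : Prop :=
  ∀ (x y : W) (t : K), P x → P y → P (x + t • (y - x))

theorem lineClosed_mem (S : Submodule K W) : LineClosed K (fun x => x ∈ S) := by
  intro x y t hx hy
  exact S.add_mem hx (S.smul_mem t (S.sub_mem hy hx))

/-- Preimage of a submodule under an affine map `x ↦ f x + c`. -/
theorem lineClosed_affine {W' : Type*} [AddCommGroup W'] [Module K W'] (f : W →ₗ[K] W') (c : W')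
    (S : Submodule K W') : LineClosed K (fun x => f x + c ∈ S) := by
  intro x y t hx hy
  have : f (x + t • (y - x)) + c = (f x + c) + t • ((f y + c) - (f x + c)) := by
    simp only [map_add, map_smul, map_sub]
    abel
  simp only [this]
  exact S.add_mem hx (S.smul_mem t (S.sub_mem hy hx))

/-- Equation `f x + c = 0` for an affine map. -/
theorem lineClosed_affine_eq {W' : Type*} [AddCommGroup W'] [Module K W'] (f : W →ₗ[K] W')
    (c : W') : LineClosed K (fun x => f x + c = 0) := by
  have := lineClosed_affine (K := K) f c (⊥ : Submodule K W')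
  simpa using this

theorem line_avoid {ι : Type*} (a b : W) (s : Finset K) (I : Finset ι) (Q : ι → W → Prop)
    (hQc : ∀ i ∈ I, LineClosed K (Q i)) (hQa : ∀ i ∈ I, ¬ Q i a) (hs : I.card + 1 < s.card) :
    ∃ t ∈ s, t ≠ 0 ∧ ∀ i ∈ I, ¬ Q i (a + t • (b - a)) := by
  classical
  -- bad scalars
  let B : Finset K := insert 0 (I.biUnion fun i => s.filter fun t => Q i (a + t • (b - a)))
  have hcard1 : ∀ i ∈ I, (s.filter fun t => Q i (a + t • (b - a))).card ≤ 1 := by
    intro i hi
    rw [Finset.card_le_one]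
    intro t ht t' ht'
    rw [Finset.mem_filter] at ht ht'
    by_contra hne
    -- then Q i a
    apply hQa i hi
    have hd : t' - t ≠ 0 := sub_ne_zero.mpr (Ne.symm hne)
    have := hQc i hi _ _ (-t / (t' - t)) ht.2 ht'.2
    have e : a + t • (b - a) + (-t / (t' - t)) • (a + t' • (b - a) - (a + t • (b - a))) = a := by
      have : a + t' • (b - a) - (a + t • (b - a)) = (t' - t) • (b - a) := by
        rw [sub_smul]; abel
      rw [this, smul_smul, div_mul_cancel₀ _ hd, neg_smul]
      abel
    rwa [e] at this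
  have hB : B.card ≤ I.card + 1 := by
    calc B.card ≤ (I.biUnion fun i => s.filter fun t => Q i (a + t • (b - a))).card + 1 :=
          Finset.card_insert_le _ _
      _ ≤ (∑ i ∈ I, (s.filter fun t => Q i (a + t • (b - a))).card) + 1 :=
          Nat.add_le_add_right Finset.card_biUnion_le 1
      _ ≤ (∑ _i ∈ I, 1) + 1 := Nat.add_le_add_right (Finset.sum_le_sum hcard1) 1
      _ = I.card + 1 := by simp
  have : ∃ t ∈ s, t ∉ B := by
    by_contra hcon
    push Not at hcon
    have : s ⊆ B := hcon
    have := Finset.card_le_card this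
    omega
  obtain ⟨t, hts, htB⟩ := this
  refine ⟨t, hts, ?_, ?_⟩
  · rintro rfl
    exact htB (Finset.mem_insert_self _ _)
  · intro i hi hq
    apply htB
    apply Finset.mem_insert_of_mem
    rw [Finset.mem_biUnion]
    exact ⟨i, hi, Finset.mem_filter.mpr ⟨hts, hq⟩⟩

/-- Simultaneous avoidance of finitely many proper line-closed predicates. -/
theorem avoid {ι : Type*} (I : Finset ι) (Q : ι → W → Prop) (s : Finset K)
    (hQc : ∀ i ∈ I, LineClosed K (Q i)) (hQn : ∀ i ∈ I, ∃ x, ¬ Q i x) (hs : I.card < s.card) :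
    ∃ x, ∀ i ∈ I, ¬ Q i x := by
  classical
  induction I using Finset.induction_on with
  | empty => exact ⟨0, by simp⟩
  | insert j I hj ih =>
    rw [Finset.card_insert_of_notMem hj] at hs
    obtain ⟨a, ha⟩ := ih (fun i hi => hQc i (Finset.mem_insert_of_mem hi))
      (fun i hi => hQn i (Finset.mem_insert_of_mem hi)) (by omega)
    by_cases hja : Q j a
    · obtain ⟨b, hb⟩ := hQn j (Finset.mem_insert_self _ _)
      obtain ⟨t, -, ht0, ht⟩ := line_avoid a b s I Q
        (fun i hi => hQc i (Finset.mem_insert_of_mem hi)) ha hs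
      refine ⟨a + t • (b - a), ?_⟩
      intro i hi
      rw [Finset.mem_insert] at hi
      rcases hi with rfl | hi
      · intro hq
        apply hb
        have := hQc i (Finset.mem_insert_self _ _) _ _ t⁻¹ hja hq
        have e : a + t⁻¹ • (a + t • (b - a) - a) = b := by
          rw [add_sub_cancel_left, smul_smul, inv_mul_cancel₀ ht0, one_smul]; abel
        rwa [e] at this
      · exact ht i hi
    · refine ⟨a, ?_⟩
      intro i hi
      rw [Finset.mem_insert] at hi
      rcases hi with rfl | hi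
      · exact hja
      · exact ha i hi

/-- Three predicates. -/
theorem avoid3 (s : Finset K) (hs : 4 ≤ s.card) (P₁ P₂ P₃ : W → Prop)
    (h₁ : LineClosed K P₁) (h₂ : LineClosed K P₂) (h₃ : LineClosed K P₃)
    (n₁ : ∃ x, ¬ P₁ x) (n₂ : ∃ x, ¬ P₂ x) (n₃ : ∃ x, ¬ P₃ x) :
    ∃ x, ¬ P₁ x ∧ ¬ P₂ x ∧ ¬ P₃ x := by
  have := avoid (K := K) (Finset.univ : Finset (Fin 3)) ![P₁, P₂, P₃] s
    (by intro i _; fin_cases i <;> assumption)
    (by intro i _; fin_cases i <;> assumption) (by simp; omega)
  obtain ⟨x, hx⟩ := this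
  exact ⟨x, hx 0 (Finset.mem_univ _), hx 1 (Finset.mem_univ _), hx 2 (Finset.mem_univ _)⟩

theorem avoid2 (s : Finset K) (hs : 3 ≤ s.card) (P₁ P₂ : W → Prop)
    (h₁ : LineClosed K P₁) (h₂ : LineClosed K P₂)
    (n₁ : ∃ x, ¬ P₁ x) (n₂ : ∃ x, ¬ P₂ x) :
    ∃ x, ¬ P₁ x ∧ ¬ P₂ x := by
  have := avoid (K := K) (Finset.univ : Finset (Fin 2)) ![P₁, P₂] s
    (by intro i _; fin_cases i <;> assumption)
    (by intro i _; fin_cases i <;> assumption) (by simp; omega)
  obtain ⟨x, hx⟩ := this
  exact ⟨x, hx 0 (Finset.mem_univ _), hx 1 (Finset.mem_univ _)⟩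

/-- A field with at least four elements contains a four-element finset. -/
theorem exists_finset_card_four (hK : 4 ≤ Cardinal.mk K) : ∃ s : Finset K, s.card = 4 := by
  classical
  have h4 : ((4 : ℕ) : Cardinal) ≤ Cardinal.mk K := by exact_mod_cast hK
  rcases finite_or_infinite K with hfin | hinf
  · letI := Fintype.ofFinite K
    have : 4 ≤ Fintype.card K := by
      rw [Cardinal.mk_fintype] at h4
      exact_mod_cast h4
    obtain ⟨s, -, hs⟩ := Finset.exists_subset_card_eq (s := (Finset.univ : Finset K))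
      (n := 4) (by simpa using this)
    exact ⟨s, hs⟩
  · obtain ⟨s, hs⟩ := Infinite.exists_subset_card_eq K 4
    exact ⟨s, hs⟩


/-- Over a field with at least four elements, a non-scalar endomorphism has a non-eigenvector
outside any two given proper subspaces. -/
theorem exists_not_eigen (s : Finset K) (hs : 4 ≤ s.card) (T : W →ₗ[K] W)
    (hT : ∀ μ : K, T ≠ μ • LinearMap.id) (X₁ X₂ : Submodule K W) (h₁ : X₁ ≠ ⊤) (h₂ : X₂ ≠ ⊤) :
    ∃ x, x ∉ X₁ ∧ x ∉ X₂ ∧ x ≠ 0 ∧ ∀ μ : K, T x ≠ μ • x := by
  classical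
  have n₁ : ∃ x, ¬ x ∈ X₁ := by
    by_contra hcon; push Not at hcon
    exact h₁ (eq_top_iff.mpr fun x _ => hcon x)
  have n₂ : ∃ x, ¬ x ∈ X₂ := by
    by_contra hcon; push Not at hcon
    exact h₂ (eq_top_iff.mpr fun x _ => hcon x)
  obtain ⟨x₀, hx₁, hx₂⟩ := avoid2 s (by omega) (fun x => x ∈ X₁) (fun x => x ∈ X₂)
    (lineClosed_mem X₁) (lineClosed_mem X₂) n₁ n₂
  have hx₀ : x₀ ≠ 0 := by rintro rfl; exact hx₁ X₁.zero_mem
  by_cases hev : ∃ l : K, T x₀ = l • x₀
  · obtain ⟨l, hl⟩ := hev
    obtain ⟨u, hu⟩ : ∃ u, T u ≠ l • u := by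
      by_contra hcon; push Not at hcon
      exact hT l (LinearMap.ext fun x => by simpa using hcon x)
    -- the line z r = u + r • x₀
    let f : K →ₗ[K] W := LinearMap.toSpanSingleton K W x₀
    have hf : ∀ r : K, f r = r • x₀ := fun r => by simp [f]
    -- at most one eigen point
    have hone : ∀ r r' : K, (∃ μ : K, T (f r + u) = μ • (f r + u)) →
        (∃ μ : K, T (f r' + u) = μ • (f r' + u)) → r = r' := by
      rintro r r' ⟨μ, hμ⟩ ⟨μ', hμ'⟩
      by_contra hne
      have hd : r - r' ≠ 0 := sub_ne_zero.mpr hne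
      rw [hf, map_add, map_smul, hl, smul_add] at hμ
      rw [hf, map_add, map_smul, hl, smul_add] at hμ'
      -- hμ : r • l • x₀ + T u = μ • r • x₀ + μ • u
      have hsub : ((r - r') * l - (μ * r - μ' * r')) • x₀ = (μ - μ') • u := by
        have e1 : T u = μ • r • x₀ + μ • u - r • l • x₀ := by rw [← hμ]; abel
        have e2 : T u = μ' • r' • x₀ + μ' • u - r' • l • x₀ := by rw [← hμ']; abel
        have := e1.symm.trans e2
        have h3 : (μ • r • x₀ + μ • u - r • l • x₀) - (μ' • r' • x₀ + μ' • u - r' • l • x₀) = 0 :=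
          sub_eq_zero.mpr this
        have h4 : ((r - r') * l - (μ * r - μ' * r')) • x₀ - (μ - μ') • u
            = -((μ • r • x₀ + μ • u - r • l • x₀) - (μ' • r' • x₀ + μ' • u - r' • l • x₀)) := by
          simp only [sub_smul, mul_smul]
          abel
        rw [h3, neg_zero] at h4
        exact sub_eq_zero.mp h4
      by_cases hμμ : μ = μ'
      · subst hμμ
        rw [sub_self, zero_smul] at hsub
        have h5 : (r - r') * l - (μ * r - μ * r') = 0 := by
          rcases smul_eq_zero.mp hsub with h | h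
          · exact h
          · exact absurd h hx₀
        have h6 : (r - r') * (l - μ) = 0 := by rw [← h5]; ring
        have hlμ : l = μ := by
          rcases mul_eq_zero.mp h6 with h | h
          · exact absurd h hd
          · exact sub_eq_zero.mp h
        subst hlμ
        apply hu
        have : T u = l • r • x₀ + l • u - r • l • x₀ := by rw [← hμ]; abel
        rw [this, smul_comm l r x₀]; abel
      · have hd' : μ - μ' ≠ 0 := sub_ne_zero.mpr hμμ
        have hux : u = ((μ - μ')⁻¹ * ((r - r') * l - (μ * r - μ' * r'))) • x₀ := by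
          rw [mul_smul, hsub, smul_smul, inv_mul_cancel₀ hd', one_smul]
        apply hu
        rw [hux, map_smul, hl, smul_comm]
    have P₃c : LineClosed K (fun r : K => ∃ μ : K, T (f r + u) = μ • (f r + u)) := by
      intro r r' t hr hr'
      have := hone r r' hr hr'
      subst this
      simpa using hr
    have P₃n : ∃ r : K, ¬ ∃ μ : K, T (f r + u) = μ • (f r + u) := by
      by_cases h0 : ∃ μ : K, T (f 0 + u) = μ • (f 0 + u)
      · refine ⟨1, fun h1 => ?_⟩
        exact zero_ne_one (hone 0 1 h0 h1)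
      · exact ⟨0, h0⟩
    have P₁n : ∃ r : K, ¬ (f r + u ∈ X₁) := by
      by_cases h0 : f 0 + u ∈ X₁
      · refine ⟨1, fun h1 => hx₁ ?_⟩
        have := X₁.sub_mem h1 h0
        simpa [hf] using this
      · exact ⟨0, h0⟩
    have P₂n : ∃ r : K, ¬ (f r + u ∈ X₂) := by
      by_cases h0 : f 0 + u ∈ X₂
      · refine ⟨1, fun h1 => hx₂ ?_⟩
        have := X₂.sub_mem h1 h0
        simpa [hf] using this
      · exact ⟨0, h0⟩
    obtain ⟨r, hr₁, hr₂, hr₃⟩ := avoid3 (K := K) (W := K) s hs
      (fun r => f r + u ∈ X₁) (fun r => f r + u ∈ X₂)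
      (fun r => ∃ μ : K, T (f r + u) = μ • (f r + u))
      (lineClosed_affine f u X₁) (lineClosed_affine f u X₂) P₃c P₁n P₂n P₃n
    refine ⟨f r + u, hr₁, hr₂, ?_, ?_⟩
    · intro h0; exact hr₁ (h0 ▸ X₁.zero_mem)
    · intro μ hμ; exact hr₃ ⟨μ, hμ⟩
  · refine ⟨x₀, hx₁, hx₂, hx₀, ?_⟩
    intro μ hμ; exact hev ⟨μ, hμ⟩

end Cfsg.Agent.Helper73.Avoid
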