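import Mathlib

/-!
# Piece (JS) of helper54's S0679 farm (transitive groups of degree 11)

A transitive group of degree 11 not containing the alternating group has no non-identity element
moving at most 3 points (Jordan: a primitive group with a transposition is symmetric, with a
3-cycle contains the alternating group).
-/

set_option autoImplicit false

namespace Cfsg.Agent.Helper73.D11

open Equiv MulAction

variable {α : Type*} [Fintype α] [DecidableEq α]

/-- (JS) no non-identity element of support `≤ 3` -/
theorem four_le_support (hα : Fintype.card α = 11) (G : Subgroup (Perm α))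
    [IsPretransitive G α] (hA : ¬ alternatingGroup α ≤ G) {g : Perm α} (hg : g ∈ G)
    (hg1 : g ≠ 1) : 4 ≤ g.support.card := by
  have hprim : IsPreprimitive G α := by
    apply IsPreprimitive.of_prime_card
    rw [Nat.card_eq_fintype_card, hα]
    norm_num
  by_contra hlt
  have hcases : g.support.card = 0 ∨ g.support.card = 1 ∨ g.support.card = 2 ∨
      g.support.card = 3 := by omega
  rcases hcases with h | h | h | h
  · rw [Finset.card_eq_zero, Perm.support_eq_empty_iff] at h
    exact hg1 h
  · exact Perm.card_support_ne_one g h
  · have hswap : g.IsSwap := Perm.card_support_eq_two.mp h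
    have htop : G = ⊤ := Perm.subgroup_eq_top_of_isPreprimitive_of_isSwap_mem hprim g hswap hg
    exact hA (htop ▸ le_top)
  · have h3 : g.IsThreeCycle := _root_.card_support_eq_three_iff.mp h
    exact hA (Perm.alternatingGroup_le_of_isPreprimitive_of_isThreeCycle_mem hprim h3 hg)

end Cfsg.Agent.Helper73.D11
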