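import Mathlib
import Cfsg.Agent.Helper16.DT.Defs

/-!
# DT farm (helper16, #13881), leaf (SCH): Schur's lemma for matrix representations over an
algebraically closed field.
-/

set_option autoImplicit false
set_option linter.unusedSectionVars false
set_option linter.unusedVariables false

namespace Cfsg.Agent.Helper73.DT

open Cfsg Cfsg.Agent.Helper16 Cfsg.Agent.Helper16.DT Polynomial Matrix

universe u v w

variable {K : Type v} [Field K] {G : Type u} [Group G]

/-- (SCH) Schur's lemma over an algebraically closed field. -/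
theorem schur_scalar [IsAlgClosed K] {ι : Type w} [Fintype ι] [DecidableEq ι]
    (ρ : G →* Matrix ι ι K) (hρ : IsIrredMat ρ) (Z : Matrix ι ι K)
    (hZ : ∀ g, Z * ρ g = ρ g * Z) : ∃ c : K, Z = c • (1 : Matrix ι ι K) := by
  obtain ⟨hne, hirr⟩ := hρ
  have := hne
  obtain ⟨c, hc⟩ := Module.End.exists_eigenvalue (Matrix.toLin' Z)
  refine ⟨c, ?_⟩
  have hW : ∀ g, ∀ w ∈ Module.End.eigenspace (Matrix.toLin' Z) c,
      (ρ g).mulVec w ∈ Module.End.eigenspace (Matrix.toLin' Z) c := by
    intro g w hw
    rw [Module.End.mem_eigenspace_iff] at hw ⊢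
    rw [Matrix.toLin'_apply] at hw ⊢
    rw [Matrix.mulVec_mulVec, hZ g, ← Matrix.mulVec_mulVec, hw, Matrix.mulVec_smul]
  rcases hirr _ hW with h | h
  · exact absurd h hc
  · apply Matrix.toLin'.injective
    apply LinearMap.ext
    intro v
    have hv : v ∈ Module.End.eigenspace (Matrix.toLin' Z) c := by rw [h]; exact Submodule.mem_top
    rw [Module.End.mem_eigenspace_iff] at hv
    rw [hv, Matrix.toLin'_apply, Matrix.smul_mulVec, Matrix.one_mulVec]

end Cfsg.Agent.Helper73.DT
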