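import Mathlib
import Cfsg.Agent.Helper16.DT.Defs

/-!
# DT farm (helper16, #13881), leaf (TRP): in characteristic `p` the trace of a matrix representation
does not see commuting factors of `p`-power order.
-/

set_option autoImplicit false
set_option linter.unusedSectionVars false
set_option linter.unusedVariables false

namespace Cfsg.Agent.Helper73.DT

open Cfsg Cfsg.Agent.Helper16 Cfsg.Agent.Helper16.DT Polynomial Matrix

universe u v w

variable {K : Type v} [Field K] {G : Type u} [Group G]

/-- (TRP) in characteristic `p` the trace does not see commuting factors of `p`-power order. -/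
theorem trace_mul_of_pPower {p : ℕ} [Fact p.Prime] [CharP K p] {ι : Type w} [Fintype ι]
    [DecidableEq ι] (ρ : G →* Matrix ι ι K) (u s : G) (hc : Commute u s) (k : ℕ)
    (hu : u ^ (p ^ k) = 1) : (ρ (u * s)).trace = (ρ s).trace := by
  rcases isEmpty_or_nonempty ι with hι | hι
  · exact congrArg Matrix.trace (Subsingleton.elim _ _)
  have hAB : Commute (ρ u) (ρ s) := hc.map ρ
  have hN : (ρ u - 1) ^ (p ^ k) = 0 := by
    rw [sub_pow_char_pow_of_commute _ _ (Commute.one_right _), one_pow, ← map_pow, hu, map_one,
      sub_self]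
  have hnil : IsNilpotent (ρ u - 1) := ⟨p ^ k, hN⟩
  have hcomm : Commute (ρ s) (ρ u - 1) := (hAB.symm.sub_right (Commute.one_right _))
  have hnil2 : IsNilpotent (ρ s * (ρ u - 1)) := hcomm.isNilpotent_mul_left hnil
  have htr : (ρ s * (ρ u - 1)).trace = 0 :=
    (Matrix.isNilpotent_trace_of_isNilpotent hnil2).eq_zero
  have : ρ (u * s) = ρ s + ρ s * (ρ u - 1) := by
    rw [map_mul, hAB.eq, mul_sub, mul_one]; abel
  rw [this, Matrix.trace_add, htr, add_zero]

end Cfsg.Agent.Helper73.DT
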