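import Mathlib
import Cfsg.Agent.Helper3.E27Defs

/-!
# (A3) for helper3 (S3701): the action of `N_G(T)` on `T` in coordinates
-/

set_option autoImplicit false

namespace Cfsg.Agent.Helper73.E27

open Cfsg.Agent.Helper3.E27

universe u

variable {G : Type u} [Group G]

/-- the four sign vectors, indexed -/
def sig : Fin 4 → Vec := ![1, sa, sb, sa * sb]

/-- the four coset representatives of `T` in `N_G(T)`, indexed -/
def cs (a b : G) : Fin 4 → G := ![1, a, b, a * b]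

theorem sig_mem (i : Fin 4) : sig i ∈ Vs := by
  fin_cases i <;> simp [sig, Vs]

theorem sig_injective : Function.Injective sig := by
  decide

theorem comm_T {T : Subgroup G} {τ : Vec → G} {a b : G} (h : HCfg T τ a b) (u v : Vec) :
    τ u * τ v = τ v * τ u := by
  rw [← h.τ_add, ← h.τ_add, add_comm]

theorem conj_mul {T : Subgroup G} {τ : Vec → G} {a b : G} (h : HCfg T τ a b) (c : G) (σ : Vec)
    (hc : ∀ v, c * τ v * c⁻¹ = τ (σ * v)) (w v : Vec) :
    (τ w * c) * τ v * (τ w * c)⁻¹ = τ (σ * v) := by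
  have e : (τ w * c) * τ v * (τ w * c)⁻¹ = τ w * (c * τ v * c⁻¹) * (τ w)⁻¹ := by group
  rw [e, hc, comm_T h w, mul_assoc, mul_inv_cancel, mul_one]

theorem conj_cs {T : Subgroup G} {τ : Vec → G} {a b : G} (h : HCfg T τ a b) (i : Fin 4)
    (v : Vec) : cs a b i * τ v * (cs a b i)⁻¹ = τ (sig i * v) := by
  fin_cases i
  · show (1 : G) * τ v * (1 : G)⁻¹ = τ (1 * v)
    rw [one_mul, inv_one, mul_one, one_mul]
  · exact h.τ_a v
  · exact h.τ_b v
  · show (a * b) * τ v * (a * b)⁻¹ = τ (sa * sb * v)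
    have e : (a * b) * τ v * (a * b)⁻¹ = a * (b * τ v * b⁻¹) * a⁻¹ := by group
    rw [e, h.τ_b, h.τ_a, mul_assoc]

theorem conj_tcs {T : Subgroup G} {τ : Vec → G} {a b : G} (h : HCfg T τ a b) (i : Fin 4)
    (w v : Vec) : (τ w * cs a b i) * τ v * (τ w * cs a b i)⁻¹ = τ (sig i * v) :=
  conj_mul h _ _ (conj_cs h i) w v

theorem exists_tcs {T : Subgroup G} {τ : Vec → G} {a b : G} (h : HCfg T τ a b)
    (n : G) (hn : n ∈ Subgroup.normalizer (T : Set G)) :
    ∃ (w : Vec) (i : Fin 4), n = τ w * cs a b i := by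
  obtain ⟨t, ht, hcases⟩ := h.memN n hn
  obtain ⟨w, rfl⟩ := h.memT t ht
  rcases hcases with h0 | h1 | h2 | h3
  · exact ⟨w, 0, by rw [h0]; simp [cs]⟩
  · exact ⟨w, 1, by rw [h1]; simp [cs]⟩
  · exact ⟨w, 2, by rw [h2]; simp [cs]⟩
  · exact ⟨w, 3, by rw [h3]; simp [cs]⟩

/-- (A3) the action of `N_G(T)` on `T` in coordinates. -/
theorem conj_N {T : Subgroup G} {τ : Vec → G} {a b : G} (h : HCfg T τ a b)
    (n : G) (hn : n ∈ Subgroup.normalizer (T : Set G)) :
    ∃ σ ∈ Vs, ∀ v, n * τ v * n⁻¹ = τ (σ * v) := by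
  obtain ⟨w, i, rfl⟩ := exists_tcs h n hn
  exact ⟨sig i, sig_mem i, fun v => conj_tcs h i w v⟩

end Cfsg.Agent.Helper73.E27
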