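import Mathlib
import Cfsg.Agent.Helper3.E27Defs
import Cfsg.Agent.Helper73.E27A3

/-!
# (A2) for helper3 (S3701): `T` is a Sylow 3-subgroup of `G` and `|N_G(T)| = 108`
-/

set_option autoImplicit false

namespace Cfsg.Agent.Helper73.E27

open Cfsg.Agent.Helper3.E27

universe u

variable {G : Type u} [Group G]

theorem card_Vec : Nat.card Vec = 27 := by
  rw [Nat.card_eq_fintype_card]
  simp [Vec, ZMod.card]

theorem card_T {T : Subgroup G} {τ : Vec → G} {a b : G} (h : HCfg T τ a b) :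
    Nat.card T = 27 := by
  rw [← card_Vec]
  symm
  refine Nat.card_eq_of_bijective (fun v => (⟨τ v, h.τ_mem v⟩ : T)) ⟨?_, ?_⟩
  · intro v v' hvv
    exact h.τ_inj (congrArg Subtype.val hvv)
  · rintro ⟨t, ht⟩
    obtain ⟨v, hv⟩ := h.memT t ht
    exact ⟨v, Subtype.ext hv⟩

theorem cs_mem {T : Subgroup G} {τ : Vec → G} {a b : G} (h : HCfg T τ a b) (i : Fin 4) :
    cs a b i ∈ Subgroup.normalizer (T : Set G) := by
  fin_cases i
  · exact one_mem _
  · exact h.aN
  · exact h.bN
  · exact mul_mem h.aN h.bN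

theorem tcs_injective {T : Subgroup G} {τ : Vec → G} {a b : G} (h : HCfg T τ a b)
    {w w' : Vec} {i j : Fin 4} (he : τ w * cs a b i = τ w' * cs a b j) : w = w' ∧ i = j := by
  have hij : i = j := by
    apply sig_injective
    have h1 := conj_tcs h i w 1
    have h2 := conj_tcs h j w' 1
    rw [he, h2] at h1
    have := h.τ_inj h1
    rw [mul_one, mul_one] at this
    exact this.symm
  subst hij
  exact ⟨h.τ_inj (mul_right_cancel he), rfl⟩

theorem card_normalizer {T : Subgroup G} {τ : Vec → G} {a b : G} (h : HCfg T τ a b) :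
    Nat.card (Subgroup.normalizer (T : Set G)) = 108 := by
  have hc : Nat.card (Vec × Fin 4) = 108 := by
    rw [Nat.card_prod, card_Vec, Nat.card_eq_fintype_card, Fintype.card_fin]
  rw [← hc]
  symm
  refine Nat.card_eq_of_bijective
    (fun x : Vec × Fin 4 => (⟨τ x.1 * cs a b x.2,
      mul_mem (Subgroup.le_normalizer (h.τ_mem x.1)) (cs_mem h x.2)⟩ :
        Subgroup.normalizer (T : Set G))) ⟨?_, ?_⟩
  · rintro ⟨w, i⟩ ⟨w', j⟩ hx
    have he : τ w * cs a b i = τ w' * cs a b j :=
      congrArg (fun z : Subgroup.normalizer (T : Set G) => (z : G)) hx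
    obtain ⟨h1, h2⟩ := tcs_injective h he
    rw [h1, h2]
  · rintro ⟨n, hn⟩
    obtain ⟨w, i, hwi⟩ := exists_tcs h n hn
    exact ⟨(w, i), Subtype.ext hwi.symm⟩

/-- (A2) `T` is a Sylow 3-subgroup of `G`, and `|N_G(T)| = 108`. -/
theorem sylow_of_hcfg [Finite G] {T : Subgroup G} {τ : Vec → G} {a b : G} (h : HCfg T τ a b) :
    (∃ P : Sylow 3 G, (P : Subgroup G) = T) ∧
      Nat.card (Subgroup.normalizer (T : Set G)) = 108 := by
  refine ⟨?_, card_normalizer h⟩
  have : Fact (Nat.Prime 3) := ⟨by norm_num⟩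
  have hT27 := card_T h
  have hTp : IsPGroup 3 T := IsPGroup.of_card (n := 3) (by rw [hT27]; norm_num)
  obtain ⟨P, hTP⟩ := hTp.exists_le_sylow
  refine ⟨P, ?_⟩
  -- `K = P ⊓ N(T)` is a 3-subgroup of `N(T)` containing `T`, hence equals `T`
  set N := Subgroup.normalizer (T : Set G) with hNdef
  have hK : (P : Subgroup G) ⊓ N = T := by
    have hTK : T ≤ (P : Subgroup G) ⊓ N := le_inf hTP Subgroup.le_normalizer
    have hKp : IsPGroup 3 ((P : Subgroup G) ⊓ N : Subgroup G) := P.2.to_le inf_le_left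
    obtain ⟨k, hk⟩ := IsPGroup.iff_card.1 hKp
    have hdvd : Nat.card ((P : Subgroup G) ⊓ N : Subgroup G) ∣ 108 := by
      rw [← card_normalizer h]
      exact Subgroup.card_dvd_of_le inf_le_right
    rw [hk] at hdvd
    have hdvd27 : 3 ^ k ∣ 27 := by
      have hcop : Nat.Coprime (3 ^ k) 4 := Nat.Coprime.pow_left k (by norm_num)
      have : (108 : ℕ) = 4 * 27 := by norm_num
      rw [this] at hdvd
      exact hcop.dvd_of_dvd_mul_left hdvd
    have hle : Nat.card ((P : Subgroup G) ⊓ N : Subgroup G) ≤ Nat.card T := by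
      rw [hk, hT27]
      exact Nat.le_of_dvd (by norm_num) hdvd27
    exact (Subgroup.eq_of_le_of_card_ge hTK hle).symm
  -- normalizer condition in `P`
  by_contra hne
  have hlt : T.subgroupOf P < ⊤ := by
    rw [lt_top_iff_ne_top]
    intro htop
    rw [Subgroup.subgroupOf_eq_top] at htop
    exact hne (le_antisymm htop hTP)
  have : Group.IsNilpotent P := P.2.isNilpotent
  have hnc := Group.normalizerCondition_of_isNilpotent (G := P) (T.subgroupOf P) hlt
  obtain ⟨x, hxN, hxT⟩ := SetLike.exists_of_lt hnc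
  apply hxT
  rw [Subgroup.mem_subgroupOf]
  have hxG : (x : G) ∈ N := by
    rw [hNdef]
    apply Subgroup.mem_normalizer_fintype
    intro g hg
    have hgP : g ∈ (P : Subgroup G) := hTP hg
    have hmem : (⟨g, hgP⟩ : P) ∈ T.subgroupOf P := Subgroup.mem_subgroupOf.2 hg
    have := (Subgroup.mem_normalizer_iff.1 hxN ⟨g, hgP⟩).1 hmem
    exact Subgroup.mem_subgroupOf.1 this
  have : (x : G) ∈ (P : Subgroup G) ⊓ N := ⟨x.2, hxG⟩
  rw [hK] at this
  exact this

end Cfsg.Agent.Helper73.E27
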