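import Cfsg.Agent.Helper91.FTC.Fi24.Pres
import Cfsg.Agent.Helper53.FTC_APP
import Cfsg.Agent.Helper53.FTC_REV

set_option autoImplicit false

/-!
helper73: piece (HBASE) of helper91's FastTC farm 2 (#15288, S1690): the 82 base relators hold in the
presented group.
-/

namespace Cfsg.Agent.Helper73.FTC

open Cfsg.Agent.Helper91.FTC Cfsg.Agent.Helper91.FTC.Fi24 Cfsg.Spor

theorem HBASE_all_nodes (x : Fi24.Gen) : x ∈ coxNodes Fi24.edges := by
  cases x <;> decide

/-- the Coxeter relations in the presented group -/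
theorem HBASE_cox (x y : Fi24.Gen) :
    (PresentedGroup.mk rels (FreeGroup.of x) * PresentedGroup.mk rels (FreeGroup.of y)) ^
      coxLabel Fi24.edges x y = 1 := by
  rw [← map_mul, ← map_pow, PresentedGroup.mk_eq_one_iff]
  apply Subgroup.subset_normalClosure
  left
  exact ⟨x, HBASE_all_nodes x, y, HBASE_all_nodes y, rfl⟩

theorem HBASE_sq (y : ℕ) : γ y * γ y = 1 := by
  have h := HBASE_cox (gen y) (gen y)
  have h1 : coxLabel Fi24.edges (gen y) (gen y) = 1 := by simp [coxLabel]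
  rw [h1, pow_one] at h
  exact h

/-- the pairs `x < y < 12` in lexicographic order -/
def HBASE_pairs : List (ℕ × ℕ) :=
  (List.range 12).flatMap fun x => ((List.range 12).filter fun y => x < y).map fun y => (x, y)

/-- the Coxeter word of a pair -/
def HBASE_cw (p : ℕ × ℕ) : List ℕ :=
  (List.replicate (coxLabel Fi24.edges (gen p.1) (gen p.2)) [p.1, p.2]).flatten

/-- the first long relator -/
def HBASE_long1 : List ℕ := 0 :: (List.replicate 9 [10, 7, 6, 5, 4, 3, 2]).flatten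

/-- the second long relator -/
def HBASE_long2 : List ℕ :=
  (List.replicate 17 [5, 4, 3, 2, 1, 0, 5, 6, 7, 8, 9, 5, 10, 11]).flatten

set_option maxRecDepth 100000 in
theorem HBASE_base_eq : base = (List.range 12).map (fun y => [y, y]) ++ HBASE_pairs.map HBASE_cw ++
    [HBASE_long1, HBASE_long1.reverse, HBASE_long2, HBASE_long2.reverse] := by
  decide

theorem HBASE_rel1 : γ 0 * ((γ 2 * γ 3 * γ 4 * γ 5 * γ 6 * γ 7 * γ 10) ^ 9)⁻¹ = 1 := by
  have h : PresentedGroup.mk rels (Fi24.l * (((Fi24.a * Fi24.b * Fi24.c * Fi24.d * Fi24.e * Fi24.f *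
      Fi24.h) ^ 9)⁻¹)) = 1 := by
    rw [PresentedGroup.mk_eq_one_iff]
    apply Subgroup.subset_normalClosure
    right
    simp [Fi24.extra]
  rw [map_mul, map_inv, map_pow, map_mul, map_mul, map_mul, map_mul, map_mul, map_mul] at h
  exact h

theorem HBASE_rel2 : (γ 5 * γ 4 * γ 3 * γ 2 * γ 1 * γ 0 * γ 5 * γ 6 * γ 7 * γ 8 * γ 9 * γ 5 * γ 10 *
    γ 11) ^ 17 = 1 := by
  have h : PresentedGroup.mk rels ((Fi24.d * Fi24.c * Fi24.b * Fi24.a * Fi24.k * Fi24.l * Fi24.d *
      Fi24.e * Fi24.f * Fi24.g * Fi24.j * Fi24.d * Fi24.h * Fi24.i) ^ 17) = 1 := by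
    rw [PresentedGroup.mk_eq_one_iff]
    apply Subgroup.subset_normalClosure
    right
    simp [Fi24.extra]
  rw [map_pow, map_mul, map_mul, map_mul, map_mul, map_mul, map_mul, map_mul, map_mul, map_mul,
    map_mul, map_mul, map_mul, map_mul] at h
  exact h

theorem HBASE_long1_eval : evalW γ HBASE_long1 = 1 := by
  unfold HBASE_long1
  rw [evalW, Cfsg.Agent.Helper53.FTC.evalW_replicate_flatten]
  have hrev : ([10, 7, 6, 5, 4, 3, 2] : List ℕ) = ([2, 3, 4, 5, 6, 7, 10] : List ℕ).reverse := by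
    decide
  rw [hrev, Cfsg.Agent.Helper53.FTC.evalW_reverse γ _ (fun z _ => HBASE_sq z), inv_pow]
  have he : evalW γ [2, 3, 4, 5, 6, 7, 10] = γ 2 * γ 3 * γ 4 * γ 5 * γ 6 * γ 7 * γ 10 := by
    simp only [evalW, mul_one, mul_assoc]
  rw [he]
  exact HBASE_rel1

theorem HBASE_long2_eval : evalW γ HBASE_long2 = 1 := by
  unfold HBASE_long2
  rw [Cfsg.Agent.Helper53.FTC.evalW_replicate_flatten]
  have he : evalW γ [5, 4, 3, 2, 1, 0, 5, 6, 7, 8, 9, 5, 10, 11] =
      γ 5 * γ 4 * γ 3 * γ 2 * γ 1 * γ 0 * γ 5 * γ 6 * γ 7 * γ 8 * γ 9 * γ 5 * γ 10 * γ 11 := by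
    simp only [evalW, mul_one, mul_assoc]
  rw [he]
  exact HBASE_rel2

/-- (HBASE) the base relators hold in the presented group. -/
theorem base_eval : ∀ w ∈ base, evalW γ w = 1 := by
  intro w hw
  rw [HBASE_base_eq] at hw
  simp only [List.mem_append, List.mem_map, List.mem_cons, List.mem_nil_iff, or_false] at hw
  rcases hw with (⟨y, _, rfl⟩ | ⟨p, _, rfl⟩) | rfl | rfl | rfl | rfl
  · simp only [evalW, mul_one]
    exact HBASE_sq y
  · unfold HBASE_cw
    rw [Cfsg.Agent.Helper53.FTC.evalW_replicate_flatten]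
    have he : evalW γ [p.1, p.2] = γ p.1 * γ p.2 := by simp only [evalW, mul_one]
    rw [he]
    exact HBASE_cox (gen p.1) (gen p.2)
  · exact HBASE_long1_eval
  · rw [Cfsg.Agent.Helper53.FTC.evalW_reverse γ _ (fun z _ => HBASE_sq z), HBASE_long1_eval, inv_one]
  · exact HBASE_long2_eval
  · rw [Cfsg.Agent.Helper53.FTC.evalW_reverse γ _ (fun z _ => HBASE_sq z), HBASE_long2_eval, inv_one]

end Cfsg.Agent.Helper73.FTC
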