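import Cfsg.Agent.Helper91.FTC.Fi24.Pres

set_option autoImplicit false

/-!
helper73: piece (HFIX) of helper91's FastTC farm 2 (#15288, S1690).
-/

namespace Cfsg.Agent.Helper73.FTC

open Cfsg.Agent.Helper91.FTC Cfsg.Agent.Helper91.FTC.Fi24 Cfsg.Spor

/-- (HFIX) if the generators other than `k` fix a point, so does `H`. -/
theorem fix_of_gens {α : Type*} (ρ : PresentedGroup rels →* Equiv.Perm α) (x0 : α)
    (h : ∀ y, y < 12 → y ≠ 1 → ρ (γ y) x0 = x0) : ∀ u ∈ H, ρ u x0 = x0 := by
  intro u hu
  unfold H at hu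
  obtain ⟨w, hw, rfl⟩ := Subgroup.mem_map.mp hu
  induction hw using Subgroup.closure_induction with
  | mem g hg =>
    simp only [Set.mem_insert_iff, Set.mem_singleton_iff] at hg
    rcases hg with rfl | rfl | rfl | rfl | rfl | rfl | rfl | rfl | rfl | rfl | rfl
    · exact h 2 (by norm_num) (by norm_num)
    · exact h 3 (by norm_num) (by norm_num)
    · exact h 4 (by norm_num) (by norm_num)
    · exact h 5 (by norm_num) (by norm_num)
    · exact h 6 (by norm_num) (by norm_num)
    · exact h 7 (by norm_num) (by norm_num)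
    · exact h 8 (by norm_num) (by norm_num)
    · exact h 10 (by norm_num) (by norm_num)
    · exact h 11 (by norm_num) (by norm_num)
    · exact h 9 (by norm_num) (by norm_num)
    · exact h 0 (by norm_num) (by norm_num)
  | one => rw [map_one, map_one]; rfl
  | mul a b _ _ iha ihb =>
    rw [map_mul, map_mul, Equiv.Perm.mul_apply, ihb (Subgroup.mem_map_of_mem _ ‹_›),
      iha (Subgroup.mem_map_of_mem _ ‹_›)]
  | inv a _ iha =>
    rw [map_inv, map_inv, Equiv.Perm.inv_eq_iff_eq]
    exact (iha (Subgroup.mem_map_of_mem _ ‹_›)).symm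

end Cfsg.Agent.Helper73.FTC
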