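import Mathlib

/-!
Helper73, GR-D part a: abstract lemmas on normal subgroups of odd order.
-/

set_option autoImplicit false

namespace Cfsg.Agent.Helper73.GRD

/-- a simple group of even order has no non-trivial normal subgroup of odd order -/
theorem eq_bot_of_simple_even {P : Type*} [Group P] [Finite P] (hs : IsSimpleGroup P)
    (he : Even (Nat.card P)) (N : Subgroup P) (hN : N.Normal) (ho : Odd (Nat.card ↥N)) :
    N = ⊥ := by
  rcases hN.eq_bot_or_eq_top with h | h
  · exact h
  · exfalso
    rw [h, Subgroup.card_top] at ho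
    exact (Nat.not_even_iff_odd.2 ho) he

/-- an element `w` outside the centre whose square is central gives an involution of the
central quotient -/
theorem even_card_quot_center {S : Type*} [Group S] [Finite S] (w : S)
    (hw : w ∉ Subgroup.center S) (hw2 : w ^ 2 ∈ Subgroup.center S) :
    Even (Nat.card (S ⧸ Subgroup.center S)) := by
  rw [even_iff_two_dvd]
  have h1 : orderOf (QuotientGroup.mk w : S ⧸ Subgroup.center S) = 2 := by
    apply orderOf_eq_prime
    · rw [← QuotientGroup.mk_pow]
      exact (QuotientGroup.eq_one_iff _).2 hw2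
    · intro h
      exact hw ((QuotientGroup.eq_one_iff _).1 h)
  rw [← h1]
  exact orderOf_dvd_natCard _

/-- transfer of "no normal subgroup of odd order" from `S / Z(S)` to a central quotient of `S`,
when `Z(S)` is a `2`-group -/
theorem eq_bot_of_surjective {S Ω' : Type*} [Group S] [Finite S] [Group Ω'] (κ : S →* Ω')
    (hsurj : Function.Surjective κ) (hker : κ.ker ≤ Subgroup.center S)
    (h2 : IsPGroup 2 ↥(Subgroup.center S))
    (hP : ∀ N : Subgroup (S ⧸ Subgroup.center S), N.Normal → Odd (Nat.card ↥N) → N = ⊥)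
    (M : Subgroup Ω') (hM : M.Normal) (ho : Odd (Nat.card ↥M)) : M = ⊥ := by
  classical
  have : Finite Ω' := Finite.of_surjective κ hsurj
  -- the induced map `Ω' → S / Z(S)`
  let ψ : Ω' →* S ⧸ Subgroup.center S :=
    κ.liftOfSurjective hsurj ⟨QuotientGroup.mk' (Subgroup.center S), by
      rw [QuotientGroup.ker_mk']
      exact hker⟩
  have hψ : ∀ s : S, ψ (κ s) = QuotientGroup.mk s := by
    intro s
    exact MonoidHom.liftOfRightInverse_comp_apply _ _ _ _ s
  have hψs : Function.Surjective ψ := by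
    intro y
    obtain ⟨s, rfl⟩ := QuotientGroup.mk_surjective y
    exact ⟨κ s, hψ s⟩
  have hN : (M.map ψ).Normal := hM.map ψ hψs
  have hdvd : Nat.card ↥(M.map ψ) ∣ Nat.card ↥M := Subgroup.card_map_dvd M ψ
  have hoN : Odd (Nat.card ↥(M.map ψ)) := by
    rcases hdvd with ⟨c, hc⟩
    rw [hc] at ho
    exact (Nat.odd_mul.1 ho).1
  have hbot := hP _ hN hoN
  rw [Subgroup.eq_bot_iff_forall]
  intro m hm
  have h1 : ψ m = 1 := by
    have : ψ m ∈ M.map ψ := Subgroup.mem_map_of_mem ψ hm
    rw [hbot] at this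
    exact Subgroup.mem_bot.1 this
  obtain ⟨s, rfl⟩ := hsurj m
  rw [hψ] at h1
  have hs : s ∈ Subgroup.center S := (QuotientGroup.eq_one_iff s).1 h1
  obtain ⟨k, hk⟩ := h2 ⟨s, hs⟩
  have hk' : s ^ 2 ^ k = 1 := by
    have := congrArg Subtype.val hk
    simpa using this
  have e1 : (κ s) ^ 2 ^ k = 1 := by rw [← map_pow, hk', map_one]
  have e2 : (κ s) ^ Nat.card ↥M = 1 := by
    have h5 : (⟨κ s, hm⟩ : ↥M) ^ Nat.card ↥M = 1 := pow_card_eq_one'
    have h6 := congrArg Subtype.val h5
    rwa [Subgroup.coe_pow] at h6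
  have hcop : Nat.Coprime (2 ^ k) (Nat.card ↥M) :=
    Nat.Coprime.pow_left k (Nat.coprime_two_left.2 ho)
  have h3 := pow_gcd_eq_one.2 ⟨e1, e2⟩
  rw [Nat.Coprime.gcd_eq_one hcop, pow_one] at h3
  exact h3

end Cfsg.Agent.Helper73.GRD
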