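import Mathlib
import Cfsg.Agent.Helper73.GRDa
import Cfsg.Agent.Helper37.BalD
import Cfsg.Agent.Helper5.Omega3
import Cfsg.Agent.Helper5.PSL2Simple
import Cfsg.Agent.Helper5.PSL2
import Cfsg.Agent.Helper96.KleinSpGroup
import Cfsg.Agent.S0270
import Cfsg.Agent.S0269
import Cfsg.Agent.S0246
import Cfsg.Agent.S0245
import Cfsg.Agent.S0295

/-!
Helper73, GR-D (for helper37's S2733): the groups `Ω_{2k+1}(q)`, `q` odd, `k ≥ 1`, have no
non-trivial normal subgroup of odd order.
-/

set_option autoImplicit false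

namespace Cfsg.Agent.Helper73.GRD

open Matrix

variable {F : Type*} [Field F] [Fintype F]

/-! ### `k ≥ 3` -/

theorem case_ge_three (hodd : Odd (Fintype.card F)) (k : ℕ) (hk : 3 ≤ k)
    (M : Subgroup ↥(Cfsg.Omega F (Cfsg.quadFormOdd k F))) (hM : M.Normal)
    (hc : Odd (Nat.card ↥M)) : M = ⊥ := by
  classical
  have h2 : (2 : F) ≠ 0 := Cfsg.Agent.Helper5.two_ne_zero_of_odd_card hodd
  have hnd := Cfsg.Agent.Helper5.nondegenerate_oddForm (F := F) h2 k
  have hcardι : Fintype.card (Unit ⊕ (Fin k ⊕ Fin k)) = 2 * k + 1 := by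
    simp [Fintype.card_sum]; ring
  have hn : 7 ≤ Fintype.card (Unit ⊕ (Fin k ⊕ Fin k)) := by
    rw [hcardι]; omega
  have ho : Odd (Fintype.card (Unit ⊕ (Fin k ⊕ Fin k))) := by
    rw [hcardι]; exact ⟨k, rfl⟩
  have hZ : Subgroup.center ↥(Cfsg.Omega F (Cfsg.quadFormOdd k F)) = ⊥ :=
    Cfsg.Agent.Helper12.GammaO.center_Omega_eq_bot_odd (Cfsg.Agent.Helper44.oddForm k F) h2 hnd hn ho
  have hs : IsSimpleGroup (Cfsg.POmega F (Cfsg.quadFormOdd k F)) :=
    Cfsg.Agent.S0295.result hodd k hk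
  have he : Even (Nat.card (Cfsg.POmega F (Cfsg.quadFormOdd k F))) :=
    even_iff_two_dvd.2 (Cfsg.Agent.Helper37.Bal.even_card_POmega_odd hodd hk)
  have hfin : Finite ↥(Cfsg.Omega F (Cfsg.quadFormOdd k F)) := inferInstance
  refine eq_bot_of_surjective (MonoidHom.id _) Function.surjective_id ?_ ?_ ?_ M hM hc
  · rw [MonoidHom.ker_id]; exact bot_le
  · rw [hZ]; exact IsPGroup.of_bot
  · intro N hN hoN
    exact eq_bot_of_simple_even hs he N hN hoN


/-! ### `k = 2` : `Ω₅` is a central quotient of `Sp₄` -/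

theorem case_two (hodd : Odd (Fintype.card F))
    (M : Subgroup ↥(Cfsg.Omega F (Cfsg.quadFormOdd 2 F))) (hM : M.Normal)
    (hc : Odd (Nat.card ↥M)) : M = ⊥ := by
  classical
  have h2 : (2 : F) ≠ 0 := Cfsg.Agent.Helper5.two_ne_zero_of_odd_card hodd
  have h3 : 3 ≤ Fintype.card F := by
    have h1 : 1 < Fintype.card F := Fintype.one_lt_card
    rcases hodd with ⟨k, hk⟩
    omega
  have hfs : Finite (Matrix.symplecticGroup (Fin 2) F) := Cfsg.Agent.Helper96.KleinSp.finite_Sp
  have hfo : Finite (Cfsg.Agent.Helper96.KleinSp.O5 F) := Cfsg.Agent.Helper96.KleinSp.finite_O5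
  have hperf : commutator (Matrix.symplecticGroup (Fin 2) F) = ⊤ :=
    Cfsg.Agent.S0269.result 2 (Or.inr (Or.inl ⟨rfl, h3⟩))
  have hidx := Cfsg.Agent.Helper96.index_range_of_card (Cfsg.Agent.Helper96.KleinSp.spHom h2)
    (Cfsg.Agent.Helper96.KleinSp.card_O5_eq hodd) (Cfsg.Agent.Helper96.KleinSp.card_ker h2)
  have hrange := Cfsg.Agent.Helper96.range_eq_commutator_of_perfect
    (Cfsg.Agent.Helper96.KleinSp.spHom h2) hperf hidx
  let κ' : Matrix.symplecticGroup (Fin 2) F →* ↥(Cfsg.Omega F (Cfsg.quadFormOdd 2 F)) :=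
    (Cfsg.Agent.Helper96.KleinSp.spHom h2).codRestrict _ (fun g => by
      show Cfsg.Agent.Helper96.KleinSp.spHom h2 g ∈ commutator (Cfsg.Agent.Helper96.KleinSp.O5 F)
      rw [← hrange]
      exact ⟨g, rfl⟩)
  have hsurj : Function.Surjective κ' := by
    rintro ⟨x, hx⟩
    have hx' : x ∈ (Cfsg.Agent.Helper96.KleinSp.spHom h2).range := by
      rw [hrange]; exact hx
    obtain ⟨g, rfl⟩ := hx'
    exact ⟨g, rfl⟩
  have hker : κ'.ker ≤ Subgroup.center (Matrix.symplecticGroup (Fin 2) F) := by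
    intro g hg
    apply Cfsg.Agent.Helper96.KleinSp.ker_le_center h2
    rw [MonoidHom.mem_ker] at hg ⊢
    exact congrArg Subtype.val hg
  have hcz : Nat.card (Subgroup.center (Matrix.symplecticGroup (Fin 2) F)) = 2 := by
    rw [Cfsg.Agent.S0246.result (F := F) rfl 2 (by norm_num)]
    rcases hodd with ⟨k, hk⟩
    rw [hk]
    have : 2 * k + 1 - 1 = 2 * k := by omega
    rw [this]
    exact Nat.gcd_eq_left ⟨k, rfl⟩
  have hp2 : IsPGroup 2 ↥(Subgroup.center (Matrix.symplecticGroup (Fin 2) F)) :=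
    IsPGroup.of_card (n := 1) (by rw [hcz, pow_one])
  have hs : IsSimpleGroup (Cfsg.PSp 2 F) := Cfsg.Agent.S0270.result 2 le_rfl (fun _ => h3)
  have he : Even (Nat.card (Cfsg.PSp 2 F)) := by
    have h5 := Subgroup.card_eq_card_quotient_mul_card_subgroup
      (Subgroup.center (Matrix.symplecticGroup (Fin 2) F))
    rw [hcz, Cfsg.Agent.S0245.result (F := F) rfl 2] at h5
    -- `4 ∣ q^2 - 1`
    obtain ⟨k, hk⟩ := hodd
    have h4 : 4 ∣ ∏ i ∈ Finset.range 2, (Fintype.card F ^ (2 * (i + 1)) - 1) := by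
      have h0 : 0 ∈ Finset.range 2 := Finset.mem_range.2 (by omega)
      refine dvd_trans ?_ (Finset.dvd_prod_of_mem _ h0)
      rw [hk]
      refine ⟨k ^ 2 + k, ?_⟩
      have : (2 * k + 1) ^ (2 * (0 + 1)) = 4 * (k ^ 2 + k) + 1 := by ring
      rw [this]
      omega
    have h6 : 4 ∣ Nat.card (Cfsg.PSp 2 F) * 2 := by
      rw [← h5]
      exact Dvd.dvd.mul_left h4 _
    rw [even_iff_two_dvd]
    omega
  refine eq_bot_of_surjective κ' hsurj hker hp2 ?_ M hM hc
  intro N hN hoN
  exact eq_bot_of_simple_even hs he N hN hoN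

/-! ### `k = 1` : `Ω₃ ≅ PSL₂` -/

/-- `PSL₂(3)` has no non-trivial normal subgroup of odd order -/
theorem psl2_three (h3 : Fintype.card F = 3)
    (N : Subgroup (Matrix.ProjectiveSpecialLinearGroup (Fin 2) F)) (hN : N.Normal)
    (ho : Odd (Nat.card ↥N)) : N = ⊥ := by
  classical
  have h2 : (2 : F) ≠ 0 := Cfsg.Agent.Helper5.two_ne_zero_of_odd_card (by rw [h3]; decide)
  have hthree : (3 : F) = 0 := by
    have := Nat.cast_card_eq_zero F
    rw [h3] at this
    exact_mod_cast this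
  have hcard : Nat.card (Matrix.ProjectiveSpecialLinearGroup (Fin 2) F) = 12 := by
    have := Cfsg.Agent.Helper5.card_PSL2_mul (F := F)
    rw [Cfsg.Agent.Helper5.card_center_SL2_of_two_ne_zero h2, h3] at this
    omega
  have hdvd : Nat.card ↥N ∣ 12 := hcard ▸ Subgroup.card_subgroup_dvd_card N
  have hN13 : Nat.card ↥N = 1 ∨ Nat.card ↥N = 3 := by
    have hle : Nat.card ↥N ≤ 12 := Nat.le_of_dvd (by norm_num) hdvd
    have hpos : 0 < Nat.card ↥N := Nat.card_pos
    rcases ho with ⟨j, hj⟩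
    rw [hj] at hdvd hle ⊢
    have hj5 : j ≤ 5 := by omega
    interval_cases j <;> simp_all
  rcases hN13 with h1 | h3'
  · exact Subgroup.card_eq_one.1 h1
  · exfalso
    have hq : Nat.card (Matrix.ProjectiveSpecialLinearGroup (Fin 2) F ⧸ N) = 4 := by
      have := Subgroup.card_eq_card_quotient_mul_card_subgroup N
      rw [hcard, h3'] at this
      omega
    have key : ∀ u : Matrix.ProjectiveSpecialLinearGroup (Fin 2) F, u ^ 3 = 1 → u ∈ N := by
      intro u hu
      have e4 : (QuotientGroup.mk u : Matrix.ProjectiveSpecialLinearGroup (Fin 2) F ⧸ N) ^ 4 = 1 := by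
        rw [← hq]; exact pow_card_eq_one'
      have e3 : (QuotientGroup.mk u : Matrix.ProjectiveSpecialLinearGroup (Fin 2) F ⧸ N) ^ 3 = 1 := by
        rw [← QuotientGroup.mk_pow, hu]; rfl
      have e1 : (QuotientGroup.mk u : Matrix.ProjectiveSpecialLinearGroup (Fin 2) F ⧸ N) = 1 := by
        have : (QuotientGroup.mk u : Matrix.ProjectiveSpecialLinearGroup (Fin 2) F ⧸ N) =
            (QuotientGroup.mk u) ^ 4 * ((QuotientGroup.mk u) ^ 3)⁻¹ := by group
        rw [this, e4, e3]; simp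
      exact (QuotientGroup.eq_one_iff u).1 e1
    have h01 : (0 : Fin 2) ≠ 1 := by decide
    have h10 : (1 : Fin 2) ≠ 0 := by decide
    set x : SpecialLinearGroup (Fin 2) F := SpecialLinearGroup.transvection h01 1 with hx
    set y : SpecialLinearGroup (Fin 2) F := SpecialLinearGroup.transvection h10 1 with hy
    have hx3 : x ^ 3 = 1 := by
      rw [pow_succ, pow_two, hx, ← SpecialLinearGroup.transvection_add,
        ← SpecialLinearGroup.transvection_add]
      have : (1 : F) + 1 + 1 = 0 := by linear_combination hthree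
      rw [this, SpecialLinearGroup.transvection_coeff_zero]
    have hy3 : y ^ 3 = 1 := by
      rw [pow_succ, pow_two, hy, ← SpecialLinearGroup.transvection_add,
        ← SpecialLinearGroup.transvection_add]
      have : (1 : F) + 1 + 1 = 0 := by linear_combination hthree
      rw [this, SpecialLinearGroup.transvection_coeff_zero]
    have hxN : (QuotientGroup.mk x : Matrix.ProjectiveSpecialLinearGroup (Fin 2) F) ∈ N :=
      key _ (by rw [← QuotientGroup.mk_pow, hx3]; rfl)
    have hyN : (QuotientGroup.mk y : Matrix.ProjectiveSpecialLinearGroup (Fin 2) F) ∈ N :=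
      key _ (by rw [← QuotientGroup.mk_pow, hy3]; rfl)
    have : Fact (Nat.Prime 3) := ⟨by norm_num⟩
    have hcyc : IsCyclic ↥N := isCyclic_of_prime_card h3'
    have hcomm := (IsCyclic.isMulCommutative (α := ↥N)).is_comm.comm
      ⟨_, hxN⟩ ⟨_, hyN⟩
    have hcomm' : (QuotientGroup.mk (x * y) : Matrix.ProjectiveSpecialLinearGroup (Fin 2) F) =
        QuotientGroup.mk (y * x) := by
      have := congrArg Subtype.val hcomm
      simpa using this
    rw [QuotientGroup.eq, Matrix.SpecialLinearGroup.mem_center_iff] at hcomm'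
    obtain ⟨r, -, hr⟩ := hcomm'
    have e : x * y * ((x * y)⁻¹ * (y * x)) = y * x := by group
    have e' := congrArg (fun z : SpecialLinearGroup (Fin 2) F => (z : Matrix (Fin 2) (Fin 2) F)) e
    simp only [Matrix.SpecialLinearGroup.coe_mul (x * y)] at e'
    rw [← hr] at e'
    simp only [Matrix.SpecialLinearGroup.coe_mul] at e'
    have e01 := congrFun (congrFun e' 0) 1
    have e00 := congrFun (congrFun e' 0) 0
    simp [hx, hy, SpecialLinearGroup.transvection_coe, Matrix.mul_apply, Fin.sum_univ_two,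
      Matrix.one_apply, Matrix.single_apply] at e01 e00
    -- `e01 : r = 1`, `e00 : 2 r = 1`
    rw [e01, mul_one] at e00
    have h10' : (1 : F) = 0 := by linear_combination e00
    exact one_ne_zero h10'


theorem case_one (hodd : Odd (Fintype.card F))
    (M : Subgroup ↥(Cfsg.Omega F (Cfsg.quadFormOdd 1 F))) (hM : M.Normal)
    (hc : Odd (Nat.card ↥M)) : M = ⊥ := by
  classical
  have h2 : (2 : F) ≠ 0 := Cfsg.Agent.Helper5.two_ne_zero_of_odd_card hodd
  let κ' : SpecialLinearGroup (Fin 2) F →* ↥(Cfsg.Omega F (Cfsg.quadFormOdd 1 F)) :=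
    (Cfsg.Agent.Helper5.adHom (F := F)).codRestrict _ (fun g =>
      Cfsg.Agent.Helper5.range_adHom_le_commutator h2 ⟨g, rfl⟩)
  have hsurj : Function.Surjective κ' := by
    rintro ⟨x, hx⟩
    obtain ⟨g, rfl⟩ := Cfsg.Agent.Helper5.commutator_le_range_adHom h2 hx
    exact ⟨g, rfl⟩
  have hker : κ'.ker ≤ Subgroup.center (SpecialLinearGroup (Fin 2) F) := by
    intro g hg
    rw [← Cfsg.Agent.Helper5.adHom_ker]
    rw [MonoidHom.mem_ker] at hg ⊢
    exact congrArg Subtype.val hg
  have hcz := Cfsg.Agent.Helper5.card_center_SL2_of_two_ne_zero (F := F) h2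
  have hp2 : IsPGroup 2 ↥(Subgroup.center (SpecialLinearGroup (Fin 2) F)) :=
    IsPGroup.of_card (n := 1) (by rw [hcz, pow_one])
  refine eq_bot_of_surjective κ' hsurj hker hp2 ?_ M hM hc
  intro N hN hoN
  by_cases h4 : 4 ≤ Fintype.card F
  · have hs := Cfsg.Agent.Helper5.isSimpleGroup_PSL2_of_card (F := F) h4
    have he : Even (Nat.card (Matrix.ProjectiveSpecialLinearGroup (Fin 2) F)) := by
      have h5 := Cfsg.Agent.Helper5.card_PSL2_mul (F := F)
      rw [hcz] at h5
      obtain ⟨k, hk⟩ := hodd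
      have h6 : 4 ∣ Fintype.card F ^ 2 - 1 := by
        rw [hk]
        refine ⟨k ^ 2 + k, ?_⟩
        have : (2 * k + 1) ^ 2 = 4 * (k ^ 2 + k) + 1 := by ring
        rw [this]
        omega
      have h7 : 4 ∣ Nat.card (Matrix.ProjectiveSpecialLinearGroup (Fin 2) F) * 2 := by
        rw [h5]
        exact Dvd.dvd.mul_left h6 _
      rw [even_iff_two_dvd]
      omega
    exact eq_bot_of_simple_even hs he N hN hoN
  · have h3 : Fintype.card F = 3 := by
      have h1 : 1 < Fintype.card F := Fintype.one_lt_card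
      rcases hodd with ⟨k, hk⟩
      omega
    exact psl2_three h3 N hN hoN

/-- **GR-D**: `Ω_{2k+1}(q)`, `q` odd, `k ≥ 1`, has no non-trivial normal subgroup of odd
order. -/
theorem Omega_odd_no_normal_odd {F : Type*} [Field F] [Fintype F] (hodd : Odd (Fintype.card F))
    (k : ℕ) (hk : 1 ≤ k) (M : Subgroup ↥(Cfsg.Omega F (Cfsg.quadFormOdd k F))) (hM : M.Normal)
    (hc : Odd (Nat.card ↥M)) : M = ⊥ := by
  rcases Nat.lt_or_ge k 3 with h | h
  · interval_cases k
    · exact case_one hodd M hM hc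
    · exact case_two hodd M hM hc
  · exact case_ge_three hodd k h M hM hc

end Cfsg.Agent.Helper73.GRD
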