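import Mathlib
import Cfsg.Agent.Helper59.JCentD

set_option autoImplicit false
set_option linter.unusedSectionVars false
set_option linter.unusedSimpArgs false
set_option linter.unusedVariables false

/-!
# The commutant of a Jordan type matrix as an algebra; the top map is multiplicative; a section
-/

namespace Cfsg.Agent.Helper73.GUCent

open Module Matrix
open Cfsg.Agent.Helper43 Cfsg.Agent.Helper43.JT Cfsg.Agent.Helper59.JCent

universe u
variable {F : Type u} [Field F] {t : ℕ} (d : Fin t → ℕ) (hd : ∀ k, 1 ≤ d k)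

theorem one_mem_comm : (1 : Matrix ((k : Fin t) × Fin (d k)) ((k : Fin t) × Fin (d k)) F) ∈ comm F d := by
  rw [mem_comm, one_mul, mul_one]

theorem mul_mem_comm {g h : Matrix ((k : Fin t) × Fin (d k)) ((k : Fin t) × Fin (d k)) F}
    (hg : g ∈ comm F d) (hh : h ∈ comm F d) : g * h ∈ comm F d := by
  rw [mem_comm] at *
  rw [mul_assoc, hh, ← mul_assoc, hg, mul_assoc]

theorem inv_mem_comm {g gi : Matrix ((k : Fin t) × Fin (d k)) ((k : Fin t) × Fin (d k)) F}
    (hg : g ∈ comm F d) (h1 : g * gi = 1) (h2 : gi * g = 1) : gi ∈ comm F d := by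
  rw [mem_comm] at *
  calc gi * Cfsg.jordanTypeMatrix d F = gi * Cfsg.jordanTypeMatrix d F * (g * gi) := by
        rw [h1, mul_one]
    _ = gi * (Cfsg.jordanTypeMatrix d F * g) * gi := by simp only [mul_assoc]
    _ = gi * (g * Cfsg.jordanTypeMatrix d F) * gi := by rw [hg]
    _ = (gi * g) * Cfsg.jordanTypeMatrix d F * gi := by simp only [mul_assoc]
    _ = Cfsg.jordanTypeMatrix d F * gi := by rw [h2, one_mul]

theorem topSub_one : topSub d hd (1 : Matrix ((k : Fin t) × Fin (d k)) ((k : Fin t) × Fin (d k)) F) = 1 := by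
  ext l k
  rw [topSub, Matrix.submatrix_apply, Matrix.one_apply, Matrix.one_apply]
  by_cases h : l = k
  · subst h; simp
  · rw [if_neg h, if_neg]
    intro h'
    exact h (top_injective d hd h')

theorem topSub_mul {g h : Matrix ((k : Fin t) × Fin (d k)) ((k : Fin t) × Fin (d k)) F}
    (hg : g ∈ comm F d) (hh : h ∈ comm F d) :
    topSub d hd (g * h) = topSub d hd g * topSub d hd h := by
  apply Matrix.toLin'.injective
  apply LinearMap.ext
  intro y
  rw [Matrix.toLin'_apply, Matrix.toLin'_mul, LinearMap.comp_apply, Matrix.toLin'_apply,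
    Matrix.toLin'_apply, topSub_mulVec, topSub_mulVec, topSub_mulVec]
  set w := h *ᵥ incl d F hd y with hw
  have h1 : proj d F hd (w - incl d F hd (proj d F hd w)) = 0 := by
    rw [map_sub, proj_incl, sub_self]
  have h2 := proj_mulVec_of_proj_eq_zero d hd hg h1
  rw [Matrix.mulVec_sub, map_sub, sub_eq_zero] at h2
  rw [← Matrix.mulVec_mulVec, ← hw, h2]

/-- Diagonal blocks of a product of block triangular matrices. -/
theorem toSquareBlock_mul_of_blockTriangular {A B : Matrix (Fin t) (Fin t) F}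
    (hA : A.BlockTriangular d) (hB : B.BlockTriangular d) (i : ℕ) :
    (A * B).toSquareBlock d i = A.toSquareBlock d i * B.toSquareBlock d i := by
  ext a b
  rw [Matrix.toSquareBlock_def, Matrix.of_apply, Matrix.mul_apply, Matrix.mul_apply]
  have hsum : ∑ k, A a.1 k * B k b.1
      = ∑ k ∈ Finset.univ.filter (fun k : Fin t => d k = i), A a.1 k * B k b.1 := by
    symm
    apply Finset.sum_subset (Finset.filter_subset _ _)
    intro k _ hk
    rw [Finset.mem_filter] at hk
    have hk' : d k ≠ i := fun h => hk ⟨Finset.mem_univ _, h⟩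
    rcases lt_or_gt_of_ne hk' with hlt | hgt
    · have : A a.1 k = 0 := hA (by rw [a.2]; exact hlt)
      rw [this, zero_mul]
    · have : B k b.1 = 0 := hB (by rw [b.2]; exact hgt)
      rw [this, mul_zero]
  rw [hsum, Finset.sum_subtype (p := fun k : Fin t => d k = i)
    (Finset.univ.filter (fun k : Fin t => d k = i))
    (fun k => by simp) (fun k => A a.1 k * B k b.1)]
  rfl

theorem Phi_mul (g h : comm F d) :
    Phi d hd ⟨g.1 * h.1, mul_mem_comm d g.2 h.2⟩ = Phi d hd g * Phi d hd h := by
  funext i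
  show (topSub d hd (g.1 * h.1)).toSquareBlock d i = _
  rw [topSub_mul d hd g.2 h.2,
    toSquareBlock_mul_of_blockTriangular d (topSub_blockTriangular d hd g.2)
      (topSub_blockTriangular d hd h.2)]
  rfl

theorem Phi_one : Phi d hd ⟨(1 : Matrix _ _ F), one_mem_comm d⟩ = 1 := by
  funext i
  show (topSub d hd (1 : Matrix _ _ F)).toSquareBlock d i = 1
  rw [topSub_one]
  ext a b
  rw [Matrix.toSquareBlock_def, Matrix.of_apply, Matrix.one_apply, Matrix.one_apply]
  by_cases h : a = b
  · subst h; simp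
  · rw [if_neg h, if_neg]
    intro h'
    exact h (Subtype.ext h')

/-- The section of `Phi`: block-scalar matrices. -/
noncomputable def secS (M : DD F d) :
    Matrix ((k : Fin t) × Fin (d k)) ((k : Fin t) × Fin (d k)) F :=
  Matrix.of fun x y => if (x.2 : ℕ) = (y.2 : ℕ) then cOf d M x.1 y.1 else 0

theorem secS_apply (M : DD F d) (x y : (k : Fin t) × Fin (d k)) :
    secS d M x y = if (x.2 : ℕ) = (y.2 : ℕ) then cOf d M x.1 y.1 else 0 := rfl

theorem cOf_eq_zero (M : DD F d) {l k : Fin t} (h : d l ≠ d k) : cOf d M l k = 0 := by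
  rw [cOf, dif_neg h]

theorem secS_eq_ofGens (M : DD F d) : secS d M = ofGens d (wOf d hd M) := by
  ext x y
  rw [secS_apply, ofGens, Matrix.of_apply, Nd_pow_apply]
  by_cases h1 : (y.2 : ℕ) ≤ (x.2 : ℕ)
  · rw [if_pos h1]
    by_cases h2 : (x.2 : ℕ) = (y.2 : ℕ)
    · rw [if_pos h2]
      have : dn d (y.2 : ℕ) x = top d hd x.1 := by
        apply idx_ext
        · rfl
        · simp only [dn_snd, top_snd]; omega
      rw [this, wOf_top]
    · rw [if_neg h2]
      unfold wOf
      rw [Finset.sum_apply]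
      apply (Finset.sum_eq_zero _).symm
      intro l _
      rw [Pi.smul_apply, gen, Pi.single_eq_of_ne, smul_zero]
      intro h'
      have h3 : ((dn d (y.2 : ℕ) x).2 : ℕ) = ((top d hd l).2 : ℕ) := by rw [h']
      simp only [dn_snd, top_snd] at h3
      omega
  · rw [if_neg h1, if_neg (by omega)]

include hd in
theorem secS_mem_comm (M : DD F d) : secS d M ∈ comm F d := by
  rw [secS_eq_ofGens d hd]
  exact ofGens_mem_comm d hd _ (wOf_mem d hd M)

theorem cOf_of_eq (M : DD F d) (i : Fin (Finset.univ.sup d + 1))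
    (a b : {a : Fin t // d a = (i : ℕ)}) : cOf d M a.1 b.1 = M i a b := by
  obtain ⟨iv, hi⟩ := i
  obtain ⟨a, ha⟩ := a
  obtain ⟨b, hb⟩ := b
  simp only at ha hb
  subst hb
  rw [cOf, dif_pos ha]

theorem Phi_secS (M : DD F d) : Phi d hd ⟨secS d M, secS_mem_comm d hd M⟩ = M := by
  funext i
  ext a b
  rw [Phi_apply]
  simp only
  rw [secS_apply, if_pos (by simp)]
  exact cOf_of_eq d M i a b

end Cfsg.Agent.Helper73.GUCent
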