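import Mathlib
import Cfsg.Agent.Helper73.GUCentA
import Cfsg.Agent.Helper73.HermNorm

set_option autoImplicit false
set_option linter.unusedSectionVars false
set_option linter.unusedSimpArgs false
set_option linter.unusedVariables false

/-!
# Conjugate transpose on arbitrary index types, the block Hermitian form and the involution `tau`
-/

namespace Cfsg.Agent.Helper73.GUCent

open Module Matrix Polynomial
open Cfsg.Agent.Helper43 Cfsg.Agent.Helper43.JT Cfsg.Agent.Helper59.JCent

section Star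

variable {K : Type*} [Field K] {m : Type*} [Fintype m] [DecidableEq m]

/-- conjugate transpose with respect to `bar`. -/
def sT (bar : K →+* K) (M : Matrix m m K) : Matrix m m K := (M.map bar)ᵀ

theorem sT_apply (bar : K →+* K) (M : Matrix m m K) (i j : m) : sT bar M i j = bar (M j i) := rfl

theorem sT_mul (bar : K →+* K) (M N : Matrix m m K) : sT bar (M * N) = sT bar N * sT bar M := by
  ext i j
  simp only [sT_apply, Matrix.mul_apply, map_sum, map_mul]
  exact Finset.sum_congr rfl fun k _ => mul_comm _ _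

theorem sT_add (bar : K →+* K) (M N : Matrix m m K) : sT bar (M + N) = sT bar M + sT bar N := by
  ext i j
  simp only [sT_apply, Matrix.add_apply, map_add]

theorem sT_sub (bar : K →+* K) (M N : Matrix m m K) : sT bar (M - N) = sT bar M - sT bar N := by
  ext i j
  simp only [sT_apply, Matrix.sub_apply, map_sub]

theorem sT_zero (bar : K →+* K) : sT bar (0 : Matrix m m K) = 0 := by
  ext i j
  simp only [sT_apply, Matrix.zero_apply, map_zero]

theorem sT_smul (bar : K →+* K) (c : K) (M : Matrix m m K) : sT bar (c • M) = bar c • sT bar M := by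
  ext i j
  simp only [sT_apply, Matrix.smul_apply, smul_eq_mul, map_mul]

theorem sT_one (bar : K →+* K) : sT bar (1 : Matrix m m K) = 1 := by
  ext i j
  simp only [sT_apply, Matrix.one_apply]
  by_cases h : i = j
  · subst h; simp
  · rw [if_neg h, if_neg (Ne.symm h), map_zero]

theorem sT_sT (bar : K →+* K) (hbar2 : ∀ x, bar (bar x) = x) (M : Matrix m m K) :
    sT bar (sT bar M) = M := by
  ext i j
  simp only [sT_apply, hbar2]

theorem sT_pow (bar : K →+* K) (M : Matrix m m K) (k : ℕ) : sT bar (M ^ k) = sT bar M ^ k := by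
  induction k with
  | zero => simp [sT_one]
  | succ k ih => rw [pow_succ, sT_mul, ih, pow_succ']

theorem sT_aeval (bar : K →+* K) (M : Matrix m m K) (p : K[X]) :
    sT bar (aeval M p) = aeval (sT bar M) (p.map bar) := by
  induction p using Polynomial.induction_on' with
  | add p q hp hq => rw [map_add, sT_add, hp, hq, Polynomial.map_add, map_add]
  | monomial k c =>
    rw [Polynomial.map_monomial, Polynomial.aeval_monomial, Polynomial.aeval_monomial,
      ← Algebra.smul_def, ← Algebra.smul_def, sT_smul, sT_pow]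

theorem det_sT (bar : K →+* K) (M : Matrix m m K) : (sT bar M).det = bar M.det := by
  unfold sT
  rw [Matrix.det_transpose]
  exact (RingHom.map_det bar M).symm

theorem charpoly_sT (bar : K →+* K) (M : Matrix m m K) :
    (sT bar M).charpoly = M.charpoly.map bar := by
  unfold sT
  rw [Matrix.charpoly_transpose, Matrix.charpoly_map]

theorem sT_inv_of_mul (bar : K →+* K) {M N : Matrix m m K} (h : M * N = 1) :
    sT bar N * sT bar M = 1 := by
  rw [← sT_mul, h, sT_one]

theorem commute_aeval' {h A : Matrix m m K} (hc : h * A = A * h) (p : K[X]) :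
    aeval h p * A = A * aeval h p := by
  induction p using Polynomial.induction_on' with
  | add p q hp hq => rw [map_add, add_mul, mul_add, hp, hq]
  | monomial k c =>
    rw [Polynomial.aeval_monomial, ← Algebra.smul_def, Matrix.smul_mul, Matrix.mul_smul]
    congr 1
    induction k with
    | zero => simp
    | succ k ih => rw [pow_succ, mul_assoc, hc, ← mul_assoc, ih, mul_assoc]

/-- A nonsingular Hermitian matrix over a finite field is `c* c` with `c` a polynomial in it. -/
theorem herm_factor' [Finite K] (bar : K →+* K) (hbar2 : ∀ x, bar (bar x) = x)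
    (hbarne : ∃ x, bar x ≠ x) (h : Matrix m m K) (hh : sT bar h = h)
    (hdet : h.det ≠ 0) : ∃ p : K[X], sT bar (aeval h p) * aeval h p = h := by
  have hm0 : h.charpoly ≠ 0 := (Matrix.charpoly_monic h).ne_zero
  have hm : h.charpoly.map bar = h.charpoly := by
    rw [← charpoly_sT, hh]
  have hcop : IsCoprime (X : K[X]) h.charpoly := by
    refine (Polynomial.irreducible_X.coprime_iff_not_dvd).2 ?_
    rw [Polynomial.X_dvd_iff]
    intro h0
    apply hdet
    rw [Matrix.det_eq_sign_charpoly_coeff, h0, mul_zero]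
  obtain ⟨p, hp⟩ := Cfsg.Agent.Helper73.HermNorm.exists_norm_poly bar hbar2 hbarne hm0 hm
    (Polynomial.map_X bar) hcop
  refine ⟨p, ?_⟩
  obtain ⟨c, hc⟩ := hp
  have := congrArg (aeval h) hc
  rw [map_sub, map_mul, map_mul, Matrix.aeval_self_charpoly, zero_mul, Polynomial.aeval_X,
    sub_eq_zero] at this
  rw [sT_aeval, hh, this]

end Star

section Form

universe u
variable {K : Type u} [Field K] {t : ℕ} (d : Fin t → ℕ) (hd : ∀ k, 1 ≤ d k)
variable (bar : K →+* K) (hh : (i : ℕ) → Matrix (Fin i) (Fin i) K)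

/-- the block Hermitian form. -/
def H0 : Matrix ((k : Fin t) × Fin (d k)) ((k : Fin t) × Fin (d k)) K :=
  Matrix.blockDiagonal' fun k => hh (d k)

/-- cast-free entries of the blocks. -/
def hval (i a b : ℕ) : K := if h : a < i ∧ b < i then hh i ⟨a, h.1⟩ ⟨b, h.2⟩ else 0

theorem H0_apply (x y : (k : Fin t) × Fin (d k)) :
    H0 d hh x y = if x.1 = y.1 then hval hh (d x.1) x.2 y.2 else 0 := by
  obtain ⟨k, a⟩ := x
  obtain ⟨l, b⟩ := y
  by_cases h : k = l
  · subst h
    rw [H0, Matrix.blockDiagonal'_apply_eq, if_pos rfl, hval, dif_pos ⟨a.2, b.2⟩]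
  · rw [H0, Matrix.blockDiagonal'_apply_ne _ _ _ h, if_neg h]

theorem sT_blockDiagonal' (M : (k : Fin t) → Matrix (Fin (d k)) (Fin (d k)) K) :
    sT bar (Matrix.blockDiagonal' M) = Matrix.blockDiagonal' fun k => sT bar (M k) := by
  unfold sT
  rw [Matrix.blockDiagonal'_map _ _ (map_zero bar), Matrix.blockDiagonal'_transpose]

theorem sT_H0 (hherm : ∀ i, sT bar (hh i) = hh i) : sT bar (H0 d hh) = H0 d hh := by
  rw [H0, sT_blockDiagonal']
  congr 1
  funext k
  exact hherm (d k)

theorem det_H0_ne_zero (hdet : ∀ i, (hh i).det ≠ 0) : (H0 d hh).det ≠ 0 := by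
  have h : H0 d hh * Matrix.blockDiagonal' (fun k => (hh (d k))⁻¹) = 1 := by
    rw [H0, ← Matrix.blockDiagonal'_mul]
    have : (fun k => hh (d k) * (hh (d k))⁻¹)
        = fun k => (1 : Matrix (Fin (d k)) (Fin (d k)) K) := by
      funext k
      exact Matrix.mul_nonsing_inv _ (isUnit_iff_ne_zero.mpr (hdet (d k)))
    rw [this]
    exact Matrix.blockDiagonal'_one
  exact Matrix.det_ne_zero_of_right_inverse h

theorem H0_invariant
    (hinv : ∀ i, sT bar (Cfsg.jordanBlock i K) * hh i * Cfsg.jordanBlock i K = hh i) :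
    sT bar (Cfsg.jordanTypeMatrix d K) * H0 d hh * Cfsg.jordanTypeMatrix d K = H0 d hh := by
  rw [Cfsg.jordanTypeMatrix, H0, sT_blockDiagonal', ← Matrix.blockDiagonal'_mul,
    ← Matrix.blockDiagonal'_mul]
  congr 1
  funext k
  exact hinv (d k)

/-- A sum over the index type supported at one (possibly missing) index. -/
theorem sum_idx_single (f : ((k : Fin t) × Fin (d k)) → K) (k : Fin t) (j : ℕ)
    (hf : ∀ z : (k : Fin t) × Fin (d k), ¬ (z.1 = k ∧ (z.2 : ℕ) = j) → f z = 0) :
    ∑ z, f z = if h : j < d k then f ⟨k, ⟨j, h⟩⟩ else 0 := by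
  split_ifs with h
  · rw [Finset.sum_eq_single (⟨k, ⟨j, h⟩⟩ : (k : Fin t) × Fin (d k))]
    · intro z _ hz
      apply hf
      rintro ⟨h1, h2⟩
      apply hz
      exact idx_ext d h1 h2
    · intro h'
      exact absurd (Finset.mem_univ _) h'
  · apply Finset.sum_eq_zero
    intro z _
    apply hf
    rintro ⟨h1, h2⟩
    have h3 : (z.2 : ℕ) < d z.1 := z.2.isLt
    have h4 : d z.1 = d k := congrArg d h1
    omega

theorem hval_eq_zero_left {i a b : ℕ} (h : ¬ a < i) : hval hh i a b = 0 := by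
  rw [hval, dif_neg]
  rintro ⟨h1, _⟩
  exact h h1

theorem hval_eq_zero_right {i a b : ℕ} (h : ¬ b < i) : hval hh i a b = 0 := by
  rw [hval, dif_neg]
  rintro ⟨_, h1⟩
  exact h h1

theorem secS_mul_H0 (M : DD K d) (x y : (k : Fin t) × Fin (d k)) :
    (secS d M * H0 d hh) x y = cOf d M x.1 y.1 * hval hh (d y.1) x.2 y.2 := by
  rw [Matrix.mul_apply]
  rw [sum_idx_single d (fun z => secS d M x z * H0 d hh z y) y.1 (x.2 : ℕ)]
  · split_ifs with h
    · rw [secS_apply, if_pos rfl, H0_apply, if_pos rfl]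
    · rw [hval_eq_zero_left hh h, mul_zero]
  · intro z hz
    rw [secS_apply, H0_apply]
    by_cases h1 : (x.2 : ℕ) = (z.2 : ℕ)
    · by_cases h2 : z.1 = y.1
      · exact absurd ⟨h2, h1.symm⟩ hz
      · rw [if_neg h2, mul_zero]
    · rw [if_neg h1, zero_mul]

theorem H0_mul_secS (M : DD K d) (x y : (k : Fin t) × Fin (d k)) :
    (H0 d hh * secS d M) x y = hval hh (d x.1) x.2 y.2 * cOf d M x.1 y.1 := by
  rw [Matrix.mul_apply]
  rw [sum_idx_single d (fun z => H0 d hh x z * secS d M z y) x.1 (y.2 : ℕ)]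
  · split_ifs with h
    · rw [secS_apply, if_pos rfl, H0_apply, if_pos rfl]
    · rw [hval_eq_zero_right hh h, zero_mul]
  · intro z hz
    rw [secS_apply, H0_apply]
    by_cases h1 : (z.2 : ℕ) = (y.2 : ℕ)
    · by_cases h2 : x.1 = z.1
      · exact absurd ⟨h2.symm, h1⟩ hz
      · rw [if_neg h2, zero_mul]
    · rw [if_neg h1, mul_zero]

theorem secS_comm_H0 (M : DD K d) : secS d M * H0 d hh = H0 d hh * secS d M := by
  ext x y
  rw [secS_mul_H0, H0_mul_secS]
  by_cases h : d x.1 = d y.1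
  · have e : hval hh (d x.1) (x.2 : ℕ) (y.2 : ℕ) = hval hh (d y.1) (x.2 : ℕ) (y.2 : ℕ) :=
      congrArg (fun i => hval hh i (x.2 : ℕ) (y.2 : ℕ)) h
    rw [e, mul_comm]
  · rw [cOf_eq_zero d M h, zero_mul, mul_zero]

/-- blockwise conjugate transpose. -/
def dag (M : DD K d) : DD K d := fun i => sT bar (M i)

theorem cOf_dag (M : DD K d) (a b : Fin t) : cOf d (dag d bar M) a b = bar (cOf d M b a) := by
  by_cases h : d a = d b
  · have h1 := cOf_of_eq d (dag d bar M) ⟨d b, lt_sup_succ d b⟩ ⟨a, h⟩ ⟨b, rfl⟩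
    have h2 := cOf_of_eq d M ⟨d b, lt_sup_succ d b⟩ ⟨b, rfl⟩ ⟨a, h⟩
    simp only at h1 h2
    rw [h1, h2]
    rfl
  · rw [cOf_eq_zero d _ h, cOf_eq_zero d _ (Ne.symm h), map_zero]

theorem sT_secS (M : DD K d) : sT bar (secS d M) = secS d (dag d bar M) := by
  ext x y
  rw [sT_apply, secS_apply, secS_apply, cOf_dag]
  by_cases h : (x.2 : ℕ) = (y.2 : ℕ)
  · rw [if_pos h, if_pos h.symm]
  · rw [if_neg h, if_neg (Ne.symm h), map_zero]

/-- The involution `tau g = H0⁻¹ g* H0`. -/
noncomputable def tau (g : Matrix ((k : Fin t) × Fin (d k)) ((k : Fin t) × Fin (d k)) K) :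
    Matrix ((k : Fin t) × Fin (d k)) ((k : Fin t) × Fin (d k)) K :=
  (H0 d hh)⁻¹ * sT bar g * H0 d hh

section TauProps

variable (hdet : ∀ i, (hh i).det ≠ 0)
include hdet

theorem H0_inv_mul : (H0 d hh)⁻¹ * H0 d hh = 1 :=
  Matrix.nonsing_inv_mul _ (isUnit_iff_ne_zero.mpr (det_H0_ne_zero d hh hdet))

theorem H0_mul_inv : H0 d hh * (H0 d hh)⁻¹ = 1 :=
  Matrix.mul_nonsing_inv _ (isUnit_iff_ne_zero.mpr (det_H0_ne_zero d hh hdet))

theorem tau_mul (g h : Matrix ((k : Fin t) × Fin (d k)) ((k : Fin t) × Fin (d k)) K) :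
    tau d bar hh (g * h) = tau d bar hh h * tau d bar hh g := by
  unfold tau
  rw [sT_mul]
  calc (H0 d hh)⁻¹ * (sT bar h * sT bar g) * H0 d hh
      = (H0 d hh)⁻¹ * sT bar h * (H0 d hh * (H0 d hh)⁻¹) * sT bar g * H0 d hh := by
        rw [H0_mul_inv d hh hdet, mul_one]; simp only [mul_assoc]
    _ = _ := by simp only [mul_assoc]

theorem tau_one : tau d bar hh 1 = 1 := by
  unfold tau
  rw [sT_one, mul_one, H0_inv_mul d hh hdet]

theorem tau_add (g h : Matrix ((k : Fin t) × Fin (d k)) ((k : Fin t) × Fin (d k)) K) :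
    tau d bar hh (g + h) = tau d bar hh g + tau d bar hh h := by
  unfold tau
  rw [sT_add, mul_add, add_mul]

theorem tau_sub (g h : Matrix ((k : Fin t) × Fin (d k)) ((k : Fin t) × Fin (d k)) K) :
    tau d bar hh (g - h) = tau d bar hh g - tau d bar hh h := by
  unfold tau
  rw [sT_sub, mul_sub, sub_mul]

theorem tau_smul (c : K) (g : Matrix ((k : Fin t) × Fin (d k)) ((k : Fin t) × Fin (d k)) K) :
    tau d bar hh (c • g) = bar c • tau d bar hh g := by
  unfold tau
  rw [sT_smul, Matrix.mul_smul, Matrix.smul_mul]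

theorem tau_tau (hbar2 : ∀ x, bar (bar x) = x) (hherm : ∀ i, sT bar (hh i) = hh i)
    (g : Matrix ((k : Fin t) × Fin (d k)) ((k : Fin t) × Fin (d k)) K) :
    tau d bar hh (tau d bar hh g) = g := by
  have h1 : sT bar ((H0 d hh)⁻¹) * H0 d hh = 1 := by
    have := sT_inv_of_mul bar (H0_mul_inv d hh hdet)
    rwa [sT_H0 d bar hh hherm] at this
  have h2 : sT bar ((H0 d hh)⁻¹) = (H0 d hh)⁻¹ := by
    calc sT bar ((H0 d hh)⁻¹) = sT bar ((H0 d hh)⁻¹) * (H0 d hh * (H0 d hh)⁻¹) := by
          rw [H0_mul_inv d hh hdet, mul_one]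
      _ = (sT bar ((H0 d hh)⁻¹) * H0 d hh) * (H0 d hh)⁻¹ := by rw [mul_assoc]
      _ = (H0 d hh)⁻¹ := by rw [h1, one_mul]
  unfold tau
  rw [sT_mul, sT_mul, sT_sT bar hbar2, sT_H0 d bar hh hherm, h2]
  calc (H0 d hh)⁻¹ * (H0 d hh * (g * (H0 d hh)⁻¹)) * H0 d hh
      = ((H0 d hh)⁻¹ * H0 d hh) * g * ((H0 d hh)⁻¹ * H0 d hh) := by simp only [mul_assoc]
    _ = g := by rw [H0_inv_mul d hh hdet, one_mul, mul_one]

theorem det_tau (g : Matrix ((k : Fin t) × Fin (d k)) ((k : Fin t) × Fin (d k)) K) :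
    (tau d bar hh g).det = bar g.det := by
  unfold tau
  rw [Matrix.det_mul, Matrix.det_mul, det_sT, mul_comm, ← mul_assoc, ← Matrix.det_mul,
    H0_mul_inv d hh hdet, Matrix.det_one, one_mul]

theorem tau_secS (M : DD K d) : tau d bar hh (secS d M) = secS d (dag d bar M) := by
  unfold tau
  rw [sT_secS, mul_assoc, secS_comm_H0, ← mul_assoc, H0_inv_mul d hh hdet, one_mul]

theorem tau_mem_comm
    (hinv : ∀ i, sT bar (Cfsg.jordanBlock i K) * hh i * Cfsg.jordanBlock i K = hh i)
    {g : Matrix ((k : Fin t) × Fin (d k)) ((k : Fin t) × Fin (d k)) K} (hg : g ∈ comm K d) :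
    tau d bar hh g ∈ comm K d := by
  set J := Cfsg.jordanTypeMatrix d K with hJ
  set Ji := (H0 d hh)⁻¹ * sT bar J * H0 d hh with hJi
  have h1 : Ji * J = 1 := by
    rw [hJi, mul_assoc, mul_assoc, ← mul_assoc (sT bar J), H0_invariant d bar hh hinv,
      H0_inv_mul d hh hdet]
  have h2 : J * Ji = 1 := mul_eq_one_comm.mp h1
  have hg' : g * J = J * g := hg
  have h3 : sT bar J * sT bar g = sT bar g * sT bar J := by
    rw [← sT_mul, ← sT_mul, hg']
  have h4 : tau d bar hh g * Ji = Ji * tau d bar hh g := by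
    unfold tau
    rw [hJi]
    calc (H0 d hh)⁻¹ * sT bar g * H0 d hh * ((H0 d hh)⁻¹ * sT bar J * H0 d hh)
        = (H0 d hh)⁻¹ * sT bar g * (H0 d hh * (H0 d hh)⁻¹) * sT bar J * H0 d hh := by
          simp only [mul_assoc]
      _ = (H0 d hh)⁻¹ * (sT bar g * sT bar J) * H0 d hh := by
          rw [H0_mul_inv d hh hdet, mul_one]; simp only [mul_assoc]
      _ = (H0 d hh)⁻¹ * (sT bar J * sT bar g) * H0 d hh := by rw [h3]
      _ = (H0 d hh)⁻¹ * sT bar J * (H0 d hh * (H0 d hh)⁻¹) * sT bar g * H0 d hh := by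
          rw [H0_mul_inv d hh hdet, mul_one]; simp only [mul_assoc]
      _ = _ := by simp only [mul_assoc]
  rw [mem_comm]
  calc tau d bar hh g * J = (J * Ji) * (tau d bar hh g * J) := by rw [h2, one_mul]
    _ = J * (Ji * tau d bar hh g) * J := by simp only [mul_assoc]
    _ = J * (tau d bar hh g * Ji) * J := by rw [h4]
    _ = J * tau d bar hh g * (Ji * J) := by simp only [mul_assoc]
    _ = J * tau d bar hh g := by rw [h1, mul_one]

end TauProps

end Form

end Cfsg.Agent.Helper73.GUCent
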