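import Mathlib
import Cfsg.Agent.Helper73.GUCentB

set_option autoImplicit false
set_option linter.unusedSectionVars false
set_option linter.unusedSimpArgs false
set_option linter.unusedVariables false

/-!
# The radical of the commutant, its stability under `tau`, and `Phi ∘ tau = dag ∘ Phi`
-/

namespace Cfsg.Agent.Helper73.GUCent

open Module Matrix Polynomial
open Cfsg.Agent.Helper43 Cfsg.Agent.Helper43.JT Cfsg.Agent.Helper59.JCent

universe u
variable {K : Type u} [Field K] {t : ℕ} (d : Fin t → ℕ) (hd : ∀ k, 1 ≤ d k)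

/-- `Phi` on raw matrices. -/
def PhiM (g : Matrix ((k : Fin t) × Fin (d k)) ((k : Fin t) × Fin (d k)) K) : DD K d :=
  fun i => (topSub d hd g).toSquareBlock d i

theorem PhiM_apply (g : Matrix ((k : Fin t) × Fin (d k)) ((k : Fin t) × Fin (d k)) K)
    (i : Fin (Finset.univ.sup d + 1)) (a b : {a : Fin t // d a = (i : ℕ)}) :
    PhiM d hd g i a b = g (top d hd a.1) (top d hd b.1) := rfl

theorem PhiM_eq_Phi (g : comm K d) : PhiM d hd g.1 = Phi d hd g := rfl

theorem PhiM_add (g h : Matrix ((k : Fin t) × Fin (d k)) ((k : Fin t) × Fin (d k)) K) :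
    PhiM d hd (g + h) = PhiM d hd g + PhiM d hd h := by
  funext i; ext a b; rfl

theorem PhiM_sub (g h : Matrix ((k : Fin t) × Fin (d k)) ((k : Fin t) × Fin (d k)) K) :
    PhiM d hd (g - h) = PhiM d hd g - PhiM d hd h := by
  funext i; ext a b; rfl

theorem PhiM_smul (c : K) (g : Matrix ((k : Fin t) × Fin (d k)) ((k : Fin t) × Fin (d k)) K) :
    PhiM d hd (c • g) = c • PhiM d hd g := by
  funext i; ext a b; rfl

theorem PhiM_zero : PhiM d hd (0 : Matrix ((k : Fin t) × Fin (d k)) ((k : Fin t) × Fin (d k)) K) = 0 := by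
  funext i; ext a b; rfl

theorem PhiM_one : PhiM d hd (1 : Matrix ((k : Fin t) × Fin (d k)) ((k : Fin t) × Fin (d k)) K) = 1 :=
  Phi_one d hd

theorem PhiM_mul {g h : Matrix ((k : Fin t) × Fin (d k)) ((k : Fin t) × Fin (d k)) K}
    (hg : g ∈ comm K d) (hh : h ∈ comm K d) :
    PhiM d hd (g * h) = PhiM d hd g * PhiM d hd h :=
  Phi_mul d hd ⟨g, hg⟩ ⟨h, hh⟩

theorem PhiM_secS (M : DD K d) : PhiM d hd (secS d M) = M := Phi_secS d hd M

theorem isUnit_det_iff_PhiM {g : Matrix ((k : Fin t) × Fin (d k)) ((k : Fin t) × Fin (d k)) K}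
    (hg : g ∈ comm K d) :
    IsUnit g.det ↔ ∀ i : Fin (Finset.univ.sup d + 1), IsUnit (PhiM d hd g i).det := by
  rw [isUnit_det_iff_blocks d hd hg]
  constructor
  · intro h i
    exact h i
  · intro h i
    by_cases hi : i < Finset.univ.sup d + 1
    · exact h ⟨i, hi⟩
    · have : IsEmpty {a // d a = i} := by
        constructor
        rintro ⟨a, ha⟩
        have := lt_sup_succ d a
        omega
      rw [Matrix.det_isEmpty]
      exact isUnit_one

/-- A nonzero square matrix `B` admits `M` with `1 + M * B` singular. -/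
theorem exists_singular {ι : Type*} [Fintype ι] [DecidableEq ι] {B : Matrix ι ι K} (hB : B ≠ 0) :
    ∃ M : Matrix ι ι K, (1 + M * B).det = 0 := by
  obtain ⟨a, b, hab⟩ : ∃ a b, B a b ≠ 0 := by
    by_contra hcon
    push Not at hcon
    apply hB
    ext a b
    exact hcon a b
  refine ⟨Matrix.of fun x y => if x = b ∧ y = a then -(B a b)⁻¹ else 0, ?_⟩
  rw [← Matrix.exists_mulVec_eq_zero_iff]
  refine ⟨Pi.single b 1, ?_, ?_⟩
  · intro h
    have := congrFun h b
    simp at this
  · funext x
    rw [Matrix.mulVec_single_one, Matrix.col_apply, Matrix.add_apply, Matrix.mul_apply,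
      Matrix.one_apply]
    simp only [Matrix.of_apply, Pi.zero_apply]
    by_cases hx : x = b
    · subst hx
      rw [if_pos rfl, Finset.sum_eq_single a]
      · rw [if_pos ⟨rfl, rfl⟩]
        field_simp
        ring
      · intro z _ hz
        rw [if_neg (fun h => hz h.2), zero_mul]
      · intro h; exact absurd (Finset.mem_univ _) h
    · rw [if_neg hx]
      rw [Finset.sum_eq_zero, add_zero]
      intro z _
      rw [if_neg (fun h => hx h.1), zero_mul]

/-- Characterisation of the radical. -/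
theorem PhiM_eq_zero_iff {r : Matrix ((k : Fin t) × Fin (d k)) ((k : Fin t) × Fin (d k)) K}
    (hr : r ∈ comm K d) :
    PhiM d hd r = 0 ↔ ∀ x ∈ comm K d, IsUnit (1 + x * r).det := by
  constructor
  · intro h0 x hx
    have hmem : 1 + x * r ∈ comm K d :=
      (comm K d).add_mem (one_mem_comm d) (mul_mem_comm d hx hr)
    rw [isUnit_det_iff_PhiM d hd hmem]
    intro i
    rw [PhiM_add, PhiM_one, PhiM_mul d hd hx hr, h0, mul_zero, add_zero]
    simp
  · intro h
    by_contra hne
    obtain ⟨i, hi⟩ : ∃ i, PhiM d hd r i ≠ 0 := by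
      by_contra hcon
      push Not at hcon
      exact hne (funext hcon)
    obtain ⟨Mi, hMi⟩ := exists_singular hi
    set M : DD K d := Pi.single i Mi with hM
    have hx : secS d M ∈ comm K d := secS_mem_comm d hd M
    have h1 := h (secS d M) hx
    have hmem : 1 + secS d M * r ∈ comm K d :=
      (comm K d).add_mem (one_mem_comm d) (mul_mem_comm d hx hr)
    rw [isUnit_det_iff_PhiM d hd hmem] at h1
    have h2 := h1 i
    rw [PhiM_add, PhiM_one, PhiM_mul d hd hx hr, PhiM_secS] at h2
    have h3 : ((1 : DD K d) + M * PhiM d hd r) i = 1 + Mi * PhiM d hd r i := by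
      rw [Pi.add_apply, Pi.mul_apply, hM, Pi.single_eq_same]
      rfl
    rw [h3, hMi] at h2
    exact not_isUnit_zero h2

section TauStable

variable (bar : K →+* K) (hh : (i : ℕ) → Matrix (Fin i) (Fin i) K)
variable (hdet : ∀ i, (hh i).det ≠ 0) (hbar2 : ∀ x, bar (bar x) = x)
  (hherm : ∀ i, sT bar (hh i) = hh i)
  (hinv : ∀ i, sT bar (Cfsg.jordanBlock i K) * hh i * Cfsg.jordanBlock i K = hh i)
include hdet hbar2 hherm hinv

theorem PhiM_tau_eq_zero {r : Matrix ((k : Fin t) × Fin (d k)) ((k : Fin t) × Fin (d k)) K}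
    (hr : r ∈ comm K d) (h0 : PhiM d hd r = 0) : PhiM d hd (tau d bar hh r) = 0 := by
  have htr : tau d bar hh r ∈ comm K d := tau_mem_comm d bar hh hdet hinv hr
  rw [PhiM_eq_zero_iff d hd htr]
  intro x hx
  have hx' : tau d bar hh x ∈ comm K d := tau_mem_comm d bar hh hdet hinv hx
  have e : 1 + x * tau d bar hh r = tau d bar hh (1 + r * tau d bar hh x) := by
    rw [tau_add d bar hh hdet, tau_one d bar hh hdet, tau_mul d bar hh hdet,
      tau_tau d bar hh hdet hbar2 hherm]
  rw [e, det_tau d bar hh hdet, Matrix.det_one_add_mul_comm]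
  have := (PhiM_eq_zero_iff d hd hr).mp h0 _ hx'
  exact this.map bar

theorem PhiM_tau {g : Matrix ((k : Fin t) × Fin (d k)) ((k : Fin t) × Fin (d k)) K}
    (hg : g ∈ comm K d) : PhiM d hd (tau d bar hh g) = dag d bar (PhiM d hd g) := by
  set s := secS d (PhiM d hd g) with hs
  have hsm : s ∈ comm K d := secS_mem_comm d hd _
  have hr : g - s ∈ comm K d := (comm K d).sub_mem hg hsm
  have h0 : PhiM d hd (g - s) = 0 := by
    rw [PhiM_sub, hs, PhiM_secS, sub_self]
  have h1 := PhiM_tau_eq_zero d hd bar hh hdet hbar2 hherm hinv hr h0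
  rw [tau_sub d bar hh hdet, PhiM_sub, sub_eq_zero, hs, tau_secS d bar hh hdet, PhiM_secS] at h1
  exact h1

end TauStable

end Cfsg.Agent.Helper73.GUCent
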