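import Mathlib
import Cfsg.Agent.Helper73.GUCentC

set_option autoImplicit false
set_option linter.unusedSectionVars false
set_option linter.unusedSimpArgs false
set_option linter.unusedVariables false

/-!
# The norm map on the commutant is onto the Hermitian unipotent elements
-/

namespace Cfsg.Agent.Helper73.GUCent

open Module Matrix Polynomial
open Cfsg.Agent.Helper43 Cfsg.Agent.Helper43.JT Cfsg.Agent.Helper59.JCent

universe u
variable {K : Type u} [Field K] {t : ℕ} (d : Fin t → ℕ) (hd : ∀ k, 1 ≤ d k)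
variable (bar : K →+* K) (hh : (i : ℕ) → Matrix (Fin i) (Fin i) K)

theorem pow_mem_comm {h : Matrix ((k : Fin t) × Fin (d k)) ((k : Fin t) × Fin (d k)) K}
    (hm : h ∈ comm K d) (k : ℕ) : h ^ k ∈ comm K d := by
  induction k with
  | zero => rw [pow_zero]; exact one_mem_comm d
  | succ k ih => rw [pow_succ]; exact mul_mem_comm d ih hm

theorem aeval_mem_comm {h : Matrix ((k : Fin t) × Fin (d k)) ((k : Fin t) × Fin (d k)) K}
    (hm : h ∈ comm K d) (p : K[X]) : aeval h p ∈ comm K d := by
  rw [mem_comm]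
  exact commute_aeval' hm p

theorem PhiM_pow {h : Matrix ((k : Fin t) × Fin (d k)) ((k : Fin t) × Fin (d k)) K}
    (hm : h ∈ comm K d) (hP : PhiM d hd h = 1) (k : ℕ) : PhiM d hd (h ^ k) = 1 := by
  induction k with
  | zero => rw [pow_zero]; exact PhiM_one d hd
  | succ k ih => rw [pow_succ, PhiM_mul d hd (pow_mem_comm d hm k) hm, ih, hP, one_mul]

theorem PhiM_aeval {h : Matrix ((k : Fin t) × Fin (d k)) ((k : Fin t) × Fin (d k)) K}
    (hm : h ∈ comm K d) (hP : PhiM d hd h = 1) (p : K[X]) :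
    PhiM d hd (aeval h p) = p.eval 1 • (1 : DD K d) := by
  induction p using Polynomial.induction_on' with
  | add p q hp hq => rw [map_add, PhiM_add, hp, hq, Polynomial.eval_add, add_smul]
  | monomial k c =>
    rw [Polynomial.aeval_monomial, ← Algebra.smul_def, PhiM_smul, PhiM_pow d hd hm hP,
      Polynomial.eval_monomial, one_pow, mul_one]

section WithDet

variable (hdet : ∀ i, (hh i).det ≠ 0)
include hdet

theorem tau_pow (h : Matrix ((k : Fin t) × Fin (d k)) ((k : Fin t) × Fin (d k)) K) (k : ℕ) :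
    tau d bar hh (h ^ k) = tau d bar hh h ^ k := by
  induction k with
  | zero => rw [pow_zero, pow_zero]; exact tau_one d bar hh hdet
  | succ k ih => rw [pow_succ, tau_mul d bar hh hdet, ih, pow_succ']

theorem tau_aeval (h : Matrix ((k : Fin t) × Fin (d k)) ((k : Fin t) × Fin (d k)) K) (p : K[X]) :
    tau d bar hh (aeval h p) = aeval (tau d bar hh h) (p.map bar) := by
  induction p using Polynomial.induction_on' with
  | add p q hp hq => rw [map_add, tau_add d bar hh hdet, hp, hq, Polynomial.map_add, map_add]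
  | monomial k c =>
    rw [Polynomial.map_monomial, Polynomial.aeval_monomial, Polynomial.aeval_monomial,
      ← Algebra.smul_def, ← Algebra.smul_def, tau_smul d bar hh hdet, tau_pow d bar hh hdet]

theorem charpoly_tau (h : Matrix ((k : Fin t) × Fin (d k)) ((k : Fin t) × Fin (d k)) K) :
    (tau d bar hh h).charpoly = h.charpoly.map bar := by
  unfold tau
  rw [Matrix.charpoly_mul_comm, ← mul_assoc, H0_mul_inv d hh hdet, one_mul, charpoly_sT]

variable (hbar2 : ∀ x, bar (bar x) = x) (hbarne : ∃ x, bar x ≠ x)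
  (hherm : ∀ i, sT bar (hh i) = hh i)
  (hinv : ∀ i, sT bar (Cfsg.jordanBlock i K) * hh i * Cfsg.jordanBlock i K = hh i)
include hbar2 hbarne hherm hinv

/-- Norm surjectivity. -/
theorem exists_norm [Finite K]
    {h : Matrix ((k : Fin t) × Fin (d k)) ((k : Fin t) × Fin (d k)) K}
    (hm : h ∈ comm K d) (hP : PhiM d hd h = 1) (hτ : tau d bar hh h = h) :
    ∃ x, x ∈ comm K d ∧ PhiM d hd x = 1 ∧ tau d bar hh x * x = h := by
  classical
  rcases isEmpty_or_nonempty (Fin t) with hE | hN
  · have : IsEmpty ((k : Fin t) × Fin (d k)) := ⟨fun x => hE.false x.1⟩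
    exact ⟨h, hm, hP, Subsingleton.elim _ _⟩
  obtain ⟨k₀⟩ := hN
  have hunit : IsUnit h.det := by
    rw [isUnit_det_iff_PhiM d hd hm]
    intro i
    rw [hP]
    simp
  have hm0 : h.charpoly ≠ 0 := (Matrix.charpoly_monic h).ne_zero
  have hmσ : h.charpoly.map bar = h.charpoly := by
    rw [← charpoly_tau d bar hh hdet, hτ]
  have hcop : IsCoprime (X : K[X]) h.charpoly := by
    refine (Polynomial.irreducible_X.coprime_iff_not_dvd).2 ?_
    rw [Polynomial.X_dvd_iff]
    intro h0
    apply hunit.ne_zero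
    rw [Matrix.det_eq_sign_charpoly_coeff, h0, mul_zero]
  obtain ⟨p, c, hc⟩ := Cfsg.Agent.Helper73.HermNorm.exists_norm_poly bar hbar2 hbarne hm0 hmσ
    (Polynomial.map_X bar) hcop
  set x₀ := aeval h p with hx₀
  have hx₀m : x₀ ∈ comm K d := aeval_mem_comm d hm p
  have hnorm : tau d bar hh x₀ * x₀ = h := by
    have := congrArg (aeval h) hc
    rw [map_sub, map_mul, map_mul, Matrix.aeval_self_charpoly, zero_mul, Polynomial.aeval_X,
      sub_eq_zero] at this
    rw [hx₀, tau_aeval d bar hh hdet, hτ, this]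
  set l := p.eval 1 with hl
  have hPx₀ : PhiM d hd x₀ = l • (1 : DD K d) := PhiM_aeval d hd hm hP p
  have hll : bar l * l = 1 := by
    have h1 : PhiM d hd (tau d bar hh x₀ * x₀) = 1 := by rw [hnorm, hP]
    rw [PhiM_mul d hd (tau_mem_comm d bar hh hdet hinv hx₀m) hx₀m,
      PhiM_tau d hd bar hh hdet hbar2 hherm hinv hx₀m, hPx₀] at h1
    have h2 := congrFun h1 ⟨d k₀, lt_sup_succ d k₀⟩
    have h3 := congrFun (congrFun h2 ⟨k₀, rfl⟩) ⟨k₀, rfl⟩
    simp only [Pi.mul_apply, dag, Pi.smul_apply, Pi.one_apply, sT_smul, sT_one,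
      Matrix.smul_mul, Matrix.mul_smul, Matrix.one_mul, Matrix.smul_apply, Matrix.one_apply_eq,
      smul_eq_mul, mul_one] at h3
    rw [mul_comm]
    exact h3
  have hl0 : l ≠ 0 := by
    intro h0
    rw [h0, mul_zero] at hll
    exact zero_ne_one hll
  refine ⟨l⁻¹ • x₀, (comm K d).smul_mem _ hx₀m, ?_, ?_⟩
  · rw [PhiM_smul, hPx₀, smul_smul, inv_mul_cancel₀ hl0, one_smul]
  · rw [tau_smul d bar hh hdet, Matrix.smul_mul, Matrix.mul_smul, smul_smul, hnorm, map_inv₀,
      ← mul_inv, hll, inv_one, one_smul]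

end WithDet

end Cfsg.Agent.Helper73.GUCent
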