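import Mathlib
import Cfsg.Agent.Helper73.GUCentD

set_option autoImplicit false
set_option linter.unusedSectionVars false
set_option linter.unusedSimpArgs false
set_option linter.unusedVariables false

/-!
# Counting the unitary elements of the commutant
-/

namespace Cfsg.Agent.Helper73.GUCent

open Module Matrix Polynomial
open Cfsg.Agent.Helper43 Cfsg.Agent.Helper43.JT Cfsg.Agent.Helper59.JCent

universe u
variable {K : Type u} [Field K] {t : ℕ} (d : Fin t → ℕ) (hd : ∀ k, 1 ≤ d k)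
variable (bar : K →+* K) (hh : (i : ℕ) → Matrix (Fin i) (Fin i) K)

/-- The data of the family of Hermitian blocks. -/
structure FormData : Prop where
  hdet : ∀ i, (hh i).det ≠ 0
  hbar2 : ∀ x, bar (bar x) = x
  hbarne : ∃ x, bar x ≠ x
  hherm : ∀ i, sT bar (hh i) = hh i
  hinv : ∀ i, sT bar (Cfsg.jordanBlock i K) * hh i * Cfsg.jordanBlock i K = hh i

local notation "Mat" => Matrix ((k : Fin t) × Fin (d k)) ((k : Fin t) × Fin (d k)) K

/-- unitary elements of the commutant -/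
def UU : Set Mat := {g | g ∈ comm K d ∧ tau d bar hh g * g = 1}
/-- unipotent unitary elements -/
def U1 : Set Mat := {g | g ∈ comm K d ∧ PhiM d hd g = 1 ∧ tau d bar hh g * g = 1}
/-- unipotent elements -/
def G1 : Set Mat := {g | g ∈ comm K d ∧ PhiM d hd g = 1}
/-- Hermitian unipotent elements -/
def H1 : Set Mat := {g | g ∈ comm K d ∧ PhiM d hd g = 1 ∧ tau d bar hh g = g}
/-- the radical -/
def RR : Set Mat := {r | r ∈ comm K d ∧ PhiM d hd r = 0}
/-- Hermitian elements of the radical -/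
def Rp : Set Mat := {r | r ∈ comm K d ∧ PhiM d hd r = 0 ∧ tau d bar hh r = r}
/-- unitary elements of the block-diagonal quotient -/
def UD : Set (DD K d) := {M | dag d bar M * M = 1}

variable {d hd bar hh}

theorem dag_one : dag d bar (1 : DD K d) = 1 := by
  funext i
  exact sT_one bar

section API

variable (fd : FormData bar hh)
include fd

theorem G1_isUnit {x : Mat} (hx : x ∈ G1 (K := K) d hd) : IsUnit x.det := by
  rw [isUnit_det_iff_PhiM d hd hx.1]
  intro i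
  rw [hx.2]
  simp

theorem G1_mul_inv {x : Mat} (hx : x ∈ G1 (K := K) d hd) : x * x⁻¹ = 1 :=
  Matrix.mul_nonsing_inv _ (G1_isUnit fd hx)

theorem G1_inv_mul {x : Mat} (hx : x ∈ G1 (K := K) d hd) : x⁻¹ * x = 1 :=
  Matrix.nonsing_inv_mul _ (G1_isUnit fd hx)

theorem G1_mul {x y : Mat} (hx : x ∈ G1 (K := K) d hd) (hy : y ∈ G1 (K := K) d hd) : x * y ∈ G1 (K := K) d hd :=
  ⟨mul_mem_comm d hx.1 hy.1, by rw [PhiM_mul d hd hx.1 hy.1, hx.2, hy.2, one_mul]⟩

theorem G1_inv {x : Mat} (hx : x ∈ G1 (K := K) d hd) : x⁻¹ ∈ G1 (K := K) d hd := by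
  have hm : x⁻¹ ∈ comm K d := inv_mem_comm d hx.1 (G1_mul_inv fd hx) (G1_inv_mul fd hx)
  refine ⟨hm, ?_⟩
  have := PhiM_mul d hd hx.1 hm
  rw [G1_mul_inv fd hx, PhiM_one, hx.2, one_mul] at this
  exact this.symm

theorem G1_tau {x : Mat} (hx : x ∈ G1 (K := K) d hd) : tau d bar hh x ∈ G1 (K := K) d hd :=
  ⟨tau_mem_comm d bar hh fd.hdet fd.hinv hx.1, by
    rw [PhiM_tau d hd bar hh fd.hdet fd.hbar2 fd.hherm fd.hinv hx.1, hx.2, dag_one]⟩

theorem tau_inv_mul {x : Mat} (hx : x ∈ G1 (K := K) d hd) :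
    tau d bar hh x⁻¹ * tau d bar hh x = 1 := by
  rw [← tau_mul d bar hh fd.hdet, G1_mul_inv fd hx, tau_one d bar hh fd.hdet]

theorem tau_mul_inv {x : Mat} (hx : x ∈ G1 (K := K) d hd) :
    tau d bar hh x * tau d bar hh x⁻¹ = 1 := by
  rw [← tau_mul d bar hh fd.hdet, G1_inv_mul fd hx, tau_one d bar hh fd.hdet]

theorem norm_mem_H1 {x : Mat} (hx : x ∈ G1 (K := K) d hd) : tau d bar hh x * x ∈ H1 d hd bar hh := by
  refine ⟨mul_mem_comm d (G1_tau fd hx).1 hx.1, (G1_mul fd (G1_tau fd hx) hx).2, ?_⟩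
  rw [tau_mul d bar hh fd.hdet, tau_tau d bar hh fd.hdet fd.hbar2 fd.hherm]

end API

section Equivs

variable [Finite K] (fd : FormData bar hh)
include fd

theorem exists_section (h : H1 d hd bar hh) :
    ∃ x : Mat, x ∈ G1 (K := K) d hd ∧ tau d bar hh x * x = h.1 := by
  obtain ⟨x, h1, h2, h3⟩ := exists_norm d hd bar hh fd.hdet fd.hbar2 fd.hbarne fd.hherm fd.hinv
    h.2.1 h.2.2.1 h.2.2.2
  exact ⟨x, ⟨h1, h2⟩, h3⟩

/-- a section of the norm map -/
noncomputable def sec (h : H1 d hd bar hh) : Mat := Classical.choose (exists_section fd h)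

theorem sec_mem (h : H1 d hd bar hh) : sec fd h ∈ G1 (K := K) d hd :=
  (Classical.choose_spec (exists_section fd h)).1

theorem sec_norm (h : H1 d hd bar hh) : tau d bar hh (sec fd h) * sec fd h = h.1 :=
  (Classical.choose_spec (exists_section fd h)).2

/-- `G1 ≃ H1 × U1`. -/
noncomputable def equivG1 : G1 (K := K) d hd ≃ H1 d hd bar hh × U1 d hd bar hh where
  toFun x :=
    (⟨tau d bar hh x.1 * x.1, norm_mem_H1 fd x.2⟩,
     ⟨x.1 * (sec fd ⟨tau d bar hh x.1 * x.1, norm_mem_H1 fd x.2⟩)⁻¹, by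
        set s := sec fd ⟨tau d bar hh x.1 * x.1, norm_mem_H1 fd x.2⟩ with hs
        have hsm : s ∈ G1 (K := K) d hd := sec_mem fd _
        have hsn : tau d bar hh s * s = tau d bar hh x.1 * x.1 := sec_norm fd _
        have hw := G1_mul fd x.2 (G1_inv fd hsm)
        refine ⟨hw.1, hw.2, ?_⟩
        rw [tau_mul d bar hh fd.hdet]
        calc tau d bar hh s⁻¹ * tau d bar hh x.1 * (x.1 * s⁻¹)
            = tau d bar hh s⁻¹ * (tau d bar hh x.1 * x.1) * s⁻¹ := by simp only [mul_assoc]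
          _ = tau d bar hh s⁻¹ * (tau d bar hh s * s) * s⁻¹ := by rw [hsn]
          _ = (tau d bar hh s⁻¹ * tau d bar hh s) * (s * s⁻¹) := by simp only [mul_assoc]
          _ = 1 := by rw [tau_inv_mul fd hsm, G1_mul_inv fd hsm, one_mul]⟩)
  invFun p := ⟨p.2.1 * sec fd p.1, G1_mul fd ⟨p.2.2.1, p.2.2.2.1⟩ (sec_mem fd p.1)⟩
  left_inv x := by
    apply Subtype.ext
    simp only
    rw [mul_assoc, G1_inv_mul fd (sec_mem fd _), mul_one]
  right_inv p := by
    obtain ⟨h, w⟩ := p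
    have hn : tau d bar hh (w.1 * sec fd h) * (w.1 * sec fd h) = h.1 := by
      rw [tau_mul d bar hh fd.hdet]
      calc tau d bar hh (sec fd h) * tau d bar hh w.1 * (w.1 * sec fd h)
          = tau d bar hh (sec fd h) * (tau d bar hh w.1 * w.1) * sec fd h := by
            simp only [mul_assoc]
        _ = h.1 := by rw [w.2.2.2, mul_one, sec_norm]
    have hh' : (⟨tau d bar hh (w.1 * sec fd h) * (w.1 * sec fd h),
        norm_mem_H1 fd (G1_mul fd ⟨w.2.1, w.2.2.1⟩ (sec_mem fd h))⟩ : H1 d hd bar hh) = h :=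
      Subtype.ext hn
    apply Prod.ext
    · exact hh'
    · apply Subtype.ext
      simp only
      rw [hh', mul_assoc, G1_mul_inv fd (sec_mem fd h), mul_one]

/-- `G1 ≃ RR`. -/
def equivG1RR : G1 (K := K) d hd ≃ RR (K := K) d hd where
  toFun x := ⟨x.1 - 1, (comm K d).sub_mem x.2.1 (one_mem_comm d), by
    rw [PhiM_sub, x.2.2, PhiM_one, sub_self]⟩
  invFun r := ⟨r.1 + 1, (comm K d).add_mem r.2.1 (one_mem_comm d), by
    rw [PhiM_add, r.2.2, PhiM_one, zero_add]⟩
  left_inv x := by apply Subtype.ext; simp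
  right_inv r := by apply Subtype.ext; simp

/-- `H1 ≃ Rp`. -/
def equivH1Rp : H1 d hd bar hh ≃ Rp d hd bar hh where
  toFun x := ⟨x.1 - 1, (comm K d).sub_mem x.2.1 (one_mem_comm d), by
    rw [PhiM_sub, x.2.2.1, PhiM_one, sub_self], by
    rw [tau_sub d bar hh fd.hdet, x.2.2.2, tau_one d bar hh fd.hdet]⟩
  invFun r := ⟨r.1 + 1, (comm K d).add_mem r.2.1 (one_mem_comm d), by
    rw [PhiM_add, r.2.2.1, PhiM_one, zero_add], by
    rw [tau_add d bar hh fd.hdet, r.2.2.2, tau_one d bar hh fd.hdet]⟩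
  left_inv x := by apply Subtype.ext; simp
  right_inv r := by apply Subtype.ext; simp

/-- `RR ≃ Rp × Rp`. -/
noncomputable def equivRR : RR (K := K) d hd ≃ Rp d hd bar hh × Rp d hd bar hh := by
  classical
  have hω := fd.hbarne
  let ω : K := Classical.choose hω
  have hω' : bar ω ≠ ω := Classical.choose_spec hω
  have hne : ω - bar ω ≠ 0 := fun h => hω' (sub_eq_zero.mp h).symm
  have htr : ∀ r : Mat, r ∈ RR (K := K) d hd → tau d bar hh r ∈ RR (K := K) d hd := fun r hr =>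
    ⟨tau_mem_comm d bar hh fd.hdet fd.hinv hr.1,
      PhiM_tau_eq_zero d hd bar hh fd.hdet fd.hbar2 fd.hherm fd.hinv hr.1 hr.2⟩
  have hsub : ∀ r s : Mat, r ∈ RR (K := K) d hd → s ∈ RR (K := K) d hd → r - s ∈ RR (K := K) d hd := fun r s hr hs =>
    ⟨(comm K d).sub_mem hr.1 hs.1, by rw [PhiM_sub, hr.2, hs.2, sub_zero]⟩
  have hadd : ∀ r s : Mat, r ∈ RR (K := K) d hd → s ∈ RR (K := K) d hd → r + s ∈ RR (K := K) d hd := fun r s hr hs =>
    ⟨(comm K d).add_mem hr.1 hs.1, by rw [PhiM_add, hr.2, hs.2, add_zero]⟩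
  have hsm : ∀ (c : K) (r : Mat), r ∈ RR (K := K) d hd → c • r ∈ RR (K := K) d hd := fun c r hr =>
    ⟨(comm K d).smul_mem c hr.1, by rw [PhiM_smul, hr.2, smul_zero]⟩
  have hbinv : bar ((ω - bar ω)⁻¹) = -(ω - bar ω)⁻¹ := by
    rw [map_inv₀, map_sub, fd.hbar2, ← neg_sub, inv_neg]
  -- the `b` component
  have hb : ∀ r : Mat, tau d bar hh ((ω - bar ω)⁻¹ • (r - tau d bar hh r))
      = (ω - bar ω)⁻¹ • (r - tau d bar hh r) := by
    intro r
    rw [tau_smul d bar hh fd.hdet, tau_sub d bar hh fd.hdet,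
      tau_tau d bar hh fd.hdet fd.hbar2 fd.hherm, hbinv, neg_smul, ← smul_neg, neg_sub]
  have haux : ∀ r b : Mat, (ω - bar ω) • b = r - tau d bar hh r → tau d bar hh b = b →
      tau d bar hh (r - ω • b) = r - ω • b := by
    intro r b hb2 hbτ
    rw [tau_sub d bar hh fd.hdet, tau_smul d bar hh fd.hdet, hbτ]
    have h3 : tau d bar hh r = r - (ω - bar ω) • b := by rw [hb2]; abel
    rw [h3, sub_smul]
    abel
  have ha : ∀ r : Mat, tau d bar hh (r - ω • ((ω - bar ω)⁻¹ • (r - tau d bar hh r)))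
      = r - ω • ((ω - bar ω)⁻¹ • (r - tau d bar hh r)) := by
    intro r
    apply haux r _ _ (hb r)
    rw [smul_smul, mul_inv_cancel₀ hne, one_smul]
  exact
  { toFun := fun r =>
      (⟨r.1 - ω • ((ω - bar ω)⁻¹ • (r.1 - tau d bar hh r.1)),
        (hsub _ _ r.2 (hsm _ _ (hsm _ _ (hsub _ _ r.2 (htr _ r.2))))).1,
        (hsub _ _ r.2 (hsm _ _ (hsm _ _ (hsub _ _ r.2 (htr _ r.2))))).2, ha r.1⟩,
       ⟨(ω - bar ω)⁻¹ • (r.1 - tau d bar hh r.1),
        (hsm _ _ (hsub _ _ r.2 (htr _ r.2))).1, (hsm _ _ (hsub _ _ r.2 (htr _ r.2))).2, hb r.1⟩)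
    invFun := fun p => ⟨p.1.1 + ω • p.2.1,
      hadd _ _ ⟨p.1.2.1, p.1.2.2.1⟩ (hsm _ _ ⟨p.2.2.1, p.2.2.2.1⟩)⟩
    left_inv := by
      intro r
      apply Subtype.ext
      simp only
      abel
    right_inv := by
      rintro ⟨⟨a, ha1, ha2, ha3⟩, ⟨b, hb1, hb2, hb3⟩⟩
      have e : (ω - bar ω)⁻¹ • (a + ω • b - tau d bar hh (a + ω • b)) = b := by
        rw [tau_add d bar hh fd.hdet, tau_smul d bar hh fd.hdet, ha3, hb3]
        have : a + ω • b - (a + bar ω • b) = (ω - bar ω) • b := by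
          rw [sub_smul]; abel
        rw [this, smul_smul, inv_mul_cancel₀ hne, one_smul]
      apply Prod.ext
      · apply Subtype.ext
        simp only
        rw [e]
        abel
      · apply Subtype.ext
        simp only
        exact e }

/-- `RR ≃ ker Phi`. -/
def equivRRker : RR (K := K) d hd ≃ LinearMap.ker (Phi (F := K) d hd) where
  toFun r := ⟨⟨r.1, r.2.1⟩, LinearMap.mem_ker.mpr r.2.2⟩
  invFun x := ⟨x.1.1, x.1.2, LinearMap.mem_ker.mp x.2⟩
  left_inv r := rfl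
  right_inv x := rfl

end Equivs

end Cfsg.Agent.Helper73.GUCent
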