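import Mathlib
import Cfsg.Agent.Helper73.GUCentE

set_option autoImplicit false
set_option linter.unusedSectionVars false
set_option linter.unusedSimpArgs false
set_option linter.unusedVariables false

/-!
# The order of the unitary group of the commutant
-/

namespace Cfsg.Agent.Helper73.GUCent

open Module Matrix Polynomial
open Cfsg.Agent.Helper43 Cfsg.Agent.Helper43.JT Cfsg.Agent.Helper59.JCent

universe u
variable {K : Type u} [Field K] {t : ℕ} {d : Fin t → ℕ} {hd : ∀ k, 1 ≤ d k}
variable {bar : K →+* K} {hh : (i : ℕ) → Matrix (Fin i) (Fin i) K}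

local notation "Mat" => Matrix ((k : Fin t) × Fin (d k)) ((k : Fin t) × Fin (d k)) K

section Lift

variable [Finite K] (fd : FormData bar hh)
include fd

theorem UU_mul_tau {g : Mat} (hg : g ∈ UU d bar hh) : g * tau d bar hh g = 1 :=
  mul_eq_one_comm.mp hg.2

theorem PhiM_mem_UD {g : Mat} (hg : g ∈ UU d bar hh) : PhiM d hd g ∈ UD d bar := by
  show dag d bar (PhiM d hd g) * PhiM d hd g = 1
  rw [← PhiM_tau d hd bar hh fd.hdet fd.hbar2 fd.hherm fd.hinv hg.1,
    ← PhiM_mul d hd (tau_mem_comm d bar hh fd.hdet fd.hinv hg.1) hg.1, hg.2, PhiM_one]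

theorem exists_lift (M : UD d bar) :
    ∃ g : Mat, g ∈ UU d bar hh ∧ PhiM d hd g = M.1 := by
  set g₀ := secS d M.1 with hg₀
  have hg₀m : g₀ ∈ comm K d := secS_mem_comm d hd M.1
  have hP₀ : PhiM d hd g₀ = M.1 := PhiM_secS d hd M.1
  have htg₀ : tau d bar hh g₀ ∈ comm K d := tau_mem_comm d bar hh fd.hdet fd.hinv hg₀m
  have hH : tau d bar hh g₀ * g₀ ∈ H1 d hd bar hh := by
    refine ⟨mul_mem_comm d htg₀ hg₀m, ?_, ?_⟩
    · rw [PhiM_mul d hd htg₀ hg₀m, PhiM_tau d hd bar hh fd.hdet fd.hbar2 fd.hherm fd.hinv hg₀m,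
        hP₀]
      exact M.2
    · rw [tau_mul d bar hh fd.hdet, tau_tau d bar hh fd.hdet fd.hbar2 fd.hherm]
  obtain ⟨x, hx, hxn⟩ := exists_section (hd := hd) fd ⟨_, hH⟩
  simp only at hxn
  have hxi := G1_inv fd hx
  refine ⟨g₀ * x⁻¹, ⟨mul_mem_comm d hg₀m hxi.1, ?_⟩, ?_⟩
  · rw [tau_mul d bar hh fd.hdet]
    calc tau d bar hh x⁻¹ * tau d bar hh g₀ * (g₀ * x⁻¹)
        = tau d bar hh x⁻¹ * (tau d bar hh g₀ * g₀) * x⁻¹ := by simp only [mul_assoc]
      _ = tau d bar hh x⁻¹ * (tau d bar hh x * x) * x⁻¹ := by rw [hxn]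
      _ = (tau d bar hh x⁻¹ * tau d bar hh x) * (x * x⁻¹) := by simp only [mul_assoc]
      _ = 1 := by rw [tau_inv_mul fd hx, G1_mul_inv fd hx, one_mul]
  · rw [PhiM_mul d hd hg₀m hxi.1, hP₀, hxi.2, mul_one]

/-- a unitary lift -/
noncomputable def lift (M : UD d bar) : Mat := Classical.choose (exists_lift (hd := hd) fd M)

theorem lift_mem (M : UD d bar) : lift (hd := hd) fd M ∈ UU d bar hh :=
  (Classical.choose_spec (exists_lift (hd := hd) fd M)).1

theorem PhiM_lift (M : UD d bar) : PhiM d hd (lift (hd := hd) fd M) = M.1 :=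
  (Classical.choose_spec (exists_lift (hd := hd) fd M)).2

/-- `UU ≃ UD × U1`. -/
noncomputable def equivUU : UU d bar hh ≃ UD d bar × U1 d hd bar hh where
  toFun g :=
    (⟨PhiM d hd g.1, PhiM_mem_UD fd g.2⟩,
     ⟨tau d bar hh (lift (hd := hd) fd ⟨PhiM d hd g.1, PhiM_mem_UD fd g.2⟩) * g.1, by
        set l := lift (hd := hd) fd ⟨PhiM d hd g.1, PhiM_mem_UD fd g.2⟩ with hl
        have hlm : l ∈ UU d bar hh := lift_mem fd _
        have hlP : PhiM d hd l = PhiM d hd g.1 := PhiM_lift fd _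
        have htl : tau d bar hh l ∈ comm K d := tau_mem_comm d bar hh fd.hdet fd.hinv hlm.1
        refine ⟨mul_mem_comm d htl g.2.1, ?_, ?_⟩
        · rw [PhiM_mul d hd htl g.2.1,
            PhiM_tau d hd bar hh fd.hdet fd.hbar2 fd.hherm fd.hinv hlm.1, hlP]
          exact PhiM_mem_UD fd g.2
        · rw [tau_mul d bar hh fd.hdet, tau_tau d bar hh fd.hdet fd.hbar2 fd.hherm]
          calc tau d bar hh g.1 * l * (tau d bar hh l * g.1)
              = tau d bar hh g.1 * (l * tau d bar hh l) * g.1 := by simp only [mul_assoc]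
            _ = 1 := by rw [UU_mul_tau fd hlm, mul_one, g.2.2]⟩)
  invFun p := ⟨lift (hd := hd) fd p.1 * p.2.1, by
    have hlm : lift (hd := hd) fd p.1 ∈ UU d bar hh := lift_mem fd _
    refine ⟨mul_mem_comm d hlm.1 p.2.2.1, ?_⟩
    rw [tau_mul d bar hh fd.hdet]
    calc tau d bar hh p.2.1 * tau d bar hh (lift (hd := hd) fd p.1)
          * (lift (hd := hd) fd p.1 * p.2.1)
        = tau d bar hh p.2.1 * (tau d bar hh (lift (hd := hd) fd p.1) * lift (hd := hd) fd p.1)
          * p.2.1 := by simp only [mul_assoc]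
      _ = 1 := by rw [hlm.2, mul_one, p.2.2.2.2]⟩
  left_inv g := by
    apply Subtype.ext
    simp only
    rw [← mul_assoc, UU_mul_tau fd (lift_mem fd _), one_mul]
  right_inv p := by
    obtain ⟨M, w⟩ := p
    have hlm : lift (hd := hd) fd M ∈ UU d bar hh := lift_mem fd _
    have hP : PhiM d hd (lift (hd := hd) fd M * w.1) = M.1 := by
      rw [PhiM_mul d hd hlm.1 w.2.1, PhiM_lift, w.2.2.1, mul_one]
    have hM : (⟨PhiM d hd (lift (hd := hd) fd M * w.1), PhiM_mem_UD fd
        (show lift (hd := hd) fd M * w.1 ∈ UU d bar hh from by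
          refine ⟨mul_mem_comm d hlm.1 w.2.1, ?_⟩
          rw [tau_mul d bar hh fd.hdet]
          calc tau d bar hh w.1 * tau d bar hh (lift (hd := hd) fd M)
                * (lift (hd := hd) fd M * w.1)
              = tau d bar hh w.1 * (tau d bar hh (lift (hd := hd) fd M) * lift (hd := hd) fd M)
                * w.1 := by simp only [mul_assoc]
            _ = 1 := by rw [hlm.2, mul_one, w.2.2.2])⟩ : UD d bar) = M := Subtype.ext hP
    apply Prod.ext
    · exact hM
    · apply Subtype.ext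
      simp only
      rw [hM, ← mul_assoc, hlm.2, one_mul]

end Lift

section Card

variable [Fintype K] (fd : FormData bar hh)
include fd

theorem zero_mem_Rp : (0 : Mat) ∈ Rp d hd bar hh := by
  refine ⟨(comm K d).zero_mem, PhiM_zero d hd, ?_⟩
  unfold tau
  rw [sT_zero, mul_zero, zero_mul]

/-- The number of unitary elements of the commutant. -/
theorem card_UU {q : ℕ} (hK : Fintype.card K = q ^ 2) :
    Nat.card (UU d bar hh)
      = Nat.card (UD d bar) * q ^ finrank K (LinearMap.ker (Phi (F := K) d hd)) := by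
  classical
  set a := Nat.card (Rp d hd bar hh) with ha
  set b := Nat.card (U1 d hd bar hh) with hb
  set f := finrank K (LinearMap.ker (Phi (F := K) d hd)) with hf
  have h1 : Nat.card (RR (K := K) d hd) = a * a := by
    rw [Nat.card_congr (equivRR fd), Nat.card_prod]
  have h2 : Nat.card (RR (K := K) d hd) = a * b := by
    rw [← Nat.card_congr (equivG1RR (K := K) (d := d) (hd := hd)), Nat.card_congr (equivG1 fd), Nat.card_prod,
      Nat.card_congr (equivH1Rp fd)]
  have h3 : Nat.card (RR (K := K) d hd) = (q ^ f) ^ 2 := by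
    rw [Nat.card_congr (equivRRker (K := K) (d := d) (hd := hd)), Module.natCard_eq_pow_finrank (K := K),
      Nat.card_eq_fintype_card, hK, ← pow_mul, ← pow_mul, mul_comm]
  have hfin : Finite (Rp d hd bar hh) := Subtype.finite
  have hne : Nonempty (Rp d hd bar hh) := ⟨⟨0, zero_mem_Rp fd⟩⟩
  have hapos : 0 < a := Nat.card_pos
  have hab : a = b := by
    have : a * a = a * b := by rw [← h1, h2]
    exact Nat.eq_of_mul_eq_mul_left hapos this
  have haq : a = q ^ f := by
    have : a ^ 2 = (q ^ f) ^ 2 := by rw [sq, ← h1, h3]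
    exact Nat.pow_left_injective (by norm_num : 2 ≠ 0) this
  rw [Nat.card_congr (equivUU (hd := hd) fd), Nat.card_prod, ← hb, ← hab, haq]

end Card

end Cfsg.Agent.Helper73.GUCent
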