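import Mathlib
import Cfsg.Agent.S2578
import Cfsg.Agent.S2587
import Cfsg.Agent.S2637
import Cfsg.Agent.Helper73.HermInv
import Cfsg.Agent.Helper45.SUBasic

set_option autoImplicit false

/-!
# Regular unipotent elements of `GU_n(q)` and `SU_n(q)`
-/

namespace Cfsg.Agent.Helper73.GURegUnip

open Matrix Polynomial Module Cfsg.Agent.S2587 Cfsg.Agent.S2578 Cfsg.Agent.Helper43
  Cfsg.Agent.Helper45.GU

section Basic
variable {K : Type*} [Field K] {n : ℕ}

theorem isRegUnipMat_transpose {M : Matrix (Fin n) (Fin n) K} (h : IsRegUnipMat M) :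
    IsRegUnipMat Mᵀ := by
  have e : Mᵀ - 1 = (M - 1)ᵀ := by rw [Matrix.transpose_sub, Matrix.transpose_one]
  refine ⟨?_, ?_⟩
  · rw [e, ← Matrix.transpose_pow, h.1, Matrix.transpose_zero]
  · rw [e, Matrix.rank_transpose, h.2]

theorem isRegUnipMat_inv (A : GL (Fin n) K) (h : IsRegUnipMat (A : Matrix (Fin n) (Fin n) K)) :
    IsRegUnipMat ((A⁻¹ : GL (Fin n) K) : Matrix (Fin n) (Fin n) K) := by
  set AM : Matrix (Fin n) (Fin n) K := (A : Matrix (Fin n) (Fin n) K) with hAM
  set Ai : Matrix (Fin n) (Fin n) K := ((A⁻¹ : GL (Fin n) K) : Matrix (Fin n) (Fin n) K) with hAi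
  have h1 : Ai * AM = 1 := by rw [hAM, hAi, ← Units.val_mul, inv_mul_cancel]; rfl
  have h2 : AM * Ai = 1 := by rw [hAM, hAi, ← Units.val_mul, mul_inv_cancel]; rfl
  have e : Ai - 1 = (-Ai) * (AM - 1) := by
    rw [neg_mul, mul_sub, h1, mul_one]; abel
  have hcomm : Commute (-Ai) (AM - 1) := by
    show (-Ai) * (AM - 1) = (AM - 1) * (-Ai)
    rw [neg_mul, mul_neg, mul_sub, sub_mul, h1, h2, mul_one, one_mul]
  have hdet : IsUnit (-Ai).det := by
    rw [Matrix.det_neg]
    exact ((isUnit_one.neg).pow _).mul (Matrix.isUnits_det_units A⁻¹)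
  refine ⟨?_, ?_⟩
  · rw [e, hcomm.mul_pow, h.1, mul_zero]
  · rw [e, Matrix.rank_mul_eq_right_of_isUnit_det _ _ hdet, h.2]

/-- A regular unipotent matrix with entries fixed by any ring endomorphism. -/
theorem exists_isRegUnipMat_fixed (bar : K →+* K) (hn : 1 ≤ n) :
    ∃ u : GL (Fin n) K, IsRegUnipMat (u : Matrix (Fin n) (Fin n) K) ∧
      (u : Matrix (Fin n) (Fin n) K).map bar = (u : Matrix (Fin n) (Fin n) K) := by
  obtain ⟨m, rfl⟩ : ∃ m, n = m + 1 := ⟨n - 1, by omega⟩
  have hR := isRegNilp_shiftEnd K m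
  have hfin : finrank K (Fin (m + 1) → K) = m + 1 := Module.finrank_fin_fun K
  set J : Matrix (Fin (m + 1)) (Fin (m + 1)) K := LinearMap.toMatrix' (shiftEnd K m) with hJ
  have hJl : Matrix.toLin' J = shiftEnd K m := by rw [hJ, Matrix.toLin'_toMatrix']
  have hJpow : J ^ (m + 1) = 0 := by
    apply (Matrix.toLin' (R := K)).injective
    rw [Matrix.toLin'_pow, hJl, map_zero]
    have := hR.pow_eq_zero
    rwa [hfin] at this
  have hJrank : J.rank = m + 1 - 1 := by
    rw [Matrix.rank, ← Matrix.toLin'_apply', hJl, hR.range_eq_ker_pow_pred (by rw [hfin]; omega),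
      hR.finrank_ker_pow_pred (by rw [hfin]; omega), hfin]
  have hJmap : J.map bar = J := by
    ext i j
    rw [Matrix.map_apply, hJ, LinearMap.toMatrix'_apply]
    refine Fin.cases ?_ (fun i' => ?_) i
    · rw [shiftEnd_apply_zero, map_zero]
    · rw [shiftEnd_apply_succ, Pi.single_apply]
      split_ifs
      · exact map_one bar
      · exact map_zero bar
  have hu : IsUnit (1 + J) := IsNilpotent.isUnit_one_add ⟨m + 1, hJpow⟩
  refine ⟨hu.unit, ?_, ?_⟩
  · have : ((hu.unit : GL (Fin (m + 1)) K) : Matrix (Fin (m + 1)) (Fin (m + 1)) K) - 1 = J := by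
      rw [IsUnit.unit_spec]
      exact add_sub_cancel_left _ _
    exact ⟨by rw [this]; exact hJpow, by rw [this]; exact hJrank⟩
  · rw [IsUnit.unit_spec, Matrix.map_add (f := bar) (map_add bar), hJmap]
    congr 1
    ext i j
    rw [Matrix.map_apply, Matrix.one_apply]
    split_ifs
    · exact map_one bar
    · exact map_zero bar

end Basic

section Exist
variable {K : Type*} [Field K] [Fintype K] {q n : ℕ}

/-- `GU_n(q)` contains a regular unipotent element. -/
theorem exists_regUnip_GU (hK : Fintype.card K = q ^ 2) (hn : 1 ≤ n) :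
    ∃ B : GL (Fin n) K, B ∈ Cfsg.GU n K q ∧ IsRegUnipMat (B : Matrix (Fin n) (Fin n) K) := by
  classical
  obtain ⟨bar, hbar⟩ := exists_bar hK
  obtain ⟨u, hu, hfix⟩ := exists_isRegUnipMat_fixed (K := K) (n := n) bar hn
  set uM : Matrix (Fin n) (Fin n) K := (u : Matrix (Fin n) (Fin n) K) with huM
  set ui : Matrix (Fin n) (Fin n) K := ((u⁻¹ : GL (Fin n) K) : Matrix (Fin n) (Fin n) K) with hui
  have h1 : ui * uM = 1 := by rw [huM, hui, ← Units.val_mul, inv_mul_cancel]; rfl
  have h2 : uM * ui = 1 := by rw [huM, hui, ← Units.val_mul, mul_inv_cancel]; rfl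
  let vG : GL (Fin n) K := ⟨uiᵀ, uMᵀ, by rw [← Matrix.transpose_mul, h2, Matrix.transpose_one],
    by rw [← Matrix.transpose_mul, h1, Matrix.transpose_one]⟩
  have hv : IsRegUnipMat (vG : Matrix (Fin n) (Fin n) K) :=
    isRegUnipMat_transpose (isRegUnipMat_inv u hu)
  obtain ⟨d, hd⟩ := isConj_iff.1 (isConj_of_isRegUnipMat u vG hu hv)
  have hd' : (d : Matrix (Fin n) (Fin n) K) * uM = uiᵀ * (d : Matrix (Fin n) (Fin n) K) := by
    have : d * u = vG * d := by rw [← hd]; group
    have := congrArg (fun x : GL (Fin n) K => (x : Matrix (Fin n) (Fin n) K)) this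
    simpa using this
  have hst : st bar uM = uMᵀ := by unfold st; rw [hfix]
  have hinv : st bar uM * (d : Matrix (Fin n) (Fin n) K) * uM = (d : Matrix (Fin n) (Fin n) K) := by
    rw [hst, mul_assoc, hd', ← mul_assoc, ← Matrix.transpose_mul, h1, Matrix.transpose_one, one_mul]
  obtain ⟨B, hB, hconj⟩ := Cfsg.Agent.Helper73.HermInv.exists_conj_mem_GU hK bar hbar u d hinv
  refine ⟨B, hB, ?_⟩
  obtain ⟨c, hc⟩ := isConj_iff.1 hconj
  rw [← hc]
  have := isRegUnipMat_conj c hu
  simpa [Units.val_mul] using this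

/-- Regular unipotent elements of `GU_n(q)` are conjugate in `GU_n(q)`. -/
theorem isConj_GU_of_regUnip (hK : Fintype.card K = q ^ 2) (A B : ↥(Cfsg.GU n K q))
    (hA : IsRegUnipMat ((A : GL (Fin n) K) : Matrix (Fin n) (Fin n) K))
    (hB : IsRegUnipMat ((B : GL (Fin n) K) : Matrix (Fin n) (Fin n) K)) : IsConj A B :=
  (Cfsg.Agent.S2587.result hK A B).2 (isConj_of_isRegUnipMat _ _ hA hB)

end Exist

section Cent
variable {K : Type*} [Field K] {q n : ℕ} (bar : K →+* K) (hbar : ∀ x, bar x = x ^ q)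

/-- The eigenvalue of a unitary matrix commuting with a regular unipotent has norm one. -/
theorem scalar_norm_one (hn : 1 ≤ n)
    {c M : Matrix (Fin n) (Fin n) K} {a : K}
    (hc : st bar c * c = 1) (hM : c = a • (1 : Matrix (Fin n) (Fin n) K) + M)
    (hnil : IsNilpotent M) : a * bar a = 1 := by
  have hc' : c * st bar c = 1 := mul_eq_one_comm.1 hc
  obtain ⟨S, hS⟩ : ∃ S : Matrix (Fin n) (Fin n) K, S = st bar M := ⟨_, rfl⟩
  have hsM : st bar c = bar a • (1 : Matrix (Fin n) (Fin n) K) + S := by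
    rw [hM, st_add, st_smul, st_one, hS]
  have hnil' : IsNilpotent S := by
    obtain ⟨k, hk⟩ := hnil
    refine ⟨k, ?_⟩
    rw [hS, ← st_pow, hk]
    ext i j
    simp [st_apply]
  have hMeq : M = c - a • (1 : Matrix (Fin n) (Fin n) K) := by rw [hM]; abel
  have hSeq : S = st bar c - bar a • (1 : Matrix (Fin n) (Fin n) K) := by rw [hsM]; abel
  have hcomm : Commute M S := by
    show M * S = S * M
    rw [hMeq, hSeq]
    simp only [sub_mul, mul_sub, Matrix.smul_mul, Matrix.mul_smul, one_mul, mul_one, hc, hc',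
      smul_smul, mul_comm (bar a) a]
    abel
  have hW : IsNilpotent (bar a • M + a • S + S * M) := by
    have h1 : IsNilpotent (bar a • M) := hnil.smul _
    have h2 : IsNilpotent (a • S) := hnil'.smul _
    have h3 : IsNilpotent (S * M) := hcomm.symm.isNilpotent_mul_left hnil
    have c12 : Commute (bar a • M) (a • S) := (hcomm.smul_left _).smul_right _
    have h12 := c12.isNilpotent_add h1 h2
    have c3 : Commute (bar a • M + a • S) (S * M) := by
      apply Commute.add_left
      · exact ((hcomm.mul_right (Commute.refl M))).smul_left _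
      · exact (((Commute.refl S).mul_right hcomm.symm)).smul_left _
    exact c3.isNilpotent_add h12 h3
  have hprod : (bar a • (1 : Matrix (Fin n) (Fin n) K) + S) * (a • (1 : Matrix (Fin n) (Fin n) K) + M)
      = (a * bar a) • (1 : Matrix (Fin n) (Fin n) K) + (bar a • M + a • S + S * M) := by
    simp only [add_mul, mul_add, Matrix.smul_mul, Matrix.mul_smul, one_mul, mul_one, smul_smul,
      mul_comm (bar a) a]
    abel
  have hone : (a * bar a) • (1 : Matrix (Fin n) (Fin n) K) + (bar a • M + a • S + S * M) = 1 := by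
    rw [← hprod, ← hsM, ← hM, hc]
  have hWeq : bar a • M + a • S + S * M = (1 - a * bar a) • (1 : Matrix (Fin n) (Fin n) K) := by
    rw [sub_smul, one_smul]
    exact eq_sub_of_add_eq' hone
  rw [hWeq] at hW
  obtain ⟨k, hk⟩ := hW
  rw [_root_.smul_pow, one_pow] at hk
  have h0 : (1 - a * bar a) ^ k = 0 := by
    have := congrFun (congrFun hk ⟨0, by omega⟩) ⟨0, by omega⟩
    simpa using this
  have h1 : 1 - a * bar a = 0 := pow_eq_zero_iff (n := k) (by
    rintro rfl
    simp at h0) |>.1 h0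
  exact (sub_eq_zero.1 h1).symm

end Cent

section Cent2
variable {K : Type*} [Field K] {q n : ℕ} (bar : K →+* K) (hbar : ∀ x, bar x = x ^ q)

/-- The embedding `SU_n(q) → GU_n(q)`. -/
def jSU : ↥(Cfsg.SU n K q) →* ↥(Cfsg.GU n K q) :=
  ((Matrix.SpecialLinearGroup.toGL).comp (Cfsg.SU n K q).subtype).codRestrict (Cfsg.GU n K q)
    (fun s => by
      rw [mem_GU_iff n bar hbar]
      exact (mem_SU_iff n bar hbar s.1).1 s.2)

theorem jSU_coe (s : ↥(Cfsg.SU n K q)) :
    (((jSU bar hbar s : ↥(Cfsg.GU n K q)) : GL (Fin n) K) : Matrix (Fin n) (Fin n) K)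
      = ((s : Matrix.SpecialLinearGroup (Fin n) K) : Matrix (Fin n) (Fin n) K) := rfl

theorem jSU_injective : Function.Injective (jSU (n := n) bar hbar) := by
  intro s t h
  apply Subtype.ext
  apply Subtype.ext
  have := congrArg (fun x : ↥(Cfsg.GU n K q) => ((x : GL (Fin n) K) : Matrix (Fin n) (Fin n) K)) h
  exact this

theorem detU_jSU (s : ↥(Cfsg.SU n K q)) : detU n bar hbar (jSU bar hbar s) = 1 := by
  apply Subtype.ext
  apply Units.ext
  rw [detU_coe]
  show ((s : Matrix.SpecialLinearGroup (Fin n) K) : Matrix (Fin n) (Fin n) K).det = 1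
  exact s.1.2

theorem exists_jSU_of_detU (c : ↥(Cfsg.GU n K q)) (h : detU n bar hbar c = 1) :
    ∃ s, jSU bar hbar s = c := by
  have hk : c ∈ (detU n bar hbar).ker := h
  refine ⟨kerEquiv n bar hbar ⟨c, hk⟩, ?_⟩
  apply Subtype.ext
  apply Units.ext
  rfl

end Cent2

section Cent3
variable {K : Type*} [Field K] [Fintype K] {q n : ℕ} (bar : K →+* K) (hbar : ∀ x, bar x = x ^ q)

include hbar in
/-- Range of the determinant on the centraliser of a regular unipotent element of `GU`. -/
theorem range_detU_centralizer (hn : 1 ≤ n) (g : ↥(Cfsg.GU n K q))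
    (hg : IsRegUnipMat ((g : GL (Fin n) K) : Matrix (Fin n) (Fin n) K)) :
    ((detU n bar hbar).comp (Subgroup.centralizer ({g} : Set ↥(Cfsg.GU n K q))).subtype).range
      = (powMonoidHom n : U1 K q →* U1 K q).range := by
  classical
  set U : Matrix (Fin n) (Fin n) K := ((g : GL (Fin n) K) : Matrix (Fin n) (Fin n) K) with hU
  have hR := isRegNilp_of_isRegUnipMat hg
  have hfin : finrank K (Fin n → K) = n := Module.finrank_fin_fun K
  have hpos : 0 < finrank K (Fin n → K) := by rw [hfin]; omega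
  ext b
  constructor
  · rintro ⟨⟨c, hc⟩, rfl⟩
    set cM : Matrix (Fin n) (Fin n) K := ((c : GL (Fin n) K) : Matrix (Fin n) (Fin n) K) with hcM
    have hcg : c * g = g * c := (hc g (Set.mem_singleton _)).symm
    have hcU : cM * U = U * cM := by
      have := congrArg (fun x : ↥(Cfsg.GU n K q) => ((x : GL (Fin n) K) : Matrix (Fin n) (Fin n) K)) hcg
      simpa using this
    have hcomm : Matrix.toLin' cM * Matrix.toLin' (U - 1) = Matrix.toLin' (U - 1) * Matrix.toLin' cM := by
      rw [Module.End.mul_eq_comp, Module.End.mul_eq_comp, ← Matrix.toLin'_mul, ← Matrix.toLin'_mul,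
        mul_sub, sub_mul, hcU, mul_one, one_mul]
    obtain ⟨a, ha⟩ := hR.exists_scalar_add_nilpotent hpos hcomm
    set M : Matrix (Fin n) (Fin n) K := cM - a • (1 : Matrix (Fin n) (Fin n) K) with hM
    have hlin : Matrix.toLin' M = Matrix.toLin' cM - algebraMap K (Module.End K (Fin n → K)) a := by
      rw [hM, map_sub, map_smul, Matrix.toLin'_one, Algebra.algebraMap_eq_smul_one]
      rfl
    have hnil : IsNilpotent M := by
      obtain ⟨k, hk⟩ := ha
      refine ⟨k, ?_⟩
      apply (Matrix.toLin' (R := K)).injective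
      rw [Matrix.toLin'_pow, hlin, hk, map_zero]
    have hcst : st bar cM * cM = 1 := by
      have h1 := (Cfsg.Agent.S2677.mem_GU_iff_matrix n bar hbar (c : GL (Fin n) K)).1 c.2
      have := congrArg Matrix.transpose h1
      rw [Matrix.transpose_mul, Matrix.transpose_transpose, Matrix.transpose_one] at this
      exact this
    have hnorm : a * bar a = 1 :=
      scalar_norm_one bar hn hcst (by rw [hM]; abel) hnil
    have hdet : cM.det = a ^ n := by
      have h1 := det_algebraMap_add_of_isNilpotent ha a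
      rw [add_sub_cancel, LinearMap.det_toLin', hfin] at h1
      exact h1
    have ha0 : a ≠ 0 := by
      rintro rfl
      rw [zero_mul] at hnorm
      exact zero_ne_one hnorm
    have hmem : Units.mk0 a ha0 ∈ U1 K q := by
      rw [mem_U1_iff bar hbar]
      exact hnorm
    refine ⟨⟨Units.mk0 a ha0, hmem⟩, ?_⟩
    apply Subtype.ext
    apply Units.ext
    show ((Units.mk0 a ha0) ^ n : Kˣ).val = cM.det
    rw [Units.val_pow_eq_pow_val, Units.val_mk0, hdet]
  · rintro ⟨b, rfl⟩
    have hb : ((b : Kˣ) : K) ^ (q + 1) = 1 := (Cfsg.Agent.S2677.mem_U1_iff' q (b : Kˣ)).1 b.2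
    have hmem : Matrix.GeneralLinearGroup.scalar (Fin n) (b : Kˣ) ∈ Cfsg.GU n K q :=
      Cfsg.Agent.S2677.scalar_mem_GU bar hbar (b : Kˣ) hb
    refine ⟨⟨⟨Matrix.GeneralLinearGroup.scalar (Fin n) (b : Kˣ), hmem⟩, ?_⟩, ?_⟩
    · rw [Subgroup.mem_centralizer_iff]
      intro h _
      apply Subtype.ext
      exact (Matrix.GeneralLinearGroup.scalar_commute (b : Kˣ) (h : GL (Fin n) K)).symm
    · apply Subtype.ext
      apply Units.ext
      show (Matrix.GeneralLinearGroup.scalar (Fin n) (b : Kˣ) : Matrix (Fin n) (Fin n) K).det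
        = ((b ^ n : U1 K q) : Kˣ).val
      rw [Matrix.GeneralLinearGroup.coe_scalar, Matrix.scalar_apply, Matrix.det_diagonal]
      simp

end Cent3

section Cent4
variable {K : Type*} [Field K] [Fintype K] {q n : ℕ} (bar : K →+* K) (hbar : ∀ x, bar x = x ^ q)

include hbar in
/-- `|C_SU(s)| * |U1^n| = |C_GU(s)|` for a regular unipotent `s`. -/
theorem card_centralizer_SU_mul (hn : 1 ≤ n) (s : ↥(Cfsg.SU n K q))
    (hs : IsRegUnipMat ((s : Matrix.SpecialLinearGroup (Fin n) K) : Matrix (Fin n) (Fin n) K)) :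
    Nat.card (Subgroup.centralizer ({s} : Set ↥(Cfsg.SU n K q)))
      * Nat.card (powMonoidHom n : U1 K q →* U1 K q).range
      = Nat.card (Subgroup.centralizer ({jSU bar hbar s} : Set ↥(Cfsg.GU n K q))) := by
  classical
  set g : ↥(Cfsg.GU n K q) := jSU bar hbar s with hg
  let C : Subgroup ↥(Cfsg.GU n K q) := Subgroup.centralizer ({g} : Set ↥(Cfsg.GU n K q))
  let f : C →* U1 K q := (detU n bar hbar).comp C.subtype
  have h1 : Nat.card f.ker * Nat.card f.range = Nat.card C := by
    rw [← Subgroup.index_ker, Subgroup.card_mul_index]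
  have hrange : f.range = (powMonoidHom n : U1 K q →* U1 K q).range :=
    range_detU_centralizer bar hbar hn g hs
  have hker : Nat.card f.ker
      = Nat.card (Subgroup.centralizer ({s} : Set ↥(Cfsg.SU n K q))) := by
    symm
    apply Nat.card_congr
    refine Equiv.ofBijective
      (fun t => (⟨⟨jSU bar hbar t.1, ?_⟩, ?_⟩ : f.ker)) ⟨?_, ?_⟩
    · rw [Subgroup.mem_centralizer_iff]
      intro h hh
      rw [Set.mem_singleton_iff] at hh
      subst hh
      have := t.2 s (Set.mem_singleton _)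
      rw [hg, ← map_mul, ← map_mul, this]
    · rw [MonoidHom.mem_ker]
      exact detU_jSU bar hbar t.1
    · intro t t' htt
      have h5 := congrArg (fun x : f.ker => ((x : C) : ↥(Cfsg.GU n K q))) htt
      exact Subtype.ext (jSU_injective bar hbar h5)
    · rintro ⟨⟨c, hc⟩, hk⟩
      rw [MonoidHom.mem_ker] at hk
      obtain ⟨t, ht⟩ := exists_jSU_of_detU bar hbar c hk
      have htmem : t ∈ Subgroup.centralizer ({s} : Set ↥(Cfsg.SU n K q)) := by
        rw [Subgroup.mem_centralizer_iff]
        intro h hh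
        rw [Set.mem_singleton_iff] at hh
        subst hh
        apply jSU_injective bar hbar
        rw [map_mul, map_mul, ht]
        exact hc g (Set.mem_singleton _)
      refine ⟨⟨t, htmem⟩, ?_⟩
      apply Subtype.ext
      apply Subtype.ext
      exact ht
  rw [← hker, ← hrange]
  exact h1

end Cent4

end Cfsg.Agent.Helper73.GURegUnip
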