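import Mathlib
import Cfsg.Agent.Helper73.GUCentF
import Cfsg.Agent.Helper73.GURegUnip
import Cfsg.Agent.Helper43.SpRegFin
import Cfsg.Agent.Helper45.GUCard

set_option autoImplicit false
set_option linter.unusedSectionVars false
set_option linter.unusedSimpArgs false
set_option linter.unusedVariables false

/-!
# The unitary group of the block-diagonal quotient and the existence of the Hermitian blocks
-/

namespace Cfsg.Agent.Helper73.GUCent

open Module Matrix Polynomial
open Cfsg.Agent.Helper43 Cfsg.Agent.Helper43.JT Cfsg.Agent.Helper59.JCent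

universe u

section GUmem

variable {K : Type u} [Field K] {q : ℕ} (bar : K →+* K) (hbar : ∀ x, bar x = x ^ q)
include hbar

theorem mem_GU_iff_sT {n : ℕ} (g : GL (Fin n) K) :
    g ∈ Cfsg.GU n K q ↔
      sT bar (g : Matrix (Fin n) (Fin n) K) * (g : Matrix (Fin n) (Fin n) K) = 1 := by
  rw [Cfsg.Agent.S2677.mem_GU_iff_matrix n bar hbar g]
  constructor
  · intro h1
    have := congrArg Matrix.transpose h1
    rw [Matrix.transpose_mul, Matrix.transpose_transpose, Matrix.transpose_one] at this
    exact this
  · intro h1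
    have := congrArg Matrix.transpose h1
    unfold sT at this
    rw [Matrix.transpose_mul, Matrix.transpose_transpose, Matrix.transpose_one] at this
    exact this

/-- unitary matrices over an arbitrary finite index type versus `GU`. -/
noncomputable def unitaryEquivGU (ι : Type*) [Fintype ι] [DecidableEq ι] :
    {M : Matrix ι ι K // sT bar M * M = 1} ≃ ↥(Cfsg.GU (Fintype.card ι) K q) where
  toFun M :=
    ⟨⟨M.1.submatrix (Fintype.equivFin ι).symm (Fintype.equivFin ι).symm,
      (sT bar M.1).submatrix (Fintype.equivFin ι).symm (Fintype.equivFin ι).symm,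
      by rw [Matrix.submatrix_mul_equiv, mul_eq_one_comm.mp M.2, Matrix.submatrix_one_equiv],
      by rw [Matrix.submatrix_mul_equiv, M.2, Matrix.submatrix_one_equiv]⟩, by
      rw [mem_GU_iff_sT bar hbar]
      show sT bar (M.1.submatrix (Fintype.equivFin ι).symm (Fintype.equivFin ι).symm)
        * M.1.submatrix (Fintype.equivFin ι).symm (Fintype.equivFin ι).symm = 1
      have : sT bar (M.1.submatrix (Fintype.equivFin ι).symm (Fintype.equivFin ι).symm)
          = (sT bar M.1).submatrix (Fintype.equivFin ι).symm (Fintype.equivFin ι).symm := rfl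
      rw [this, Matrix.submatrix_mul_equiv, M.2, Matrix.submatrix_one_equiv]⟩
  invFun g :=
    ⟨((g : GL (Fin (Fintype.card ι)) K) : Matrix _ _ K).submatrix (Fintype.equivFin ι)
        (Fintype.equivFin ι), by
      have h := (mem_GU_iff_sT bar hbar g.1).mp g.2
      have : sT bar (((g : GL (Fin (Fintype.card ι)) K) : Matrix _ _ K).submatrix
          (Fintype.equivFin ι) (Fintype.equivFin ι))
          = (sT bar ((g : GL (Fin (Fintype.card ι)) K) : Matrix _ _ K)).submatrix
            (Fintype.equivFin ι) (Fintype.equivFin ι) := rfl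
      rw [this, Matrix.submatrix_mul_equiv, h, Matrix.submatrix_one_equiv]⟩
  left_inv M := by
    apply Subtype.ext
    ext i j
    simp
  right_inv g := by
    apply Subtype.ext
    apply Units.ext
    ext i j
    simp

end GUmem

section UDcard

variable {K : Type u} [Field K] [Fintype K] {q : ℕ} {t : ℕ} (d : Fin t → ℕ)
  (bar : K →+* K) (hbar : ∀ x, bar x = x ^ q)
include hbar

theorem card_UD :
    Nat.card (UD d bar)
      = ∏ i : Fin (Finset.univ.sup d + 1),
          Nat.card (Cfsg.GU (Fintype.card {a : Fin t // d a = (i : ℕ)}) K q) := by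
  classical
  have e1 : UD d bar ≃ {M : DD K d // ∀ i, sT bar (M i) * M i = 1} := by
    apply Equiv.subtypeEquivRight
    intro M
    show dag d bar M * M = 1 ↔ _
    constructor
    · intro h i
      exact congrFun h i
    · intro h
      funext i
      exact h i
  have e2 : {M : DD K d // ∀ i, sT bar (M i) * M i = 1}
      ≃ ((i : Fin (Finset.univ.sup d + 1)) →
          {Mi : Matrix {a : Fin t // d a = (i : ℕ)} {a : Fin t // d a = (i : ℕ)} K //
            sT bar Mi * Mi = 1}) :=
    Equiv.subtypePiEquivPi (β := fun i : Fin (Finset.univ.sup d + 1) =>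
      Matrix {a : Fin t // d a = (i : ℕ)} {a : Fin t // d a = (i : ℕ)} K)
      (p := fun _ Mi => sT bar Mi * Mi = 1)
  rw [Nat.card_congr e1, Nat.card_congr e2, Nat.card_pi]
  apply Finset.prod_congr rfl
  intro i _
  exact Nat.card_congr (unitaryEquivGU bar hbar _)

end UDcard

section Blocks

variable {K : Type u} [Field K] [Fintype K] {q : ℕ} (hK : Fintype.card K = q ^ 2)
  (bar : K →+* K) (hbar : ∀ x, bar x = x ^ q)
include hK hbar

theorem exists_herm_block (i : ℕ) :
    ∃ h : Matrix (Fin i) (Fin i) K, sT bar h = h ∧ h.det ≠ 0 ∧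
      sT bar (Cfsg.jordanBlock i K) * h * Cfsg.jordanBlock i K = h := by
  classical
  rcases Nat.eq_zero_or_pos i with rfl | hpos
  · refine ⟨0, Subsingleton.elim _ _, ?_, Subsingleton.elim _ _⟩
    rw [Matrix.det_isEmpty]
    exact one_ne_zero
  obtain ⟨B, hB, hreg⟩ := Cfsg.Agent.Helper73.GURegUnip.exists_regUnip_GU (K := K) (q := q) (n := i) hK hpos
  have hBu : sT bar (B : Matrix (Fin i) (Fin i) K) * (B : Matrix (Fin i) (Fin i) K) = 1 :=
    (mem_GU_iff_sT bar hbar B).mp hB
  have h1 : IsRegNilp (Matrix.toLin' (Cfsg.jordanBlock i K - 1)) := isRegNilp_jordanBlock i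
  have h2 : IsRegNilp (Matrix.toLin' ((B : Matrix (Fin i) (Fin i) K) - 1)) :=
    Cfsg.Agent.S2578.isRegNilp_of_isRegUnipMat hreg
  obtain ⟨a, ai, hai, haJ⟩ := Cfsg.Agent.Helper43.SpReg.exists_conj_mat h1 h2
  have haJ' : a * Cfsg.jordanBlock i K = (B : Matrix (Fin i) (Fin i) K) * a := by
    rw [mul_sub, sub_mul, mul_one, one_mul] at haJ
    exact sub_left_injective haJ
  have hdeta : a.det ≠ 0 := Matrix.det_ne_zero_of_right_inverse hai
  refine ⟨sT bar a * a, ?_, ?_, ?_⟩
  · have hbar2 : ∀ x, bar (bar x) = x := by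
      intro x
      rw [hbar, hbar, ← pow_mul, ← sq, ← hK, FiniteField.pow_card]
    rw [sT_mul, sT_sT bar hbar2]
  · rw [Matrix.det_mul, det_sT]
    exact mul_ne_zero ((map_ne_zero bar).2 hdeta) hdeta
  · calc sT bar (Cfsg.jordanBlock i K) * (sT bar a * a) * Cfsg.jordanBlock i K
        = (sT bar (Cfsg.jordanBlock i K) * sT bar a) * (a * Cfsg.jordanBlock i K) := by
          simp only [mul_assoc]
      _ = sT bar (a * Cfsg.jordanBlock i K) * (a * Cfsg.jordanBlock i K) := by rw [sT_mul]
      _ = sT bar ((B : Matrix (Fin i) (Fin i) K) * a) * ((B : Matrix (Fin i) (Fin i) K) * a) := by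
          rw [haJ']
      _ = sT bar a * (sT bar (B : Matrix (Fin i) (Fin i) K) * (B : Matrix (Fin i) (Fin i) K)) * a := by
          rw [sT_mul]; simp only [mul_assoc]
      _ = sT bar a * a := by rw [hBu, mul_one]

/-- a family of Hermitian blocks -/
noncomputable def hhFam (i : ℕ) : Matrix (Fin i) (Fin i) K :=
  Classical.choose (exists_herm_block hK bar hbar i)

theorem formData_hhFam : FormData bar (hhFam hK bar hbar) := by
  have hbar2 : ∀ x, bar (bar x) = x := by
    intro x
    rw [hbar, hbar, ← pow_mul, ← sq, ← hK, FiniteField.pow_card]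
  refine ⟨fun i => (Classical.choose_spec (exists_herm_block hK bar hbar i)).2.1, hbar2, ?_,
    fun i => (Classical.choose_spec (exists_herm_block hK bar hbar i)).1,
    fun i => (Classical.choose_spec (exists_herm_block hK bar hbar i)).2.2⟩
  have hne := Cfsg.Agent.Helper45.GU.bar_ne_id hK bar hbar
  by_contra hcon
  push Not at hcon
  apply hne
  ext x
  exact hcon x

end Blocks

end Cfsg.Agent.Helper73.GUCent
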