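import Mathlib
import Cfsg.Agent.Helper73.GUCentG
import Cfsg.Agent.S2587

set_option autoImplicit false
set_option linter.unusedSectionVars false
set_option linter.unusedSimpArgs false
set_option linter.unusedVariables false

/-!
# Transfer: the centraliser in `GU` of a unipotent element versus the unitary commutant
-/

namespace Cfsg.Agent.Helper73.GUCent

open Module Matrix Polynomial
open Cfsg.Agent.Helper43 Cfsg.Agent.Helper43.JT Cfsg.Agent.Helper59.JCent

universe u

section DefCC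

variable {K : Type u} [Field K] {t : ℕ} (d : Fin t → ℕ) (bar : K →+* K)

/-- the unitary centraliser of `c J c⁻¹` -/
def CC (c : Matrix ((k : Fin t) × Fin (d k)) ((k : Fin t) × Fin (d k)) K) :
    Set (Matrix ((k : Fin t) × Fin (d k)) ((k : Fin t) × Fin (d k)) K) :=
  {z | sT bar z * z = 1 ∧
    z * (c * Cfsg.jordanTypeMatrix d K * c⁻¹) = (c * Cfsg.jordanTypeMatrix d K * c⁻¹) * z}

end DefCC

section StepA

variable {K : Type u} [Field K] {t : ℕ} {d : Fin t → ℕ}
variable {bar : K →+* K} {hh : (i : ℕ) → Matrix (Fin i) (Fin i) K}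

local notation "Mat" => Matrix ((k : Fin t) × Fin (d k)) ((k : Fin t) × Fin (d k)) K

theorem exists_c [Finite K] (fd : FormData bar hh) :
    ∃ c : Mat, sT bar c * c = H0 d hh ∧ c.det ≠ 0 := by
  obtain ⟨p, hp⟩ := herm_factor' bar fd.hbar2 fd.hbarne (H0 d hh) (sT_H0 d bar hh fd.hherm)
    (det_H0_ne_zero d hh fd.hdet)
  refine ⟨aeval (H0 d hh) p, hp, ?_⟩
  intro h0
  have := congrArg Matrix.det hp
  rw [Matrix.det_mul, h0, mul_zero] at this
  exact det_H0_ne_zero d hh fd.hdet this.symm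

variable (fd : FormData bar hh)
  (c : Matrix ((k : Fin t) × Fin (d k)) ((k : Fin t) × Fin (d k)) K) (hc : sT bar c * c = H0 d hh) (hdet : c.det ≠ 0)
include fd hc hdet

theorem UU_iff (g : Mat) :
    g ∈ UU d bar hh ↔ g * Cfsg.jordanTypeMatrix d K = Cfsg.jordanTypeMatrix d K * g ∧
      sT bar g * H0 d hh * g = H0 d hh := by
  have hH1 := H0_inv_mul d hh fd.hdet
  have hH2 := H0_mul_inv d hh fd.hdet
  constructor
  · rintro ⟨h1, h2⟩
    refine ⟨(mem_comm d).mp h1, ?_⟩
    unfold tau at h2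
    calc sT bar g * H0 d hh * g
        = (H0 d hh * (H0 d hh)⁻¹) * (sT bar g * H0 d hh * g) := by rw [hH2, one_mul]
      _ = H0 d hh * ((H0 d hh)⁻¹ * sT bar g * H0 d hh * g) := by simp only [mul_assoc]
      _ = H0 d hh := by rw [h2, mul_one]
  · rintro ⟨h1, h2⟩
    refine ⟨(mem_comm d).mpr h1, ?_⟩
    unfold tau
    calc (H0 d hh)⁻¹ * sT bar g * H0 d hh * g
        = (H0 d hh)⁻¹ * (sT bar g * H0 d hh * g) := by simp only [mul_assoc]
      _ = 1 := by rw [h2, hH1]

theorem conj_mem_CC {g : Mat} (hg : g ∈ UU d bar hh) : c * g * c⁻¹ ∈ CC d bar c := by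
  have hu : IsUnit c.det := isUnit_iff_ne_zero.mpr hdet
  have h1 : c * c⁻¹ = 1 := Matrix.mul_nonsing_inv _ hu
  have h2 : c⁻¹ * c = 1 := Matrix.nonsing_inv_mul _ hu
  have h3 : sT bar c⁻¹ * sT bar c = 1 := sT_inv_of_mul bar h1
  obtain ⟨hg1, hg2⟩ := (UU_iff fd c hc hdet g).mp hg
  have k2 : ∀ X : Mat, c⁻¹ * (c * X) = X := fun X => by rw [← mul_assoc, h2, one_mul]
  constructor
  · rw [sT_mul, sT_mul]
    calc sT bar c⁻¹ * (sT bar g * sT bar c) * (c * g * c⁻¹)
        = sT bar c⁻¹ * (sT bar g * (sT bar c * c) * g) * c⁻¹ := by simp only [mul_assoc]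
      _ = sT bar c⁻¹ * (sT bar c * c) * c⁻¹ := by rw [hc, hg2]
      _ = (sT bar c⁻¹ * sT bar c) * (c * c⁻¹) := by simp only [mul_assoc]
      _ = 1 := by rw [h3, h1, one_mul]
  · calc c * g * c⁻¹ * (c * Cfsg.jordanTypeMatrix d K * c⁻¹)
        = c * (g * Cfsg.jordanTypeMatrix d K) * c⁻¹ := by simp only [mul_assoc, k2]
      _ = c * (Cfsg.jordanTypeMatrix d K * g) * c⁻¹ := by rw [hg1]
      _ = c * Cfsg.jordanTypeMatrix d K * c⁻¹ * (c * g * c⁻¹) := by simp only [mul_assoc, k2]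

theorem conj_mem_UU {z : Mat} (hz : z ∈ CC d bar c) : c⁻¹ * z * c ∈ UU d bar hh := by
  have hu : IsUnit c.det := isUnit_iff_ne_zero.mpr hdet
  have h1 : c * c⁻¹ = 1 := Matrix.mul_nonsing_inv _ hu
  have h2 : c⁻¹ * c = 1 := Matrix.nonsing_inv_mul _ hu
  have h3 : sT bar c⁻¹ * sT bar c = 1 := sT_inv_of_mul bar h1
  have k1 : ∀ X : Mat, c * (c⁻¹ * X) = X := fun X => by rw [← mul_assoc, h1, one_mul]
  have k2 : ∀ X : Mat, c⁻¹ * (c * X) = X := fun X => by rw [← mul_assoc, h2, one_mul]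
  have k3 : ∀ X : Mat, sT bar c⁻¹ * (sT bar c * X) = X := fun X => by
    rw [← mul_assoc, h3, one_mul]
  obtain ⟨hz1, hz2⟩ := hz
  rw [UU_iff fd c hc hdet]
  constructor
  · have e1 : c⁻¹ * (c * Cfsg.jordanTypeMatrix d K * c⁻¹) = Cfsg.jordanTypeMatrix d K * c⁻¹ := by
      simp only [mul_assoc, k2]
    have e2 : (c * Cfsg.jordanTypeMatrix d K * c⁻¹) * c = c * Cfsg.jordanTypeMatrix d K := by
      simp only [mul_assoc, h2, mul_one]
    calc c⁻¹ * z * c * Cfsg.jordanTypeMatrix d K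
        = c⁻¹ * z * ((c * Cfsg.jordanTypeMatrix d K * c⁻¹) * c) := by rw [e2]; simp only [mul_assoc]
      _ = c⁻¹ * (z * (c * Cfsg.jordanTypeMatrix d K * c⁻¹)) * c := by simp only [mul_assoc]
      _ = c⁻¹ * ((c * Cfsg.jordanTypeMatrix d K * c⁻¹) * z) * c := by rw [hz2]
      _ = (c⁻¹ * (c * Cfsg.jordanTypeMatrix d K * c⁻¹)) * z * c := by simp only [mul_assoc]
      _ = Cfsg.jordanTypeMatrix d K * (c⁻¹ * z * c) := by rw [e1]; simp only [mul_assoc]
  · rw [sT_mul, sT_mul, ← hc]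
    calc sT bar c * (sT bar z * sT bar c⁻¹) * (sT bar c * c) * (c⁻¹ * z * c)
        = sT bar c * (sT bar z * z) * c := by simp only [mul_assoc, k1, k3]
      _ = sT bar c * c := by rw [hz1, mul_one]

/-- `UU ≃ CC`. -/
noncomputable def equivCC : UU d bar hh ≃ CC d bar c where
  toFun g := ⟨c * g.1 * c⁻¹, conj_mem_CC fd c hc hdet g.2⟩
  invFun z := ⟨c⁻¹ * z.1 * c, conj_mem_UU fd c hc hdet z.2⟩
  left_inv g := by
    have hu : IsUnit c.det := isUnit_iff_ne_zero.mpr hdet
    have h2 : c⁻¹ * c = 1 := Matrix.nonsing_inv_mul _ hu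
    have k2 : ∀ X : Mat, c⁻¹ * (c * X) = X := fun X => by rw [← mul_assoc, h2, one_mul]
    apply Subtype.ext
    simp only [mul_assoc, k2, h2, mul_one]
  right_inv z := by
    have hu : IsUnit c.det := isUnit_iff_ne_zero.mpr hdet
    have h1 : c * c⁻¹ = 1 := Matrix.mul_nonsing_inv _ hu
    have k1 : ∀ X : Mat, c * (c⁻¹ * X) = X := fun X => by rw [← mul_assoc, h1, one_mul]
    apply Subtype.ext
    simp only [mul_assoc, k1, h1, mul_one]

theorem J_mem_UU : Cfsg.jordanTypeMatrix d K ∈ UU d bar hh := by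
  rw [UU_iff fd c hc hdet]
  exact ⟨rfl, H0_invariant d bar hh fd.hinv⟩

theorem u0_mem_CC : c * Cfsg.jordanTypeMatrix d K * c⁻¹ ∈ CC d bar c :=
  conj_mem_CC fd c hc hdet (J_mem_UU fd c hc hdet)

end StepA

section StepB

variable {K : Type u} [Field K] {q n t : ℕ} {d : Fin t → ℕ}
variable (bar : K →+* K) (hbar : ∀ x, bar x = x ^ q)
variable (e : ((k : Fin t) × Fin (d k)) ≃ Fin n)

local notation "Mat" => Matrix ((k : Fin t) × Fin (d k)) ((k : Fin t) × Fin (d k)) K

/-- a matrix with explicit inverse, reindexed, as an element of `GL`. -/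
def toGL (M N : Mat) (h1 : M * N = 1) (h2 : N * M = 1) : GL (Fin n) K :=
  ⟨M.submatrix e.symm e.symm, N.submatrix e.symm e.symm,
    by rw [Matrix.submatrix_mul_equiv, h1, Matrix.submatrix_one_equiv],
    by rw [Matrix.submatrix_mul_equiv, h2, Matrix.submatrix_one_equiv]⟩

theorem toGL_val (M N : Mat) (h1 : M * N = 1) (h2 : N * M = 1) :
    ((toGL e M N h1 h2 : GL (Fin n) K) : Matrix (Fin n) (Fin n) K)
      = M.submatrix e.symm e.symm := rfl

include hbar in
theorem toGL_mem_GU (M : Mat) (h : sT bar M * M = 1) :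
    toGL e M (sT bar M) (mul_eq_one_comm.mp h) h ∈ Cfsg.GU n K q := by
  rw [mem_GU_iff_sT bar hbar]
  show sT bar (M.submatrix e.symm e.symm) * M.submatrix e.symm e.symm = 1
  have : sT bar (M.submatrix e.symm e.symm) = (sT bar M).submatrix e.symm e.symm := rfl
  rw [this, Matrix.submatrix_mul_equiv, h, Matrix.submatrix_one_equiv]

/-- unitary matrices as elements of `GU`. -/
def toGU (M : Mat) (h : sT bar M * M = 1) : ↥(Cfsg.GU n K q) :=
  ⟨toGL e M (sT bar M) (mul_eq_one_comm.mp h) h, toGL_mem_GU bar hbar e M h⟩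

theorem toGU_val (M : Mat) (h : sT bar M * M = 1) :
    (((toGU bar hbar e M h : ↥(Cfsg.GU n K q)) : GL (Fin n) K) : Matrix (Fin n) (Fin n) K)
      = M.submatrix e.symm e.symm := rfl

theorem submatrix_symm_submatrix (M : Mat) :
    (M.submatrix e.symm e.symm).submatrix e e = M := by
  ext i j
  simp

/-- `CC ≃ C_GU(u₀)`. -/
def equivCent (c : Mat)
    (h0 : sT bar (c * Cfsg.jordanTypeMatrix d K * c⁻¹) * (c * Cfsg.jordanTypeMatrix d K * c⁻¹) = 1) :
    CC d bar c ≃ ↥(Subgroup.centralizer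
      ({toGU bar hbar e (c * Cfsg.jordanTypeMatrix d K * c⁻¹) h0} : Set ↥(Cfsg.GU n K q))) where
  toFun z := ⟨toGU bar hbar e z.1 z.2.1, by
    rw [Subgroup.mem_centralizer_singleton_iff]
    apply Subtype.ext
    apply Units.ext
    show z.1.submatrix e.symm e.symm * (c * Cfsg.jordanTypeMatrix d K * c⁻¹).submatrix e.symm e.symm
      = (c * Cfsg.jordanTypeMatrix d K * c⁻¹).submatrix e.symm e.symm * z.1.submatrix e.symm e.symm
    rw [Matrix.submatrix_mul_equiv, Matrix.submatrix_mul_equiv, z.2.2]⟩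
  invFun w := ⟨(((w : ↥(Cfsg.GU n K q)) : GL (Fin n) K) : Matrix (Fin n) (Fin n) K).submatrix e e, by
    constructor
    · have h := (mem_GU_iff_sT bar hbar (w : ↥(Cfsg.GU n K q)).1).mp (w : ↥(Cfsg.GU n K q)).2
      have : sT bar ((((w : ↥(Cfsg.GU n K q)) : GL (Fin n) K) : Matrix (Fin n) (Fin n) K).submatrix e e)
          = (sT bar (((w : ↥(Cfsg.GU n K q)) : GL (Fin n) K) : Matrix (Fin n) (Fin n) K)).submatrix e e :=
        rfl
      rw [this, Matrix.submatrix_mul_equiv, h, Matrix.submatrix_one_equiv]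
    · have h := Subgroup.mem_centralizer_singleton_iff.mp w.2
      have h' := congrArg (fun x : ↥(Cfsg.GU n K q) =>
        (((x : GL (Fin n) K) : Matrix (Fin n) (Fin n) K)).submatrix e e) h
      beta_reduce at h'
      have e1 : ∀ x y : ↥(Cfsg.GU n K q), (((x * y : ↥(Cfsg.GU n K q)) : GL (Fin n) K) :
          Matrix (Fin n) (Fin n) K) = ((x : GL (Fin n) K) : Matrix (Fin n) (Fin n) K)
            * ((y : GL (Fin n) K) : Matrix (Fin n) (Fin n) K) := fun x y => rfl
      rw [e1, e1, toGU_val, ← Matrix.submatrix_mul_equiv _ _ e e e,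
        ← Matrix.submatrix_mul_equiv _ _ e e e, submatrix_symm_submatrix] at h'
      exact h'⟩
  left_inv z := by
    apply Subtype.ext
    exact submatrix_symm_submatrix e z.1
  right_inv w := by
    apply Subtype.ext
    apply Subtype.ext
    apply Units.ext
    ext i j
    simp [toGU, toGL]

end StepB

section StepC

theorem card_centralizer_of_isConj {G : Type*} [Group G] {a b : G} (h : IsConj a b) :
    Nat.card ↥(Subgroup.centralizer ({a} : Set G)) = Nat.card ↥(Subgroup.centralizer ({b} : Set G)) := by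
  obtain ⟨y, rfl⟩ := isConj_iff.mp h
  refine Nat.card_congr
    { toFun := fun z => ⟨y * z.1 * y⁻¹, ?_⟩
      invFun := fun w => ⟨y⁻¹ * w.1 * y, ?_⟩
      left_inv := fun z => ?_
      right_inv := fun w => ?_ }
  · rw [Subgroup.mem_centralizer_singleton_iff]
    have hz := Subgroup.mem_centralizer_singleton_iff.mp z.2
    calc y * z.1 * y⁻¹ * (y * a * y⁻¹) = y * (z.1 * a) * y⁻¹ := by group
      _ = y * (a * z.1) * y⁻¹ := by rw [hz]
      _ = y * a * y⁻¹ * (y * z.1 * y⁻¹) := by group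
  · rw [Subgroup.mem_centralizer_singleton_iff]
    have hw := Subgroup.mem_centralizer_singleton_iff.mp w.2
    calc y⁻¹ * w.1 * y * a = y⁻¹ * (w.1 * (y * a * y⁻¹)) * y := by group
      _ = y⁻¹ * ((y * a * y⁻¹) * w.1) * y := by rw [hw]
      _ = a * (y⁻¹ * w.1 * y) := by group
  · apply Subtype.ext
    show y⁻¹ * (y * z.1 * y⁻¹) * y = z.1
    group
  · apply Subtype.ext
    show y * (y⁻¹ * w.1 * y) * y⁻¹ = w.1
    group

variable {K : Type u} [Field K] [Fintype K] {q n t : ℕ} (hK : Fintype.card K = q ^ 2)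
  (d : Fin t → ℕ) (hd : ∀ k, 1 ≤ d k) (e : ((k : Fin t) × Fin (d k)) ≃ Fin n)
include hK

theorem card_centralizer_GU (u : ↥(Cfsg.GU n K q))
    (hu : IsConj (Matrix.reindex e e (Cfsg.jordanTypeMatrix d K))
      ((u : GL (Fin n) K) : Matrix (Fin n) (Fin n) K)) :
    Nat.card ↥(Subgroup.centralizer ({u} : Set ↥(Cfsg.GU n K q)))
      = (∏ i : Fin (Finset.univ.sup d + 1),
          Nat.card (Cfsg.GU (Fintype.card {a : Fin t // d a = (i : ℕ)}) K q))
        * q ^ finrank K (LinearMap.ker (Phi (F := K) d hd)) := by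
  classical
  obtain ⟨bar, hbar⟩ := Cfsg.Agent.Helper45.GU.exists_bar hK
  have fd := formData_hhFam hK bar hbar
  obtain ⟨c, hc, hdet⟩ := exists_c (d := d) fd
  have hcu : IsUnit c.det := isUnit_iff_ne_zero.mpr hdet
  have h1 : c * c⁻¹ = 1 := Matrix.mul_nonsing_inv _ hcu
  have h2 : c⁻¹ * c = 1 := Matrix.nonsing_inv_mul _ hcu
  have h0 := (u0_mem_CC fd c hc hdet).1
  set u0 := toGU bar hbar e (c * Cfsg.jordanTypeMatrix d K * c⁻¹) h0 with hu0
  -- conjugacy in GL
  have hconj : IsConj (u0 : GL (Fin n) K) (u : GL (Fin n) K) := by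
    obtain ⟨x, hx⟩ := hu
    have hx' : (x : Matrix (Fin n) (Fin n) K) * Matrix.reindex e e (Cfsg.jordanTypeMatrix d K)
        = ((u : GL (Fin n) K) : Matrix (Fin n) (Fin n) K) * (x : Matrix (Fin n) (Fin n) K) := hx
    set c' : GL (Fin n) K := toGL e c c⁻¹ h1 h2 with hc'
    have hcJ : (c' : Matrix (Fin n) (Fin n) K) * Matrix.reindex e e (Cfsg.jordanTypeMatrix d K)
        = ((u0 : GL (Fin n) K) : Matrix (Fin n) (Fin n) K) * (c' : Matrix (Fin n) (Fin n) K) := by
      show c.submatrix e.symm e.symm * (Cfsg.jordanTypeMatrix d K).submatrix e.symm e.symm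
        = (c * Cfsg.jordanTypeMatrix d K * c⁻¹).submatrix e.symm e.symm * c.submatrix e.symm e.symm
      rw [Matrix.submatrix_mul_equiv, Matrix.submatrix_mul_equiv]
      congr 1
      simp only [mul_assoc, h2, mul_one]
    have hci : ((c'⁻¹ : GL (Fin n) K) : Matrix (Fin n) (Fin n) K)
          * ((u0 : GL (Fin n) K) : Matrix (Fin n) (Fin n) K)
        = Matrix.reindex e e (Cfsg.jordanTypeMatrix d K)
          * ((c'⁻¹ : GL (Fin n) K) : Matrix (Fin n) (Fin n) K) := by
      have a1 : ((c'⁻¹ : GL (Fin n) K) : Matrix (Fin n) (Fin n) K)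
          * (c' : Matrix (Fin n) (Fin n) K) = 1 := by
        rw [← Units.val_mul, inv_mul_cancel, Units.val_one]
      have a2 : (c' : Matrix (Fin n) (Fin n) K)
          * ((c'⁻¹ : GL (Fin n) K) : Matrix (Fin n) (Fin n) K) = 1 := by
        rw [← Units.val_mul, mul_inv_cancel, Units.val_one]
      calc ((c'⁻¹ : GL (Fin n) K) : Matrix (Fin n) (Fin n) K)
            * ((u0 : GL (Fin n) K) : Matrix (Fin n) (Fin n) K)
          = ((c'⁻¹ : GL (Fin n) K) : Matrix (Fin n) (Fin n) K)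
            * (((u0 : GL (Fin n) K) : Matrix (Fin n) (Fin n) K) * (c' : Matrix (Fin n) (Fin n) K))
            * ((c'⁻¹ : GL (Fin n) K) : Matrix (Fin n) (Fin n) K) := by
            simp only [mul_assoc, a2, mul_one]
        _ = ((c'⁻¹ : GL (Fin n) K) : Matrix (Fin n) (Fin n) K)
            * ((c' : Matrix (Fin n) (Fin n) K) * Matrix.reindex e e (Cfsg.jordanTypeMatrix d K))
            * ((c'⁻¹ : GL (Fin n) K) : Matrix (Fin n) (Fin n) K) := by rw [hcJ]
        _ = Matrix.reindex e e (Cfsg.jordanTypeMatrix d K)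
            * ((c'⁻¹ : GL (Fin n) K) : Matrix (Fin n) (Fin n) K) := by
            rw [← mul_assoc, a1, one_mul]
    rw [isConj_iff]
    refine ⟨x * c'⁻¹, ?_⟩
    rw [mul_inv_eq_iff_eq_mul]
    apply Units.ext
    show (x : Matrix (Fin n) (Fin n) K) * ((c'⁻¹ : GL (Fin n) K) : Matrix (Fin n) (Fin n) K)
        * ((u0 : GL (Fin n) K) : Matrix (Fin n) (Fin n) K)
      = ((u : GL (Fin n) K) : Matrix (Fin n) (Fin n) K)
        * ((x : Matrix (Fin n) (Fin n) K) * ((c'⁻¹ : GL (Fin n) K) : Matrix (Fin n) (Fin n) K))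
    rw [mul_assoc, hci, ← mul_assoc, hx', mul_assoc]
  have hconjGU : IsConj u0 u := (Cfsg.Agent.S2587.result hK u0 u).mpr hconj
  rw [← card_centralizer_of_isConj hconjGU,
    ← Nat.card_congr (equivCent bar hbar e c h0),
    ← Nat.card_congr (equivCC fd c hc hdet), card_UU (hd := hd) fd hK, card_UD d bar hbar]

end StepC

end Cfsg.Agent.Helper73.GUCent
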