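import Mathlib

set_option autoImplicit false

/-!
# Rank of a matrix over a finite field is invariant under an involutive field automorphism
(proved by counting kernels).
-/

namespace Cfsg.Agent.Helper73.RankMap

open Matrix Module

variable {K : Type*} [Field K] [Fintype K] {n : ℕ}

theorem card_ker_map (bar : K →+* K) (hbar2 : ∀ x, bar (bar x) = x)
    (Y : Matrix (Fin n) (Fin n) K) :
    Nat.card (LinearMap.ker (Y.map bar).mulVecLin) = Nat.card (LinearMap.ker Y.mulVecLin) := by
  have hmm : ∀ Z : Matrix (Fin n) (Fin n) K, (Z.map bar).map bar = Z := by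
    intro Z
    ext i j
    simp [hbar2]
  have key : ∀ (Z : Matrix (Fin n) (Fin n) K) (v : Fin n → K), Z.mulVec v = 0 →
      (Z.map bar).mulVec (bar ∘ v) = 0 := by
    intro Z v hv
    funext i
    rw [← RingHom.map_mulVec, hv]
    simp
  apply Nat.card_congr
  refine ⟨fun v => ⟨bar ∘ v.1, ?_⟩, fun v => ⟨bar ∘ v.1, ?_⟩, ?_, ?_⟩
  · have hv := v.2
    rw [LinearMap.mem_ker, Matrix.mulVecLin_apply] at hv ⊢
    have := key _ _ hv
    rwa [hmm] at this
  · have hv := v.2
    rw [LinearMap.mem_ker, Matrix.mulVecLin_apply] at hv ⊢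
    exact key _ _ hv
  · intro v
    apply Subtype.ext
    funext i
    simp [hbar2]
  · intro v
    apply Subtype.ext
    funext i
    simp [hbar2]

theorem finrank_ker_map (bar : K →+* K) (hbar2 : ∀ x, bar (bar x) = x)
    (Y : Matrix (Fin n) (Fin n) K) :
    finrank K (LinearMap.ker (Y.map bar).mulVecLin) = finrank K (LinearMap.ker Y.mulVecLin) := by
  classical
  have h := card_ker_map bar hbar2 Y
  rw [Nat.card_eq_fintype_card, Nat.card_eq_fintype_card,
    Module.card_eq_pow_finrank (K := K) (V := LinearMap.ker (Y.map bar).mulVecLin),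
    Module.card_eq_pow_finrank (K := K) (V := LinearMap.ker Y.mulVecLin)] at h
  exact Nat.pow_right_injective (Fintype.one_lt_card (α := K)) h

theorem rank_map (bar : K →+* K) (hbar2 : ∀ x, bar (bar x) = x)
    (Y : Matrix (Fin n) (Fin n) K) : (Y.map bar).rank = Y.rank := by
  have h1 := LinearMap.finrank_range_add_finrank_ker (Y.map bar).mulVecLin
  have h2 := LinearMap.finrank_range_add_finrank_ker Y.mulVecLin
  have h3 := finrank_ker_map bar hbar2 Y
  unfold Matrix.rank
  omega

end Cfsg.Agent.Helper73.RankMap
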