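import Mathlib
import Cfsg.Agent.S2570
import Cfsg.Agent.S2587
import Cfsg.Agent.Helper73.HermInv
import Cfsg.Agent.Helper73.RankMap

set_option autoImplicit false

/-!
# Unipotent Jordan types in `GU_n(q)`
-/

namespace Cfsg.Agent.Helper73.GUJordan

open Matrix Polynomial Module Cfsg.Agent.S2587 Cfsg.Agent.Helper43.SS

universe u

section Dk
variable {F : Type u} [Field F] {n : ℕ}

theorem dk_AEval (φ : Module.End F (Fin n → F)) (k : ℕ) :
    dk F (AEval' φ) k = finrank F (LinearMap.ker (φ ^ k)) := by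
  unfold dk
  have h : (LinearMap.ker (φ ^ k)).map (AEval'.of φ).toLinearMap
      = LinearMap.ker ((xEnd F (AEval' φ)) ^ k) := by
    ext m
    rw [mem_ker_xEnd_pow]
    constructor
    · rintro ⟨v, hv, rfl⟩
      have hv : (φ ^ k) v = 0 := LinearMap.mem_ker.1 hv
      show (X : F[X]) ^ k • AEval'.of φ v = 0
      rw [AEval'.X_pow_smul_of, Module.End.smul_def, hv, map_zero]
    · intro hm
      obtain ⟨v, rfl⟩ := (AEval'.of φ).surjective m
      rw [AEval'.X_pow_smul_of, Module.End.smul_def] at hm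
      have := (AEval'.of φ).injective (hm.trans (map_zero _).symm)
      exact ⟨v, LinearMap.mem_ker.2 this, rfl⟩
  rw [← h]
  exact LinearEquiv.finrank_map_eq (AEval'.of φ) _

theorem finrank_ker_toLin'_pow (N : Matrix (Fin n) (Fin n) F) (k : ℕ) :
    finrank F (LinearMap.ker ((Matrix.toLin' N) ^ k)) + (N ^ k).rank = n := by
  rw [← Matrix.toLin'_pow, Matrix.toLin'_apply']
  have h := LinearMap.finrank_range_add_finrank_ker (N ^ k).mulVecLin
  rw [Module.finrank_fin_fun] at h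
  unfold Matrix.rank
  omega

/-- Nilpotent matrices whose powers have the same ranks have the same Jordan type. -/
theorem isJType_of_rank_pow_eq {l : List ℕ} {N N' : Matrix (Fin n) (Fin n) F}
    (hJ : IsJType l N) (hN' : ∃ k, N' ^ k = 0)
    (hrank : ∀ k, (N' ^ k).rank = (N ^ k).rank) : IsJType l N' := by
  obtain ⟨hs, hp, ⟨E₀⟩⟩ := hJ
  obtain ⟨k', hk'⟩ := hN'
  have hnilp' : IsNilp F (AEval' (Matrix.toLin' N')) :=
    ⟨k', (kills_AEval_toLin'_iff N' k').mpr hk'⟩
  have hnilp : IsNilp F (AEval' (Matrix.toLin' N)) := (isNilp_PiQ l).of_equiv E₀.symm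
  have hdk : ∀ k, dk F (AEval' (Matrix.toLin' N')) k = dk F (AEval' (Matrix.toLin' N)) k := by
    intro k
    rw [dk_AEval, dk_AEval]
    have h1 := finrank_ker_toLin'_pow N k
    have h2 := finrank_ker_toLin'_pow N' k
    have := hrank k
    omega
  obtain ⟨E⟩ := nonempty_equiv_of_dk_eq _ (AEval' (Matrix.toLin' N')) (AEval' (Matrix.toLin' N))
    rfl hnilp' hnilp hdk
  exact ⟨hs, hp, ⟨E.trans E₀⟩⟩

end Dk

section GU
variable {K : Type u} [Field K] [Fintype K] {q n : ℕ}

/-- The Jordan type of the image of a unipotent element under `g ↦ (g⁻¹)*`. -/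
theorem isJType_star_inv (bar : K →+* K) (hbar2 : ∀ x, bar (bar x) = x)
    (g : GL (Fin n) K) {l : List ℕ} (hJ : IsJType l (nilPart g)) (hu : IsUnip g) :
    (∃ k, (st bar ((g⁻¹ : GL (Fin n) K) : Matrix (Fin n) (Fin n) K) - 1) ^ k = 0) ∧
    IsJType l (st bar ((g⁻¹ : GL (Fin n) K) : Matrix (Fin n) (Fin n) K) - 1) := by
  classical
  set gM : Matrix (Fin n) (Fin n) K := (g : Matrix (Fin n) (Fin n) K) with hgM
  set gi : Matrix (Fin n) (Fin n) K := ((g⁻¹ : GL (Fin n) K) : Matrix (Fin n) (Fin n) K) with hgi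
  have h1 : gi * gM = 1 := by rw [hgM, hgi, ← Units.val_mul, inv_mul_cancel]; rfl
  have h2 : gM * gi = 1 := by rw [hgM, hgi, ← Units.val_mul, mul_inv_cancel]; rfl
  set N : Matrix (Fin n) (Fin n) K := nilPart g with hN
  have hNdef : N = gM - 1 := rfl
  have e : gi - 1 = (-gi) * N := by
    rw [hNdef, neg_mul, mul_sub, h1, mul_one]; abel
  have hcomm : Commute (-gi) N := by
    show (-gi) * N = N * (-gi)
    rw [hNdef, neg_mul, mul_neg, mul_sub, sub_mul, h1, h2, mul_one, one_mul]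
  have hdet : ∀ k, IsUnit ((-gi) ^ k).det := by
    intro k
    rw [Matrix.det_pow, Matrix.det_neg]
    exact (((isUnit_one.neg).pow _).mul (Matrix.isUnits_det_units g⁻¹)).pow _
  have hst : st bar gi - 1 = st bar (gi - 1) := by
    ext i j
    simp only [st_apply, Matrix.sub_apply, Matrix.one_apply, map_sub]
    congr 1
    by_cases h : i = j
    · subst h; simp
    · rw [if_neg h, if_neg (Ne.symm h), map_zero]
  have hpow : ∀ k, (st bar gi - 1) ^ k = st bar (((-gi) ^ k) * N ^ k) := by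
    intro k
    rw [hst, ← st_pow, e, hcomm.mul_pow]
  refine ⟨?_, ?_⟩
  · obtain ⟨k, hk⟩ := hu
    refine ⟨k, ?_⟩
    rw [hpow, show N ^ k = 0 from hk, mul_zero]
    ext i j
    simp [st_apply]
  · apply isJType_of_rank_pow_eq hJ
    · obtain ⟨k, hk⟩ := hu
      refine ⟨k, ?_⟩
      rw [hpow, show N ^ k = 0 from hk, mul_zero]
      ext i j
      simp [st_apply]
    · intro k
      rw [hpow]
      unfold st
      rw [Matrix.rank_transpose, Cfsg.Agent.Helper73.RankMap.rank_map bar hbar2,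
        Matrix.rank_mul_eq_right_of_isUnit_det _ _ (hdet k)]

/-- Every unipotent Jordan type occurs in `GU_n(q)`. -/
theorem exists_unip_GU_of_list (hK : Fintype.card K = q ^ 2) (l : List ℕ)
    (hs : l.Pairwise (· ≥ ·)) (hp : ∀ a ∈ l, 0 < a) (hsum : l.sum = n) :
    ∃ B : GL (Fin n) K, B ∈ Cfsg.GU n K q ∧ IsUnip B ∧ jtype B = l := by
  classical
  obtain ⟨bar, hbar⟩ := Cfsg.Agent.Helper45.GU.exists_bar hK
  have hbar2 : ∀ x, bar (bar x) = x := by
    intro x
    rw [hbar, hbar, ← pow_mul, ← sq, ← hK, FiniteField.pow_card]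
  obtain ⟨g, hgu, hgl⟩ := exists_unip_of_list (F := K) l hs hp hsum
  have hJ : IsJType l (nilPart g) := hgl ▸ jtype_spec g hgu
  set gM : Matrix (Fin n) (Fin n) K := (g : Matrix (Fin n) (Fin n) K) with hgM
  set gi : Matrix (Fin n) (Fin n) K := ((g⁻¹ : GL (Fin n) K) : Matrix (Fin n) (Fin n) K) with hgi
  have h1 : gi * gM = 1 := by rw [hgM, hgi, ← Units.val_mul, inv_mul_cancel]; rfl
  have h2 : gM * gi = 1 := by rw [hgM, hgi, ← Units.val_mul, mul_inv_cancel]; rfl
  let φg : GL (Fin n) K := ⟨st bar gi, st bar gM, by rw [← st_mul, h2, st_one],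
    by rw [← st_mul, h1, st_one]⟩
  obtain ⟨hφu, hφJ⟩ := isJType_star_inv bar hbar2 g hJ hgu
  have hφu' : IsUnip φg := hφu
  have hφl : jtype φg = l :=
    (jtype_spec φg hφu').eq_of_equiv hφJ (LinearEquiv.refl K _) (fun x => rfl)
  obtain ⟨d, hd⟩ := isConj_iff.1 (isConj_of_jtype_eq g φg hgu hφu' (by rw [hgl, hφl]))
  have hd' : (d : Matrix (Fin n) (Fin n) K) * gM = st bar gi * (d : Matrix (Fin n) (Fin n) K) := by
    have : d * g = φg * d := by rw [← hd]; group
    have := congrArg (fun x : GL (Fin n) K => (x : Matrix (Fin n) (Fin n) K)) this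
    simpa using this
  have hinv : st bar gM * (d : Matrix (Fin n) (Fin n) K) * gM = (d : Matrix (Fin n) (Fin n) K) := by
    rw [mul_assoc, hd', ← mul_assoc, ← st_mul, h1, st_one, one_mul]
  obtain ⟨B, hB, hconj⟩ := Cfsg.Agent.Helper73.HermInv.exists_conj_mem_GU hK bar hbar g d hinv
  obtain ⟨c, hc⟩ := isConj_iff.1 hconj
  refine ⟨B, hB, ?_, ?_⟩
  · rw [← hc]; exact hgu.conj c
  · rw [← hc, jtype_conj g c hgu, hgl]

/-- Counting unipotent classes of `GU_n(q)` with a condition on the Jordan type. -/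
theorem card_unip_classes_GU (hK : Fintype.card K = q ^ 2) (R : Multiset ℕ → Prop) :
    Nat.card {c : ConjClasses ↥(Cfsg.GU n K q) //
      ∃ g : ↥(Cfsg.GU n K q), ConjClasses.mk g = c ∧
        (IsUnip (g : GL (Fin n) K) ∧ R (jtype (g : GL (Fin n) K) : Multiset ℕ))}
      = Nat.card {μ : Nat.Partition n // R μ.parts} := by
  rw [← Nat.card_congr (listPartitionEquiv n R)]
  apply card_classes_eq'
    (fun g : ↥(Cfsg.GU n K q) => IsUnip (g : GL (Fin n) K) ∧ R (jtype (g : GL (Fin n) K) : Multiset ℕ))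
    (fun g => jtype (g : GL (Fin n) K))
    (fun l => l.Pairwise (· ≥ ·) ∧ (∀ a ∈ l, 0 < a) ∧ l.sum = n ∧ R (l : Multiset ℕ))
  · intro g c hg
    exact jtype_conj (g : GL (Fin n) K) (c : GL (Fin n) K) hg.1
  · intro g h hg hh heq
    exact (Cfsg.Agent.S2587.result hK g h).2
      (isConj_of_jtype_eq (g : GL (Fin n) K) (h : GL (Fin n) K) hg.1 hh.1 heq)
  · intro g hg
    have h1 := jtype_spec (g : GL (Fin n) K) hg.1
    exact ⟨h1.1, h1.2.1, h1.sum_eq, hg.2⟩
  · rintro l ⟨hs, hp, hsum, hR⟩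
    obtain ⟨B, hB, hBu, hBl⟩ := exists_unip_GU_of_list (K := K) hK l hs hp hsum
    exact ⟨⟨B, hB⟩, ⟨hBu, by rw [hBl]; exact hR⟩, hBl⟩

end GU

end Cfsg.Agent.Helper73.GUJordan
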