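import Mathlib

/-!
helper73: piece (CL) of helper28's farm #15126 (S2075, Out(He)).
-/

set_option autoImplicit false

namespace Cfsg.Agent.Helper73.HeOut

universe u

/-- right multiplication by `a` maps the finite set `S` into itself, hence so does right multiplication by `a⁻¹` -/
theorem CL_inv_step {H : Type u} [Group H] (S : Set H) (hS : S.Finite) (a : H)
    (ha : ∀ x ∈ S, x * a ∈ S) : ∀ x ∈ S, x * a⁻¹ ∈ S := by
  have hm : Set.MapsTo (fun x : H => x * a) S S := fun x hx => ha x hx
  have hinj : Set.InjOn (fun x : H => x * a) S := fun x _ y _ hxy => mul_right_cancel hxy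
  have hbij : Set.BijOn (fun x : H => x * a) S S := (hS.injOn_iff_bijOn_of_mapsTo hm).mp hinj
  intro x hx
  obtain ⟨x', hx', hxx⟩ := hbij.surjOn hx
  have : x * a⁻¹ = x' := by
    rw [← hxx]
    simp
  rw [this]
  exact hx'

/-- (CL) a finite set containing `1` and closed under right multiplication by the generators contains the closure -/
theorem closure_subset_of_mul_right {H : Type u} [Group H] (S : Set H) (hS : S.Finite) (gs : Set H) (h1 : (1 : H) ∈ S)
    (hmul : ∀ x ∈ S, ∀ g ∈ gs, x * g ∈ S) : ∀ x ∈ Subgroup.closure gs, x ∈ S := by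
  intro y hy
  have key : ∀ x ∈ S, x * y ∈ S := by
    induction hy using Subgroup.closure_induction with
    | mem g hg => exact fun x hx => hmul x hx g hg
    | one => intro x hx; rwa [mul_one]
    | mul a b _ _ iha ihb =>
      intro x hx
      rw [← mul_assoc]
      exact ihb _ (iha x hx)
    | inv a _ iha => exact CL_inv_step S hS a iha
  have := key 1 h1
  rwa [one_mul] at this

end Cfsg.Agent.Helper73.HeOut
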