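import Mathlib

/-!
helper73: piece (SY) of helper28's farm #15126 (S2075, Out(He)).
-/

set_option autoImplicit false

namespace Cfsg.Agent.Helper73.HeOut

universe u

/-- (SY) every element of order two is conjugate into a subgroup whose order is the full power of two -/
theorem exists_conj_mem_of_orderOf_two {H : Type u} [Group H] [Finite H] (T : Subgroup H) (k : ℕ)
    (hT : Nat.card T = 2 ^ k) (hk : (Nat.card H).factorization 2 = k) (t : H) (ht : orderOf t = 2) :
    ∃ g : H, g * t * g⁻¹ ∈ T := by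
  have : Fact (Nat.Prime 2) := ⟨Nat.prime_two⟩
  -- `T` is a Sylow 2-subgroup
  let S : Sylow 2 H := Sylow.ofCard T (by rw [hT, hk])
  have hST : (S : Subgroup H) = T := rfl
  -- `⟨t⟩` is a 2-group
  have hz : IsPGroup 2 (Subgroup.zpowers t) := by
    apply IsPGroup.of_card (n := 1)
    rw [Nat.card_zpowers, ht, pow_one]
  obtain ⟨Q, hQ⟩ := hz.exists_le_sylow
  obtain ⟨g, hg⟩ := MulAction.exists_smul_eq H Q S
  refine ⟨g, ?_⟩
  have htQ : t ∈ (Q : Subgroup H) := hQ (Subgroup.mem_zpowers t)
  have h1 : g * t * g⁻¹ ∈ ((g • Q : Sylow 2 H) : Subgroup H) := by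
    rw [Sylow.coe_subgroup_smul]
    have := Subgroup.smul_mem_pointwise_smul t (MulAut.conj g) (Q : Subgroup H) htQ
    simpa [MulAut.smul_def, MulAut.conj_apply] using this
  rw [hg, hST] at h1
  exact h1

end Cfsg.Agent.Helper73.HeOut
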