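import Mathlib
import Cfsg.Agent.Helper73.LBSpB
import Cfsg.Agent.Helper67.LBSpA2
import Cfsg.Agent.Helper14.LBSpB
import Cfsg.Agent.S0270

/-!
Helper73: local balance for `PSp_{2m}(q)` (S2730), main part: the statement for a standard field
automorphism.
-/

set_option autoImplicit false
set_option linter.unusedSectionVars false

namespace Cfsg.Agent.Helper73.LBSp

open Matrix Cfsg.Agent.Helper5.AutSp Cfsg.Agent.Helper14.AutPSp Cfsg.Agent.Helper14.AutPSL
  Cfsg.Agent.Helper37.SpFour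

variable {F : Type*} [Field F] [Fintype F] {m : ℕ}

theorem aut_conj_conj {K : Type*} [Group K] (h : MulAut K) (k : K) :
    h * MulAut.conj k * h⁻¹ = MulAut.conj (h k) := by
  apply MulEquiv.ext
  intro z
  simp only [MulAut.mul_apply, MulAut.conj_apply, map_mul, map_inv, MulAut.apply_inv_self]

/-- `Inn ⊓ C(φ)` -/
noncomputable def innC (m : ℕ) (σ : F ≃+* F) : Subgroup (MulAut (Cfsg.PSp m F)) :=
  (MulAut.conj : Cfsg.PSp m F →* MulAut (Cfsg.PSp m F)).range ⊓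
    Subgroup.centralizer {(spField σ : MulAut (Cfsg.PSp m F))}

theorem innC_le_inndiag (σ : F ≃+* F) :
    innC m σ ≤ Cfsg.inndiagPSp m F ⊓
      Subgroup.centralizer {(spField σ : MulAut (Cfsg.PSp m F))} := by
  rintro y ⟨⟨k, rfl⟩, hy⟩
  refine ⟨?_, hy⟩
  obtain ⟨s, rfl⟩ := prj_surjective k
  rw [← gspHom_spIncl]
  exact mem_inndiagPSp.mpr ⟨_, rfl⟩

theorem subT_range_le_innC (hm : 2 ≤ m) (σ : F ≃+* F) : (subT m σ).range ≤ innC m σ := by
  rintro _ ⟨s, rfl⟩
  refine ⟨?_, (subT_mem_range hm σ s).2⟩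
  obtain ⟨s', hs'⟩ := subT_eq_conj (by omega) σ s
  exact ⟨prj s', hs'.symm⟩

theorem conj_mem_innC (σ : F ≃+* F) {h y : MulAut (Cfsg.PSp m F)}
    (hh : h ∈ Subgroup.centralizer {(spField σ : MulAut (Cfsg.PSp m F))}) (hy : y ∈ innC m σ) :
    h * y * h⁻¹ ∈ innC m σ := by
  obtain ⟨⟨k, rfl⟩, hy2⟩ := hy
  refine ⟨⟨h k, (aut_conj_conj h k).symm⟩, ?_⟩
  exact Subgroup.mul_mem _ (Subgroup.mul_mem _ hh hy2) (Subgroup.inv_mem _ hh)

/-- the `p'`-core of `C_A(φ)` is trivial when `p` divides `|C_K(φ)|` -/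
theorem core_eq_bot (hm : 2 ≤ m) (hs : m = 2 → 3 ≤ Fintype.card F) (σ : F ≃+* F) {p : ℕ}
    [Fact p.Prime] (hp : p ≠ ringChar F) (hσ : orderOf σ = p)
    (A : Subgroup (MulAut (Cfsg.PSp m F))) (hinn : ∀ k : Cfsg.PSp m F, MulAut.conj k ∈ A)
    (hdvd : p ∣ Nat.card ↥(MonoidHom.eqLocus (spField σ : MulAut (Cfsg.PSp m F)).toMonoidHom
      (MonoidHom.id (Cfsg.PSp m F)))) :
    Cfsg.pPrimeCore p
      ↥(A ⊓ Subgroup.centralizer {(spField σ : MulAut (Cfsg.PSp m F))}) = ⊥ := by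
  have : Finite (Cfsg.PSp m F) := Finite.of_surjective _ (prj_surjective (F := F) (m := m))
  have : Finite (MulAut (Cfsg.PSp m F)) := Finite.of_injective (fun e => (e : Cfsg.PSp m F → Cfsg.PSp m F))
    (fun a b hab => MulEquiv.ext (congrFun hab))
  set φ : MulAut (Cfsg.PSp m F) := spField σ with hφdef
  set H : Subgroup (MulAut (Cfsg.PSp m F)) := A ⊓ Subgroup.centralizer {φ} with hHdef
  unfold Cfsg.pPrimeCore
  rw [sSup_eq_bot]
  rintro N ⟨hNn, hNc⟩
  have hφord : orderOf φ = p := by rw [hφdef, orderOf_spField hm σ, hσ]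
  -- push everything to `MulAut K`
  set N0 : Subgroup (MulAut (Cfsg.PSp m F)) := N.map H.subtype with hN0def
  have hN0H : N0 ≤ H := Subgroup.map_subtype_le N
  have hN0norm : ∀ h ∈ H, ∀ n ∈ N0, h * n * h⁻¹ ∈ N0 := by
    rintro h hh _ ⟨n, hn, rfl⟩
    exact ⟨⟨h, hh⟩ * n * ⟨h, hh⟩⁻¹, hNn.conj_mem n hn ⟨h, hh⟩, rfl⟩
  have hN0card : Nat.card N0 = Nat.card N :=
    (Nat.card_congr (Subgroup.equivMapOfInjective N H.subtype H.subtype_injective).toEquiv).symm
  have hN0cop : (Nat.card N0).Coprime p := by rw [hN0card]; exact hNc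
  -- the relevant subgroups
  have hTI : (subT m σ).range ≤ innC m σ := subT_range_le_innC hm σ
  have hIH : innC m σ ≤ H := by
    rintro y ⟨⟨k, rfl⟩, hy⟩
    exact ⟨hinn k, hy⟩
  have hTH : (subT m σ).range ≤ H := hTI.trans hIH
  have hHI : ∀ h ∈ H, ∀ y ∈ innC m σ, h * y * h⁻¹ ∈ innC m σ :=
    fun h hh y hy => conj_mem_innC σ hh.2 hy
  -- Step 1
  have h1 : N0 ⊓ (subT m σ).range = ⊥ := by
    apply Cfsg.Agent.Helper67.LBSp.subT_range_inf_eq_bot hm hs σ hp N0 _ hN0cop hdvd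
    intro s n hn
    exact hN0norm _ (hTH ⟨s, rfl⟩) n hn
  -- Step 2
  have h2 : N0 ⊓ innC m σ = ⊥ := by
    apply eq_bot_of_le_zpowers _ φ hφord
    · intro n hn
      apply Cfsg.Agent.Helper14.LBSp.centralizer_subT_le hm hs σ n
      intro s
      apply commute_of_normalize_of_inf_eq_bot (N0 ⊓ innC m σ) (subT m σ).range _ _ _ hn ⟨s, rfl⟩
      · intro t ht n' hn'
        exact ⟨hN0norm t (hTH ht) n' hn'.1, hHI t (hTH ht) n' hn'.2⟩
      · rintro n' hn' _ ⟨s', rfl⟩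
        obtain ⟨s'', hs''⟩ := conj_subT hm σ n' (innC_le_inndiag σ hn'.2) s'
        exact ⟨s'', hs''.symm⟩
      · rw [eq_bot_iff, ← h1]
        exact inf_le_inf_right _ inf_le_left
    · exact Nat.Coprime.coprime_dvd_left (Subgroup.card_dvd_of_le inf_le_left) hN0cop
  -- Step 3
  have h3 : N0 = ⊥ := by
    apply eq_bot_of_le_zpowers _ φ hφord _ hN0cop
    intro n hn
    apply Cfsg.Agent.Helper14.LBSp.centralizer_subT_le hm hs σ n
    intro s
    apply commute_of_normalize_of_inf_eq_bot N0 (innC m σ) _ _ h2 hn (hTI ⟨s, rfl⟩)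
    · intro y hy n' hn'
      exact hN0norm y (hIH hy) n' hn'
    · intro n' hn' y hy
      exact hHI n' (hN0H hn') y hy
  exact (Subgroup.map_eq_bot_iff_of_injective N H.subtype_injective).mp h3

/-- `PSp_{2m}(F)` has trivial centre -/
theorem center_psp_eq_bot' (hm : 2 ≤ m) (hs : m = 2 → 3 ≤ Fintype.card F) :
    Subgroup.center (Cfsg.PSp m F) = ⊥ := by
  have hsimple := Cfsg.Agent.S0270.result (F := F) m hm hs
  rcases (Subgroup.Normal.eq_bot_or_eq_top (inferInstance : (Subgroup.center (Cfsg.PSp m F)).Normal)) with h | h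
  · exact h
  · exfalso
    obtain ⟨s, hs1⟩ := exists_subT_ne_one hm (1 : F ≃+* F)
    obtain ⟨s', hs'⟩ := subT_eq_conj (by omega) (1 : F ≃+* F) s
    apply hs1
    rw [hs']
    apply MulEquiv.ext
    intro z
    have hc : prj s' ∈ Subgroup.center (Cfsg.PSp m F) := by rw [h]; exact Subgroup.mem_top _
    rw [MulAut.conj_apply, MulAut.one_apply, (Subgroup.mem_center_iff.mp hc z).symm,
      mul_inv_cancel_right]

theorem conj_injective' (hm : 2 ≤ m) (hs : m = 2 → 3 ≤ Fintype.card F) :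
    Function.Injective (MulAut.conj : Cfsg.PSp m F →* MulAut (Cfsg.PSp m F)) := by
  rw [injective_iff_map_eq_one]
  intro x hx
  have hxc : x ∈ Subgroup.center (Cfsg.PSp m F) := by
    rw [Subgroup.mem_center_iff]
    intro y
    have := congrArg (fun β : MulAut (Cfsg.PSp m F) => β y) hx
    simp only [MulAut.conj_apply, MulAut.one_apply] at this
    calc y * x = x * y * x⁻¹ * x := by rw [this]
      _ = x * y := by group
  rw [center_psp_eq_bot' hm hs, Subgroup.mem_bot] at hxc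
  exact hxc

/-- `Inn ⊓ C(φ)` is the image of the fixed points -/
theorem innC_le_map (hm : 2 ≤ m) (hs : m = 2 → 3 ≤ Fintype.card F) (σ : F ≃+* F) :
    innC m σ ≤ (MonoidHom.eqLocus (spField σ : MulAut (Cfsg.PSp m F)).toMonoidHom
      (MonoidHom.id (Cfsg.PSp m F))).map (MulAut.conj : Cfsg.PSp m F →* MulAut (Cfsg.PSp m F)) := by
  rintro y ⟨⟨k, rfl⟩, hy⟩
  refine ⟨k, ?_, rfl⟩
  have h1 := Subgroup.mem_centralizer_iff.mp hy _ (Set.mem_singleton _)
  have h2 : MulAut.conj ((spField σ : MulAut (Cfsg.PSp m F)) k) = MulAut.conj k := by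
    rw [← aut_conj_conj, h1, mul_inv_cancel_right]
  exact conj_injective' hm hs h2

/-- the `p'`-core of `C_A(φ)` is non-trivial when `p` does not divide `|C_K(φ)|` -/
theorem core_ne_bot (hm : 2 ≤ m) (hs : m = 2 → 3 ≤ Fintype.card F) (σ : F ≃+* F) {p : ℕ}
    (A : Subgroup (MulAut (Cfsg.PSp m F))) (hinn : ∀ k : Cfsg.PSp m F, MulAut.conj k ∈ A)
    (hcop : Nat.Coprime p (Nat.card ↥(MonoidHom.eqLocus
      (spField σ : MulAut (Cfsg.PSp m F)).toMonoidHom (MonoidHom.id (Cfsg.PSp m F))))) :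
    Cfsg.pPrimeCore p
      ↥(A ⊓ Subgroup.centralizer {(spField σ : MulAut (Cfsg.PSp m F))}) ≠ ⊥ := by
  have : Finite (Cfsg.PSp m F) := Finite.of_surjective _ (prj_surjective (F := F) (m := m))
  have : Finite (MulAut (Cfsg.PSp m F)) := Finite.of_injective (fun e => (e : Cfsg.PSp m F → Cfsg.PSp m F))
    (fun a b hab => MulEquiv.ext (congrFun hab))
  set φ : MulAut (Cfsg.PSp m F) := spField σ with hφdef
  set H : Subgroup (MulAut (Cfsg.PSp m F)) := A ⊓ Subgroup.centralizer {φ} with hHdef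
  have hIH : innC m σ ≤ H := by
    rintro y ⟨⟨k, rfl⟩, hy⟩
    exact ⟨hinn k, hy⟩
  have hnormal : ((innC m σ).subgroupOf H).Normal := by
    refine ⟨fun n hn h => ?_⟩
    rw [Subgroup.mem_subgroupOf] at hn ⊢
    exact conj_mem_innC σ h.2.2 hn
  have hcard : (Nat.card ((innC m σ).subgroupOf H)).Coprime p := by
    rw [Nat.card_congr (Subgroup.subgroupOfEquivOfLe hIH).toEquiv]
    apply Nat.Coprime.symm
    apply Nat.Coprime.coprime_dvd_right _ hcop
    exact (Subgroup.card_dvd_of_le (innC_le_map hm hs σ)).trans (Subgroup.card_map_dvd _ _)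
  have hle : (innC m σ).subgroupOf H ≤ Cfsg.pPrimeCore p ↥H := le_sSup ⟨hnormal, hcard⟩
  intro hbot
  rw [hbot, le_bot_iff, Subgroup.subgroupOf_eq_bot] at hle
  obtain ⟨s, hs1⟩ := exists_subT_ne_one hm σ
  have h1 : subT m σ s ∈ innC m σ ⊓ H :=
    ⟨subT_range_le_innC hm σ ⟨s, rfl⟩, hIH (subT_range_le_innC hm σ ⟨s, rfl⟩)⟩
  rw [hle.eq_bot, Subgroup.mem_bot] at h1
  exact hs1 h1

end Cfsg.Agent.Helper73.LBSp
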