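import Mathlib
import Cfsg.Agent.Helper73.LBSpMain
import Cfsg.Agent.Helper14.LBSpR
import Cfsg.Agent.Helper37.BalA

/-!
Helper73: local balance for `PSp_{2m}(q)` (S2730), final assembly.
-/

set_option autoImplicit false
set_option linter.unusedSectionVars false

namespace Cfsg.Agent.Helper73.LBSp

open Cfsg.Agent.Helper14.AutPSp Cfsg.Agent.Helper37.Bal

theorem main_balance_psp {F : Type*} [Field F] [Fintype F] {r : ℕ} [Fact r.Prime] [CharP F r] {m : ℕ} (hm : 2 ≤ m) (hs : m = 2 → 3 ≤ Fintype.card F) (A : Subgroup (MulAut (Cfsg.PSp m F))) (hinn : ∀ k : Cfsg.PSp m F, MulAut.conj k ∈ A) {p : ℕ} [Fact p.Prime] (hpr : p ≠ r) (x : MulAut (Cfsg.PSp m F)) (hord : orderOf x = p) (hnot : ¬ Cfsg.IsInnerDiagonalAutPSp x) :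
    Cfsg.pPrimeCore p ↥(A ⊓ Subgroup.centralizer {x}) ≠ ⊥ ↔ (Cfsg.IsFieldAutClassPSp x ∧ Nat.Coprime p (Nat.card ↥(MonoidHom.eqLocus x.toMonoidHom (MonoidHom.id (Cfsg.PSp m F))))) := by
  have hp : p.Prime := Fact.out
  obtain ⟨h, σ, -, hσ, hx⟩ := Cfsg.Agent.Helper14.LBSp.exists_conj_std hm hs hpr x hord hnot
  have hσne : σ ≠ RingEquiv.refl F := by
    intro h1
    have h2 : orderOf σ = 1 := by
      rw [h1]
      exact orderOf_one
    rw [hσ] at h2
    exact hp.one_lt.ne' h2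
  have hx' : h⁻¹ * x * h⁻¹⁻¹ = spField σ := by
    rw [hx]
    group
  have hfield : Cfsg.IsFieldAutClassPSp x :=
    ⟨h⁻¹, σ, hσne, (isStdField_iff σ _).mpr hx'⟩
  have hZ := center_psp_eq_bot' hm hs
  have hcard : Nat.card ↥(MonoidHom.eqLocus x.toMonoidHom (MonoidHom.id (Cfsg.PSp m F))) =
      Nat.card ↥(MonoidHom.eqLocus (spField σ : MulAut (Cfsg.PSp m F)).toMonoidHom
        (MonoidHom.id (Cfsg.PSp m F))) := by
    rw [card_eqLocus_eq hZ x, card_eqLocus_eq hZ (spField σ), ← hx', card_innCent_conj]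
  have hpc : p ≠ ringChar F := by
    rw [ringChar.eq F r]
    exact hpr
  have hinn' := conj_mem_map_conj A hinn h⁻¹
  rw [pPrimeCore_ne_bot_conj_iff A x h⁻¹, hx', hcard]
  constructor
  · intro hne
    refine ⟨hfield, ?_⟩
    by_contra hnc
    have hdvd := (Nat.Prime.dvd_iff_not_coprime hp).mpr hnc
    exact hne (core_eq_bot hm hs σ hpc hσ _ hinn' hdvd)
  · rintro ⟨-, hcop⟩
    exact core_ne_bot hm hs σ _ hinn' hcop


end Cfsg.Agent.Helper73.LBSp
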