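import Mathlib
import Cfsg.Agent.Helper14.PsuI
import Cfsg.Agent.Helper14.PsuO
import Cfsg.Agent.Helper14.LBUa
import Cfsg.Agent.Helper45.LBLA
import Cfsg.Agent.Helper5.NCPGOd
import Cfsg.Agent.Helper4.NCPGSp
import Cfsg.Agent.Helper37.BalA

/-!
Helper73: local balance for `PSU_n(q)` (S2687), the `p = 2` half, input (hb): for an involutory
graph automorphism `β` of `PSU_n(q)`, `q` odd, the group `Inn ∩ C(β)` has no non-trivial normal
subgroup of odd order.
-/

set_option autoImplicit false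
set_option linter.unusedSectionVars false
set_option linter.unusedVariables false

namespace Cfsg.Agent.Helper73.LBU

open Matrix Cfsg.Agent.Helper13 Cfsg.Agent.Helper37.AutU Cfsg.Agent.Helper14.AutPSL
  Cfsg.Agent.Helper14.AutPSU Cfsg.Agent.Helper37.Bal Cfsg.Agent.Helper45.LBL Cfsg.Agent.Lib

section generic

variable {X : Type*} [Group X] [Finite X] {p : ℕ}

/-- a normal subgroup inherits `NoNC` -/
theorem noNC_of_normal_subgroup (hX : NoNC p X) (Y : Subgroup X) [hY : Y.Normal] :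
    NoNC p ↥Y := by
  intro M hMn hMc
  have hchar : (Cfsg.pPrimeCore p ↥Y).Characteristic := pPrimeCore_characteristic p
  have hnorm : ((Cfsg.pPrimeCore p ↥Y).map Y.subtype).Normal :=
    ConjAct.normal_of_characteristic_of_normal
  have hO : (Cfsg.pPrimeCore p ↥Y).map Y.subtype = ⊥ := by
    apply hX _ hnorm
    rw [Subgroup.card_map_of_injective Y.subtype_injective]
    exact card_pPrimeCore_coprime p
  have hO' : Cfsg.pPrimeCore p ↥Y = ⊥ :=
    (Subgroup.map_eq_bot_iff_of_injective _ Y.subtype_injective).1 hO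
  have h1 : M ≤ Cfsg.pPrimeCore p ↥Y := le_pPrimeCore hMn hMc
  rw [hO'] at h1
  exact le_bot_iff.1 h1

/-- `NoNC` for a subgroup `Y ≤ Z` normal in `Z` -/
theorem noNC_of_normal_le {Y Z : Subgroup X} (hYZ : Y ≤ Z)
    (hn : ∀ z ∈ Z, ∀ y ∈ Y, z * y * z⁻¹ ∈ Y) (hZ : NoNC p ↥Z) : NoNC p ↥Y := by
  have hnormal : (Y.subgroupOf Z).Normal := by
    constructor
    intro y hy z
    rw [Subgroup.mem_subgroupOf] at hy ⊢
    exact hn z.1 z.2 y.1 hy
  have h1 : NoNC p ↥(Y.subgroupOf Z) := noNC_of_normal_subgroup hZ (Y.subgroupOf Z)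
  exact NoNC.of_mulEquiv (Subgroup.subgroupOfEquivOfLe hYZ) h1

end generic

variable {F : Type*} [Field F] [Fintype F] {p₀ f q n : ℕ}

/-- conjugate automorphisms have isomorphic centralisers in `Inndiag` -/
theorem noNC_centralizer_of_isConjUnder (H : Hyp F p₀ f q n) {p : ℕ}
    {γ β : MulAut (Cfsg.PSU n F q)}
    (hc : Cfsg.IsConjUnder (Cfsg.inndiagPSU n F q) γ β)
    (hγ : NoNC p ↥(Cfsg.inndiagPSU n F q ⊓ Subgroup.centralizer {γ})) :
    NoNC p ↥(Cfsg.inndiagPSU n F q ⊓ Subgroup.centralizer {β}) := by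
  obtain ⟨h, hh, rfl⟩ := hc
  have e := Cfsg.Agent.Helper37.OddF.centralizerMapEquiv (MulAut.conj h) (Cfsg.inndiagPSU n F q) γ
  have h1 : (MulAut.conj h) γ = h * γ * h⁻¹ := rfl
  have h2 : (Cfsg.inndiagPSU n F q).map (MulAut.conj h).toMonoidHom = Cfsg.inndiagPSU n F q := by
    ext z
    constructor
    · rintro ⟨w, hw, rfl⟩
      exact Subgroup.mul_mem _ (Subgroup.mul_mem _ hh hw) (Subgroup.inv_mem _ hh)
    · intro hz
      refine ⟨h⁻¹ * z * h, Subgroup.mul_mem _ (Subgroup.mul_mem _ (Subgroup.inv_mem _ hh) hz) hh, ?_⟩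
      show h * (h⁻¹ * z * h) * h⁻¹ = z
      group
  rw [h1, h2] at e
  exact NoNC.of_mulEquiv e hγ

/-- **(hb)**: `Inn ∩ C(β)` has no non-trivial normal subgroup of odd order, `β` an involutory
graph automorphism, `q` odd -/
theorem noNC_innCent_two (H : Hyp F p₀ f q n) (hq : Odd q) (β : MulAut (Cfsg.PSU n F q))
    (hβ : Cfsg.IsGraphAutClassPSU β) (hβ2 : orderOf β = 2) : NoNC 2 ↥(innCent β) := by
  classical
  have hp₀ : Fact p₀.Prime := ⟨H.hp⟩
  -- a field with `q` elements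
  have hf0 : f ≠ 0 := by have := H.hf; omega
  set F₀ := GaloisField p₀ f with hF₀def
  have : Fintype F₀ := Fintype.ofFinite _
  have hF₀ : Fintype.card F₀ = q := by
    rw [← Nat.card_eq_fintype_card, GaloisField.card p₀ f hf0, H.hq]
  have hodd₀ : Odd (Fintype.card F₀) := by rw [hF₀]; exact hq
  -- `C_{Inndiag}(β)`
  have hZ : NoNC 2 ↥(Cfsg.inndiagPSU n F q ⊓ Subgroup.centralizer {β}) := by
    rcases Nat.even_or_odd' n with ⟨m, hm | hm⟩
    · -- `n = 2m`
      have hm2 : 2 ≤ m := by have := H.hn; omega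
      obtain ⟨γ₁, γ₂, γ₃, a, b, hab, -, -, -, -, -, -, -, -, -, hall, ⟨e₁⟩, ⟨e₂⟩, ⟨e₃⟩⟩ :=
        psu_graph_even_dim_odd_q hq H.hF hm2 hm hF₀ (F := F) (F₀ := F₀)
      rcases hall β hβ hβ2 with hc | hc | hc
      · apply noNC_centralizer_of_isConjUnder H hc
        apply NoNC.of_mulEquiv e₁.symm
        intro N hN hNc
        exact Cfsg.Agent.Helper4.NC.noNC_PGSp hodd₀ m hm2 N hN hNc
      · apply noNC_centralizer_of_isConjUnder H hc
        apply NoNC.of_mulEquiv e₂.symm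
        intro N hN hNc
        exact Cfsg.Agent.Helper5.NC.noNC_PGO_plus hodd₀ m hm2 N hN hNc
      · apply noNC_centralizer_of_isConjUnder H hc
        apply NoNC.of_mulEquiv e₃.symm
        intro N hN hNc
        exact Cfsg.Agent.Helper5.NC.noNC_PGO_minus hodd₀ (m - 1) (by omega) a b hab N hN hNc
    · -- `n = 2m + 1`
      have hm1 : 1 ≤ m := by have := H.hn; omega
      obtain ⟨⟨e⟩, -⟩ := psu_graph_odd_dim H.hq H.hf H.hF H.hn H.h32 hm hF₀ β β hβ hβ2 hβ hβ2
        (F := F) (F₀ := F₀)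
      apply NoNC.of_mulEquiv e.symm
      intro N hN hNc
      exact Cfsg.Agent.Helper5.NC.noNC_PGO_odd hodd₀ m hm1 N hN hNc
  -- `Inn ∩ C(β)` is normal in it
  have hInn : Cfsg.Inn (Cfsg.PSU n F q) ≤ Cfsg.inndiagPSU n F q := by
    rintro _ ⟨k, rfl⟩
    obtain ⟨s, rfl⟩ := pr_surjective k
    rw [mem_inndiagPSU]
    exact ⟨suGU s, (pstdHom_suGU s).symm⟩
  apply noNC_of_normal_le (inf_le_inf_right _ hInn) _ hZ
  intro z hz y hy
  exact conj_mem_innCent β hz.2 hy

end Cfsg.Agent.Helper73.LBU
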