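import Mathlib
import Cfsg.Agent.Helper73.LBUB
import Cfsg.Agent.Helper37.BalA
import Cfsg.Agent.Helper45.SUBasic

/-!
Helper73: local balance for `PSU_n(q)` (S2687), main part: the statement for a standard field
automorphism of odd prime order.
-/

set_option autoImplicit false
set_option linter.unusedSectionVars false
set_option linter.unusedVariables false

namespace Cfsg.Agent.Helper73.LBU

open Matrix Cfsg.Agent.Helper13 Cfsg.Agent.Helper37.AutU Cfsg.Agent.Helper14.AutPSL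
  Cfsg.Agent.Helper14.AutPSU Cfsg.Agent.Helper37.Bal Cfsg.Agent.Helper73.LBSp

variable {F : Type*} [Field F] [Fintype F] {F₀ : Type*} [Field F₀] [Fintype F₀]
  {p₀ f q q₀ n r : ℕ}
variable {σ τ : F ≃+* F} {i : F₀ →+* F} {τ₀ : F₀ ≃+* F₀}

/-- an element of `SU_n(F₀)` acting trivially is scalar -/
theorem scalar_of_subTU_eq_one (H : Hyp F p₀ f q n) (D : FldData q q₀ σ τ i τ₀ r)
    (s : Cfsg.SU n F₀ q₀) (hs : subTU D s = 1) :
    ∃ c : F₀, suMat s = c • (1 : Matrix (Fin n) (Fin n) F₀) := by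
  have h1 : suGU s ∈ (fixHomU (n := n) D).ker := hs
  rw [ker_fixHomU H D, Subgroup.mem_subgroupOf, Cfsg.Geo.mem_scalars_iff] at h1
  obtain ⟨c, hc⟩ := h1
  exact ⟨(c : F₀), hc⟩

/-- the subfield group acts non-trivially -/
theorem exists_subTU_ne_one (H : Hyp F p₀ f q n) (D : FldData q q₀ σ τ i τ₀ r) :
    ∃ s : Cfsg.SU n F₀ q₀, subTU D s ≠ 1 := by
  have hn := H.hn
  set a : Fin n := ⟨0, by omega⟩ with ha
  set b : Fin n := ⟨1, by omega⟩ with hb
  set c : Fin n := ⟨2, by omega⟩ with hc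
  have hab : a ≠ b := by
    intro h
    have := congrArg Fin.val h
    simp [ha, hb] at this
  have hbc : b ≠ c := by
    intro h
    have := congrArg Fin.val h
    simp [hb, hc] at this
  have hac : a ≠ c := by
    intro h
    have := congrArg Fin.val h
    simp [ha, hc] at this
  set π : Equiv.Perm (Fin n) := Equiv.swap a b * Equiv.swap b c with hπ
  have hsign : Equiv.Perm.sign π = 1 := by
    rw [hπ, map_mul, Equiv.Perm.sign_swap hab, Equiv.Perm.sign_swap hbc]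
    rfl
  have hbar : ∀ x : F₀, (τ₀ : F₀ →+* F₀) x = x ^ q₀ := fun x => D.hτ₀ x
  refine ⟨Cfsg.Agent.Helper45.GU.pmSU n (τ₀ : F₀ →+* F₀) hbar π hsign, ?_⟩
  intro h1
  obtain ⟨z, hz⟩ := scalar_of_subTU_eq_one H D _ h1
  have hmat : (π.permMatrix F₀ : Matrix (Fin n) (Fin n) F₀) = z • (1 : Matrix (Fin n) (Fin n) F₀) :=
    hz
  have hπc : π c = a := by
    rw [hπ, Equiv.Perm.mul_apply, Equiv.swap_apply_right, Equiv.swap_apply_right]
  -- entries (c, c) and (c, a)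
  have e1 : (π.permMatrix F₀ : Matrix (Fin n) (Fin n) F₀) c c
      = (z • (1 : Matrix (Fin n) (Fin n) F₀)) c c := by rw [hmat]
  have e2 : (π.permMatrix F₀ : Matrix (Fin n) (Fin n) F₀) c a
      = (z • (1 : Matrix (Fin n) (Fin n) F₀)) c a := by rw [hmat]
  have p1 : (π.permMatrix F₀ : Matrix (Fin n) (Fin n) F₀) c c = 0 := by
    rw [Equiv.Perm.permMatrix, PEquiv.toMatrix_apply]
    simp [hπc, hac]
  have p2 : (π.permMatrix F₀ : Matrix (Fin n) (Fin n) F₀) c a = 1 := by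
    rw [Equiv.Perm.permMatrix, PEquiv.toMatrix_apply]
    simp [hπc]
  rw [p1, Matrix.smul_apply, Matrix.one_apply_eq, smul_eq_mul, mul_one] at e1
  rw [p2, Matrix.smul_apply, Matrix.one_apply_ne hac.symm, smul_zero] at e2
  exact one_ne_zero e2

theorem inn_le_inndiagPSU : Cfsg.Inn (Cfsg.PSU n F q) ≤ Cfsg.inndiagPSU n F q := by
  rintro _ ⟨k, rfl⟩
  obtain ⟨s, rfl⟩ := pr_surjective k
  rw [mem_inndiagPSU]
  exact ⟨suGU s, (pstdHom_suGU s).symm⟩

theorem innCent_le_inndiag (φ : MulAut (Cfsg.PSU n F q)) :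
    innCent φ ≤ Cfsg.inndiagPSU n F q ⊓ Subgroup.centralizer {φ} :=
  inf_le_inf_right _ inn_le_inndiagPSU

/-- the `p'`-core of `C_A(φ)` is trivial when `p` divides `|C_K(φ)|` -/
theorem core_eq_bot (H : Hyp F p₀ f q n) {p : ℕ} [Fact p.Prime] (D : FldData q q₀ σ τ i τ₀ p)
    (A : Subgroup (MulAut (Cfsg.PSU n F q))) (hinn : ∀ k : Cfsg.PSU n F q, MulAut.conj k ∈ A)
    (hUA : ∀ N0 : Subgroup (MulAut (Cfsg.PSU n F q)),
      (∀ s n', n' ∈ N0 → subTU D s * n' * (subTU D s)⁻¹ ∈ N0) → (Nat.card N0).Coprime p →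
      N0 ⊓ (subTU D).range = ⊥) :
    Cfsg.pPrimeCore p ↥(A ⊓ Subgroup.centralizer {fldHom n F q σ}) = ⊥ := by
  set φ : MulAut (Cfsg.PSU n F q) := fldHom n F q σ with hφdef
  set Hc : Subgroup (MulAut (Cfsg.PSU n F q)) := A ⊓ Subgroup.centralizer {φ} with hHdef
  unfold Cfsg.pPrimeCore
  rw [sSup_eq_bot]
  rintro N ⟨hNn, hNc⟩
  have hφord : orderOf φ = p := by rw [hφdef, orderOf_fldHom (kerHyp_of_hyp H) σ, D.hr]
  -- push everything to `MulAut K`
  set N0 : Subgroup (MulAut (Cfsg.PSU n F q)) := N.map Hc.subtype with hN0def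
  have hN0H : N0 ≤ Hc := Subgroup.map_subtype_le N
  have hN0norm : ∀ h ∈ Hc, ∀ n' ∈ N0, h * n' * h⁻¹ ∈ N0 := by
    rintro h hh _ ⟨n', hn', rfl⟩
    exact ⟨⟨h, hh⟩ * n' * ⟨h, hh⟩⁻¹, hNn.conj_mem n' hn' ⟨h, hh⟩, rfl⟩
  have hN0card : Nat.card N0 = Nat.card N :=
    (Nat.card_congr (Subgroup.equivMapOfInjective N Hc.subtype Hc.subtype_injective).toEquiv).symm
  have hN0cop : (Nat.card N0).Coprime p := by rw [hN0card]; exact hNc
  -- the relevant subgroups
  have hTI : (subTU (n := n) D).range ≤ innCent φ := by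
    rintro _ ⟨s, rfl⟩
    exact subTU_mem_innCent H D s
  have hIH : innCent φ ≤ Hc := innCent_le A hinn φ
  have hTH : (subTU (n := n) D).range ≤ Hc := hTI.trans hIH
  have hHI : ∀ h ∈ Hc, ∀ y ∈ innCent φ, h * y * h⁻¹ ∈ innCent φ :=
    fun h hh y hy => conj_mem_innCent φ hh.2 hy
  -- Step 1
  have h1 : N0 ⊓ (subTU (n := n) D).range = ⊥ := by
    apply hUA N0 _ hN0cop
    intro s n' hn'
    exact hN0norm _ (hTH ⟨s, rfl⟩) n' hn'
  -- Step 2
  have h2 : N0 ⊓ innCent φ = ⊥ := by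
    apply eq_bot_of_le_zpowers _ φ hφord
    · intro n' hn'
      apply Cfsg.Agent.Helper14.LBU.centralizer_subU_le H D n'
      intro s
      apply commute_of_normalize_of_inf_eq_bot (N0 ⊓ innCent φ) (subTU (n := n) D).range _ _ _ hn'
        ⟨s, rfl⟩
      · intro t ht n'' hn''
        exact ⟨hN0norm t (hTH ht) n'' hn''.1, hHI t (hTH ht) n'' hn''.2⟩
      · rintro n'' hn'' _ ⟨s', rfl⟩
        obtain ⟨s'', hs''⟩ := conj_subTU H D n'' (innCent_le_inndiag φ hn''.2) s'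
        exact ⟨s'', hs''.symm⟩
      · rw [eq_bot_iff, ← h1]
        exact inf_le_inf_right _ inf_le_left
    · exact Nat.Coprime.coprime_dvd_left (Subgroup.card_dvd_of_le inf_le_left) hN0cop
  -- Step 3
  have h3 : N0 = ⊥ := by
    apply eq_bot_of_le_zpowers _ φ hφord _ hN0cop
    intro n' hn'
    apply Cfsg.Agent.Helper14.LBU.centralizer_subU_le H D n'
    intro s
    apply commute_of_normalize_of_inf_eq_bot N0 (innCent φ) _ _ h2 hn' (hTI ⟨s, rfl⟩)
    · intro y hy n'' hn''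
      exact hN0norm y (hIH hy) n'' hn''
    · intro n'' hn'' y hy
      exact hHI n'' (hN0H hn'') y hy
  exact (Subgroup.map_eq_bot_iff_of_injective N Hc.subtype_injective).mp h3

/-- the `p'`-core of `C_A(φ)` is non-trivial when `p` does not divide `|C_K(φ)|` -/
theorem core_ne_bot (H : Hyp F p₀ f q n) (D : FldData q q₀ σ τ i τ₀ r) {p : ℕ}
    (A : Subgroup (MulAut (Cfsg.PSU n F q))) (hinn : ∀ k : Cfsg.PSU n F q, MulAut.conj k ∈ A)
    (hcop : Nat.Coprime p (Nat.card ↥(MonoidHom.eqLocus (fldHom n F q σ).toMonoidHom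
      (MonoidHom.id (Cfsg.PSU n F q))))) :
    Cfsg.pPrimeCore p ↥(A ⊓ Subgroup.centralizer {fldHom n F q σ}) ≠ ⊥ := by
  have hZ := center_psu_eq_bot H (F := F) (n := n)
  apply pPrimeCore_ne_bot_of_coprime A hinn
  · obtain ⟨s, hs⟩ := exists_subTU_ne_one (n := n) H D
    intro hbot
    have h1 := subTU_mem_innCent H D s
    rw [hbot, Subgroup.mem_bot] at h1
    exact hs h1
  · rw [← card_eqLocus_eq hZ]
    exact hcop.symm

end Cfsg.Agent.Helper73.LBU
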