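import Mathlib
import Cfsg.Agent.Helper73.LBUMain
import Cfsg.Agent.Helper73.LBUHb
import Cfsg.Agent.Helper14.LBUd
import Cfsg.Agent.Helper67.LBUA
import Cfsg.Agent.Helper12.LBU32
import Cfsg.Agent.Helper14.LBUm

/-!
Helper73: local balance for `PSU_n(q)` (S2687), final assembly.
-/

set_option autoImplicit false
set_option linter.unusedSectionVars false
set_option linter.unusedVariables false

namespace Cfsg.Agent.Helper73.LBU

open Matrix Cfsg.Agent.Helper13 Cfsg.Agent.Helper37.AutU Cfsg.Agent.Helper14.AutPSL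
  Cfsg.Agent.Helper14.AutPSU Cfsg.Agent.Helper14.AutPSp Cfsg.Agent.Helper37.Bal
  Cfsg.Agent.Helper45.LBL

variable {F : Type*} [Field F] [Fintype F] {F₀ : Type*} [Field F₀] [Fintype F₀]
  {p₀ f q q₀ n r : ℕ}
variable {σ τ : F ≃+* F} {i : F₀ →+* F} {τ₀ : F₀ ≃+* F₀}

/-- (U-A), all cases -/
theorem subTU_range_inf_eq_bot_all (H : Hyp F p₀ f q n) (D : FldData q q₀ σ τ i τ₀ r)
    {p : ℕ} [Fact p.Prime] (hp : p ≠ ringChar F) (N0 : Subgroup (MulAut (Cfsg.PSU n F q)))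
    (hnorm : ∀ s n', n' ∈ N0 → subTU D s * n' * (subTU D s)⁻¹ ∈ N0)
    (hcop : (Nat.card N0).Coprime p)
    (hdvd : p ∣ Nat.card ↥(MonoidHom.eqLocus (fldHom n F q σ).toMonoidHom
      (MonoidHom.id (Cfsg.PSU n F q)))) :
    N0 ⊓ (subTU D).range = ⊥ := by
  by_cases h32 : n = 3 ∧ q₀ = 2
  · obtain ⟨rfl, rfl⟩ := h32
    exact Cfsg.Agent.Helper12.LBU32.subTU_range_inf_eq_bot_three_two H D hp N0 hnorm hcop hdvd
  · exact Cfsg.Agent.Helper67.LBU.subTU_range_inf_eq_bot H D h32 hp N0 hnorm hcop hdvd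

/-- the odd case -/
theorem balance_odd (H : Hyp F p₀ f q n) (A : Subgroup (MulAut (Cfsg.PSU n F q)))
    (hinn : ∀ k : Cfsg.PSU n F q, MulAut.conj k ∈ A) {p : ℕ} [Fact p.Prime] (hpr : p ≠ p₀)
    (hp2 : p ≠ 2) (β : MulAut (Cfsg.PSU n F q)) (hord : orderOf β = p)
    (hnot : ¬ Cfsg.IsInnerDiagonalAutPSU β) :
    Cfsg.pPrimeCore p ↥(A ⊓ Subgroup.centralizer {β}) ≠ ⊥ ↔
      Nat.Coprime p (Nat.card ↥(MonoidHom.eqLocus β.toMonoidHom
        (MonoidHom.id (Cfsg.PSU n F q)))) := by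
  classical
  have hp : p.Prime := Fact.out
  have hodd : Odd p := hp.odd_of_ne_two hp2
  obtain ⟨h', σ, hσ, hx⟩ := Cfsg.Agent.Helper14.LBU.exists_conj_std H hp hp2 β hord hnot
  obtain ⟨τ, hτ⟩ := exists_tau H.hF
  have hft : Fintype (fixF σ) := Fintype.ofFinite _
  obtain ⟨hrf, hqq, hcard⟩ := fld_arith H σ hσ hodd
  obtain ⟨i, τ₀, D⟩ := exists_fldData H τ hτ σ hσ hodd (fixF σ)
    (by rw [hcard, ← pow_mul, mul_comm])
  set h : MulAut (Cfsg.PSU n F q) := pstdHom n F q h' with hh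
  have hx' : h⁻¹ * β * h⁻¹⁻¹ = fldHom n F q σ := by
    rw [hx]
    group
  have hZ := center_psu_eq_bot H (F := F) (n := n)
  have hcardE : Nat.card ↥(MonoidHom.eqLocus β.toMonoidHom (MonoidHom.id (Cfsg.PSU n F q))) =
      Nat.card ↥(MonoidHom.eqLocus (fldHom n F q σ).toMonoidHom
        (MonoidHom.id (Cfsg.PSU n F q))) := by
    rw [card_eqLocus_eq hZ β, card_eqLocus_eq hZ (fldHom n F q σ), ← hx', card_innCent_conj]
  have hchar : ringChar F = p₀ := by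
    have hF' : Fintype.card F = p₀ ^ (2 * f) := by
      rw [H.hF, H.hq, ← pow_mul, mul_comm]
    have : Fact p₀.Prime := ⟨H.hp⟩
    have h2f : 2 * f ≠ 0 := by have := H.hf; omega
    have := charP_of_card_eq_prime_pow hF'
    exact ringChar.eq F p₀
  have hpc : p ≠ ringChar F := by
    rw [hchar]
    exact hpr
  have hinn' := conj_mem_map_conj A hinn h⁻¹
  rw [pPrimeCore_ne_bot_conj_iff A β h⁻¹, hx', hcardE]
  constructor
  · intro hne
    by_contra hnc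
    have hdvd := (Nat.Prime.dvd_iff_not_coprime hp).mpr hnc
    apply hne
    apply core_eq_bot H D _ hinn'
    intro N0 hnorm hcop
    exact subTU_range_inf_eq_bot_all H D hpc N0 hnorm hcop hdvd
  · intro hcop
    exact core_ne_bot H D _ hinn' hcop

/-- the case `p = 2` -/
theorem balance_two (H : Hyp F p₀ f q n) (hp₀ : p₀ ≠ 2) (A : Subgroup (MulAut (Cfsg.PSU n F q)))
    (hinn : ∀ k : Cfsg.PSU n F q, MulAut.conj k ∈ A)
    (β : MulAut (Cfsg.PSU n F q)) (hord : orderOf β = 2)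
    (hnot : ¬ Cfsg.IsInnerDiagonalAutPSU β) :
    Cfsg.pPrimeCore 2 ↥(A ⊓ Subgroup.centralizer {β}) ≠ ⊥ ↔
      Nat.Coprime 2 (Nat.card ↥(MonoidHom.eqLocus β.toMonoidHom
        (MonoidHom.id (Cfsg.PSU n F q)))) := by
  have : Fact (Nat.Prime 2) := ⟨Nat.prime_two⟩
  have hq : Odd q := by
    rw [H.hq]
    exact Odd.pow (H.hp.odd_of_ne_two hp₀)
  obtain ⟨τ, hτ⟩ := exists_tau H.hF
  have hτ2 : orderOf τ = 2 := orderOf_tau τ hτ H.hF
  obtain ⟨g₀, hβ0⟩ := Cfsg.Agent.Helper14.LBU.exists_pstd_tau H τ hτ β hord hnot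
  have hcls : Cfsg.IsGraphAutClassPSU β := by
    rw [hβ0]
    exact isGraphAutClass_gpu τ H.hn hτ2 g₀
  obtain ⟨g, hβ, hg⟩ := exists_gpu_of_isGraphAutClass τ hτ H hcls hord
  have hcore : Cfsg.pPrimeCore 2 ↥(A ⊓ Subgroup.centralizer {β}) = ⊥ := by
    apply pPrimeCore_eq_bot_of A hinn β hord
    · intro y _ hy
      rw [hβ] at hy ⊢
      exact Cfsg.Agent.Helper14.LBU.ha_two H hp₀ τ hτ g hg y hy
    · exact noNC_innCent_two H hq β hcls hord
  constructor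
  · intro hne
    exact absurd hcore hne
  · intro hcop
    exact absurd hcop (Cfsg.Agent.Helper14.LBU.not_coprime_two_eqLocus H.hF H.hn hq β hord)

/-- **S2687** -/
theorem main_balance_psu
    (F : Type*) [Field F] [Fintype F] (r : ℕ) [Fact r.Prime] [CharP F r] (q : ℕ) (hF : Fintype.card F = q ^ 2)
    (n : ℕ) (hn : 3 ≤ n) (hK : IsSimpleGroup (Cfsg.PSU n F q))
    (𝒢 : Subgroup (MulAut (Cfsg.PSU n F q))) (hinn : ∀ k : Cfsg.PSU n F q, MulAut.conj k ∈ 𝒢)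
    (p : ℕ) [Fact p.Prime] (hpr : p ≠ r) (β : MulAut (Cfsg.PSU n F q)) (hord : orderOf β = p)
    (hnot : ¬ Cfsg.IsInnerDiagonalAutPSU β) :
    Cfsg.pPrimeCore p ↥(𝒢 ⊓ Subgroup.centralizer {β}) ≠ ⊥ ↔
      ((∃ γ φ : MulAut (Cfsg.PSU n F q), Cfsg.IsInnerDiagonalAutPSU γ ∧ (∃ σ : F ≃+* F, Cfsg.IsFieldAutPSUOf σ φ) ∧ β = φ.trans γ) ∧
        Nat.Coprime p (Nat.card ↥(MonoidHom.eqLocus β.toMonoidHom (MonoidHom.id (Cfsg.PSU n F q))))) := by
  obtain ⟨f, H⟩ := Cfsg.Agent.Helper14.LBU.exists_hyp_of_simple r hF hn hK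
  have hfirst := Cfsg.Agent.Helper14.LBU.first_clause H β
  rw [and_iff_right hfirst]
  by_cases hp2 : p = 2
  · subst hp2
    exact balance_two H (fun h => hpr h.symm) 𝒢 hinn β hord hnot
  · exact balance_odd H 𝒢 hinn hpr hp2 β hord hnot

end Cfsg.Agent.Helper73.LBU
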