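import Mathlib
import Cfsg.Agent.Helper43.RegNilpConj
import Cfsg.Agent.Helper43.RegNilpDet

set_option autoImplicit false
set_option linter.unusedSectionVars false
set_option linter.unusedSimpArgs false

/-!
# Regular nilpotent endomorphisms in block form on `K × H`
-/

namespace Cfsg.Agent.Helper73.RegBlock

open Module Cfsg.Agent.Helper43

variable {K : Type*} [Field K]

section Transport

variable {V V' : Type*} [AddCommGroup V] [Module K V] [FiniteDimensional K V]
  [AddCommGroup V'] [Module K V'] [FiniteDimensional K V']

theorem isRegNilp_conj (e : V ≃ₗ[K] V') {N : Module.End K V} (h : IsRegNilp N) :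
    IsRegNilp (e.conjRingEquiv N) where
  pow_eq_zero := by
    rw [← map_pow, ← e.finrank_eq, h.pow_eq_zero, map_zero]
  ker_le_one := by
    have hker : LinearMap.ker (e.conjRingEquiv N) = (LinearMap.ker N).map (e : V →ₗ[K] V') := by
      ext x
      simp only [LinearMap.mem_ker, Submodule.mem_map, LinearEquiv.coe_coe]
      constructor
      · intro hx
        refine ⟨e.symm x, ?_, by simp⟩
        have : e (N (e.symm x)) = 0 := hx
        simpa using this
      · rintro ⟨y, hy, rfl⟩
        change e (N (e.symm (e y))) = 0
        simp [hy]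
    rw [hker, LinearEquiv.finrank_map_eq]
    exact h.ker_le_one

end Transport

variable {H : Type*} [AddCommGroup H] [Module K H] [FiniteDimensional K H]

/-- lower block `(α, h) ↦ (0, α • c + N h)`. -/
def lowN (c : H) (N : Module.End K H) : Module.End K (K × H) :=
  (LinearMap.inr K K H).comp ((LinearMap.toSpanSingleton K H c).coprod N)

@[simp] theorem lowN_apply (c : H) (N : Module.End K H) (p : K × H) :
    lowN c N p = (0, p.1 • c + N p.2) := by
  simp [lowN]

/-- upper block `(α, h) ↦ (y h, N h)`. -/
def upN (y : Module.Dual K H) (N : Module.End K H) : Module.End K (K × H) :=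
  (y.comp (LinearMap.snd K K H)).prod (N.comp (LinearMap.snd K K H))

@[simp] theorem upN_apply (y : Module.Dual K H) (N : Module.End K H) (p : K × H) :
    upN y N p = (y p.2, N p.2) := by
  simp [upN]

theorem lowN_pow_succ (c : H) (N : Module.End K H) (k : ℕ) (p : K × H) :
    ((lowN c N) ^ (k + 1)) p = (0, (N ^ k) (p.1 • c + N p.2)) := by
  induction k generalizing p with
  | zero => simp
  | succ k ih =>
    rw [pow_succ, Module.End.mul_apply, ih]
    simp [pow_succ, Module.End.mul_apply]

theorem upN_pow_succ (y : Module.Dual K H) (N : Module.End K H) (k : ℕ) (p : K × H) :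
    ((upN y N) ^ (k + 1)) p = (y ((N ^ k) p.2), (N ^ (k + 1)) p.2) := by
  induction k generalizing p with
  | zero => simp
  | succ k ih =>
    rw [pow_succ, Module.End.mul_apply, ih]
    simp [pow_succ, Module.End.mul_apply]

theorem finrank_prod_self : finrank K (K × H) = finrank K H + 1 := by
  rw [Module.finrank_prod, Module.finrank_self, add_comm]

theorem isRegNilp_lowN {c : H} {N : Module.End K H} (hN : IsRegNilp N)
    (hc : c ∉ LinearMap.range N) : IsRegNilp (lowN c N) where
  pow_eq_zero := by
    rw [finrank_prod_self]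
    apply LinearMap.ext
    intro p
    rw [lowN_pow_succ, hN.pow_eq_zero]
    simp
  ker_le_one := by
    let f : LinearMap.ker (lowN c N) →ₗ[K] LinearMap.ker N :=
      LinearMap.codRestrict _ ((LinearMap.snd K K H).comp (LinearMap.ker (lowN c N)).subtype) (by
        rintro ⟨p, hp⟩
        rw [LinearMap.mem_ker, lowN_apply] at hp
        have hp2 : p.1 • c + N p.2 = 0 := (Prod.ext_iff.mp hp).2
        have h1 : p.1 = 0 := by
          by_contra h1
          apply hc
          refine ⟨-(p.1⁻¹ • p.2), ?_⟩
          have : N p.2 = -(p.1 • c) := eq_neg_of_add_eq_zero_right hp2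
          rw [map_neg, map_smul, this, smul_neg, neg_neg, smul_smul, inv_mul_cancel₀ h1, one_smul]
        rw [h1, zero_smul, zero_add] at hp2
        simpa using hp2)
    have hf : Function.Injective f := by
      rw [← LinearMap.ker_eq_bot, LinearMap.ker_eq_bot']
      rintro ⟨p, hp⟩ h0
      have h2 : p.2 = 0 := by
        have := congrArg Subtype.val h0
        simpa [f] using this
      rw [LinearMap.mem_ker, lowN_apply] at hp
      have hp2 : p.1 • c + N p.2 = 0 := (Prod.ext_iff.mp hp).2
      rw [h2, map_zero, add_zero] at hp2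
      have h1 : p.1 = 0 := by
        rcases smul_eq_zero.mp hp2 with h | h
        · exact h
        · exfalso; apply hc; rw [h]; exact Submodule.zero_mem _
      apply Subtype.ext
      exact Prod.ext h1 h2
    exact (LinearMap.finrank_le_finrank_of_injective hf).trans hN.ker_le_one

theorem isRegNilp_upN {y : Module.Dual K H} {N : Module.End K H} (hN : IsRegNilp N)
    (hy : ∀ x, N x = 0 → y x = 0 → x = 0) : IsRegNilp (upN y N) where
  pow_eq_zero := by
    rw [finrank_prod_self]
    apply LinearMap.ext
    intro p
    rw [upN_pow_succ, pow_succ, hN.pow_eq_zero]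
    simp
  ker_le_one := by
    let f : LinearMap.ker (upN y N) →ₗ[K] K :=
      (LinearMap.fst K K H).comp (LinearMap.ker (upN y N)).subtype
    have hf : Function.Injective f := by
      rw [← LinearMap.ker_eq_bot, LinearMap.ker_eq_bot']
      rintro ⟨p, hp⟩ h0
      have h1 : p.1 = 0 := by simpa [f] using h0
      rw [LinearMap.mem_ker, upN_apply] at hp
      have h2 : p.2 = 0 := hy p.2 (Prod.ext_iff.mp hp).2 (Prod.ext_iff.mp hp).1
      apply Subtype.ext
      exact Prod.ext h1 h2
    have := LinearMap.finrank_le_finrank_of_injective hf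
    rwa [Module.finrank_self] at this

/-- The model endomorphism `(α, h) ↦ (α + y h, (α + y h) • c + g₁ h)`. -/
def modelG (c : H) (y : Module.Dual K H) (g₁ : Module.End K H) : Module.End K (K × H) :=
  ((LinearMap.fst K K H) + y.comp (LinearMap.snd K K H)).prod
    ((LinearMap.toSpanSingleton K H c).comp ((LinearMap.fst K K H) + y.comp (LinearMap.snd K K H))
      + g₁.comp (LinearMap.snd K K H))

@[simp] theorem modelG_apply (c : H) (y : Module.Dual K H) (g₁ : Module.End K H) (p : K × H) :
    modelG c y g₁ p = (p.1 + y p.2, (p.1 + y p.2) • c + g₁ p.2) := by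
  simp [modelG]

theorem one_add_lowN_mul_one_add_upN (c : H) (y : Module.Dual K H) (L₁ U₁ : Module.End K H) :
    (1 + lowN c (L₁ - 1)) * (1 + upN y (U₁ - 1)) = modelG c y (L₁ * U₁) := by
  apply LinearMap.ext
  rintro ⟨a, h⟩
  simp only [Module.End.mul_apply, LinearMap.add_apply, Module.End.one_apply, upN_apply,
    lowN_apply, modelG_apply, LinearMap.sub_apply, Prod.mk_add_mk, add_zero, Prod.mk.injEq,
    true_and]
  simp only [Prod.fst_add, Prod.snd_add, map_add, map_sub]
  abel

theorem range_lowN_le (c : H) (N : Module.End K H) (p : K × H)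
    (hp : p ∈ LinearMap.range (lowN c N)) : p.1 = 0 := by
  obtain ⟨q, rfl⟩ := hp
  simp

theorem upN_apply_one_zero (y : Module.Dual K H) (N : Module.End K H) :
    upN y N ((1 : K), (0 : H)) = 0 := by
  simp

section General

variable {V : Type*} [AddCommGroup V] [Module K V] [FiniteDimensional K V]

/-- Inverse of a regular unipotent is regular unipotent. -/
theorem exists_inverse {N : Module.End K V} (hN : IsRegNilp N) :
    ∃ M : Module.End K V, IsRegNilp M ∧ (1 + N) * (1 + M) = 1 ∧ (1 + M) * (1 + N) = 1 := by
  obtain ⟨u, hu⟩ := hN.isNilpotent.isUnit_one_add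
  have h1 : (1 + N) * (u⁻¹ : (Module.End K V)ˣ) = 1 := by rw [← hu]; exact u.mul_inv
  have h2 : ((u⁻¹ : (Module.End K V)ˣ) : Module.End K V) * (1 + N) = 1 := by
    rw [← hu]; exact u.inv_mul
  refine ⟨((u⁻¹ : (Module.End K V)ˣ) : Module.End K V) - 1, ?_, by simpa using h1, by simpa using h2⟩
  set w : Module.End K V := ((u⁻¹ : (Module.End K V)ˣ) : Module.End K V) with hw
  have hM : w - 1 = -(w * N) := by
    have : w + w * N = 1 := by rw [← h2]; noncomm_ring
    rw [← this]; noncomm_ring
  have hcomm : Commute w N := by
    have h3 : Commute w (1 + N) := by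
      change w * (1 + N) = (1 + N) * w
      rw [h2, h1]
    have := h3.sub_right (Commute.one_right w)
    simpa using this
  refine ⟨?_, ?_⟩
  · rw [hM, neg_pow, hcomm.mul_pow, hN.pow_eq_zero, mul_zero, mul_zero]
  · have hker : LinearMap.ker (w - 1) ≤ LinearMap.ker N := by
      intro x hx
      rw [LinearMap.mem_ker, hM, LinearMap.neg_apply, neg_eq_zero, Module.End.mul_apply] at hx
      rw [LinearMap.mem_ker]
      have := congrArg (fun z => (1 + N) z) hx
      simp only [map_zero] at this
      rw [← Module.End.mul_apply, h1] at this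
      simpa using this
    exact (Submodule.finrank_mono hker).trans hN.ker_le_one

/-- Every finite-dimensional space carries a regular nilpotent endomorphism. -/
theorem exists_isRegNilp : ∃ N : Module.End K V, IsRegNilp N := by
  rcases Nat.eq_zero_or_pos (finrank K V) with h0 | hpos
  · refine ⟨0, ?_, ?_⟩
    · rw [h0, pow_zero]
      have : Subsingleton V := Module.finrank_zero_iff.mp h0
      apply LinearMap.ext
      intro x
      exact Subsingleton.elim _ _
    · exact (Submodule.finrank_le _).trans (by omega)
  · obtain ⟨m, hm⟩ : ∃ m, finrank K V = m + 1 := ⟨finrank K V - 1, by omega⟩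
    have e : (Fin (m + 1) → K) ≃ₗ[K] V :=
      LinearEquiv.ofFinrankEq _ _ (by rw [Module.finrank_fin_fun, hm])
    exact ⟨_, isRegNilp_conj e (isRegNilp_shiftEnd K m)⟩

end General

end Cfsg.Agent.Helper73.RegBlock
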