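import Mathlib
import Cfsg.Agent.Helper73.RegBlock

set_option autoImplicit false
set_option linter.unusedSectionVars false
set_option linter.unusedSimpArgs false

/-!
# One step of the LU induction: splitting off a line
-/

namespace Cfsg.Agent.Helper73.LUStep

open Module Cfsg.Agent.Helper43 Cfsg.Agent.Helper73.RegBlock

variable {K : Type*} [Field K] {V : Type*} [AddCommGroup V] [Module K V] [FiniteDimensional K V]

/-- `Sol g c' y'`: `g = L U` with `L, U` regular unipotent, `c' ∉ range (L - 1)` and `y'` nonzero on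
`ker (U - 1)`. -/
def Sol (g : Module.End K V) (c' : V) (y' : Module.Dual K V) : Prop :=
  ∃ L U : Module.End K V, IsRegNilp (L - 1) ∧ IsRegNilp (U - 1) ∧ g = L * U ∧
    c' ∉ LinearMap.range (L - 1) ∧ ∃ x, (U - 1) x = 0 ∧ y' x ≠ 0

/-- The decomposition `V ≃ K × ker φ` attached to `φ v = 1`. -/
def decomp (φ : Module.Dual K V) (v : V) (hv : φ v = 1) : V ≃ₗ[K] K × LinearMap.ker φ where
  toFun x := (φ x, ⟨x - φ x • v, by simp [hv]⟩)
  map_add' x y := by
    apply Prod.ext
    · simp
    · apply Subtype.ext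
      simp only [map_add, add_smul, Prod.mk_add_mk, Submodule.coe_add]
      abel
  map_smul' a x := by
    apply Prod.ext
    · simp
    · apply Subtype.ext
      simp only [map_smul, smul_eq_mul, RingHom.id_apply, Prod.smul_mk, SetLike.mk_smul_mk,
        smul_sub, mul_smul]
  invFun p := p.1 • v + (p.2 : V)
  left_inv x := by simp
  right_inv p := by
    obtain ⟨a, ⟨h, hh⟩⟩ := p
    rw [LinearMap.mem_ker] at hh
    apply Prod.ext
    · simp [hv, hh]
    · apply Subtype.ext
      simp [hv, hh]

@[simp] theorem decomp_apply_fst (φ : Module.Dual K V) (v : V) (hv : φ v = 1) (x : V) :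
    (decomp φ v hv x).1 = φ x := rfl

@[simp] theorem decomp_apply_snd (φ : Module.Dual K V) (v : V) (hv : φ v = 1) (x : V) :
    ((decomp φ v hv x).2 : V) = x - φ x • v := rfl

@[simp] theorem decomp_symm_apply (φ : Module.Dual K V) (v : V) (hv : φ v = 1)
    (p : K × LinearMap.ker φ) : (decomp φ v hv).symm p = p.1 • v + (p.2 : V) := rfl

/-- `c = g v - v` as an element of `ker φ`. -/
def cvec (g : Module.End K V) (φ : Module.Dual K V) (v : V) (hv : φ v = 1) (hgv : φ (g v) = 1) :
    LinearMap.ker φ := ⟨g v - v, by simp [hv, hgv]⟩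

/-- `y = φ ∘ g` on `ker φ`. -/
def yfun (g : Module.End K V) (φ : Module.Dual K V) : Module.Dual K (LinearMap.ker φ) :=
  (φ.comp g).comp (LinearMap.ker φ).subtype

@[simp] theorem yfun_apply (g : Module.End K V) (φ : Module.Dual K V) (h : LinearMap.ker φ) :
    yfun g φ h = φ (g h) := rfl

/-- The compression `g₁ h = g h - φ (g h) • g v` on `ker φ`. -/
def comp1 (g : Module.End K V) (φ : Module.Dual K V) (v : V) (hgv : φ (g v) = 1) :
    Module.End K (LinearMap.ker φ) :=
  LinearMap.codRestrict (LinearMap.ker φ)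
    ((g - (φ.comp g).smulRight (g v)).comp (LinearMap.ker φ).subtype) (by
      intro h
      simp [hgv])

@[simp] theorem comp1_apply_coe (g : Module.End K V) (φ : Module.Dual K V) (v : V)
    (hgv : φ (g v) = 1) (h : LinearMap.ker φ) :
    ((comp1 g φ v hgv h : LinearMap.ker φ) : V) = g h - φ (g h) • g v := by
  change ((g - (φ.comp g).smulRight (g v)).comp (LinearMap.ker φ).subtype) h = _
  simp

theorem conj_eq_modelG (g : Module.End K V) (φ : Module.Dual K V) (v : V) (hv : φ v = 1)
    (hgv : φ (g v) = 1) :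
    (decomp φ v hv).conjRingEquiv g
      = modelG (cvec g φ v hv hgv) (yfun g φ) (comp1 g φ v hgv) := by
  apply LinearMap.ext
  rintro ⟨a, h⟩
  have hh : φ (h : V) = 0 := h.2
  change decomp φ v hv (g ((decomp φ v hv).symm (a, h))) = _
  rw [modelG_apply, decomp_symm_apply]
  apply Prod.ext
  · simp [hgv]
  · apply Subtype.ext
    rw [decomp_apply_snd]
    simp only [map_add, map_smul, hgv, smul_eq_mul, mul_one, yfun_apply,
      Submodule.coe_add, Submodule.coe_smul, comp1_apply_coe, cvec]
    module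

theorem det_modelG {H : Type*} [AddCommGroup H] [Module K H] [FiniteDimensional K H]
    (c : H) (y : Module.Dual K H) (g₁ : Module.End K H) :
    LinearMap.det (modelG c y g₁) = LinearMap.det g₁ := by
  have hfac : modelG c y g₁ = (1 + lowN c 0) * (LinearMap.prodMap LinearMap.id g₁) * (1 + upN y 0) := by
    apply LinearMap.ext
    rintro ⟨a, h⟩
    simp [Module.End.mul_apply, add_comm]
  have hA : LinearMap.det (1 + lowN c (0 : Module.End K H)) = 1 := by
    have hnil : IsNilpotent (lowN c (0 : Module.End K H)) := by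
      refine ⟨2, ?_⟩
      apply LinearMap.ext
      intro p
      rw [lowN_pow_succ]
      simp
    have := det_algebraMap_add_of_isNilpotent hnil (1 : K)
    simpa using this
  have hC : LinearMap.det (1 + upN y (0 : Module.End K H)) = 1 := by
    have hnil : IsNilpotent (upN y (0 : Module.End K H)) := by
      refine ⟨2, ?_⟩
      apply LinearMap.ext
      intro p
      rw [upN_pow_succ]
      simp
    have := det_algebraMap_add_of_isNilpotent hnil (1 : K)
    simpa using this
  rw [hfac, map_mul, map_mul, hA, hC, LinearMap.det_prodMap, LinearMap.det_id]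
  simp

theorem det_comp1 (g : Module.End K V) (φ : Module.Dual K V) (v : V) (hv : φ v = 1)
    (hgv : φ (g v) = 1) : LinearMap.det (comp1 g φ v hgv) = LinearMap.det g := by
  rw [← det_modelG (cvec g φ v hv hgv) (yfun g φ), ← conj_eq_modelG g φ v hv hgv]
  exact LinearMap.det_conj g (decomp φ v hv)

/-- The LU step. -/
theorem sol_of_comp1 (g : Module.End K V) (φ : Module.Dual K V) (v : V) (hv : φ v = 1)
    (hgv : φ (g v) = 1) (c' : V) (y' : Module.Dual K V) (hc' : φ c' ≠ 0) (hy' : y' v ≠ 0)
    (hsol : Sol (comp1 g φ v hgv) (cvec g φ v hv hgv) (yfun g φ)) : Sol g c' y' := by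
  obtain ⟨L₁, U₁, hL₁, hU₁, hg₁, hc, x₁, hx₁, hyx₁⟩ := hsol
  set e := decomp φ v hv with he
  set c := cvec g φ v hv hgv with hcdef
  set y := yfun g φ with hydef
  have hy : ∀ x, (U₁ - 1) x = 0 → y x = 0 → x = 0 := by
    intro x hx hyx
    -- ker (U₁ - 1) has dimension ≤ 1 and contains x₁ with y x₁ ≠ 0
    have hx₁0 : x₁ ≠ 0 := by rintro rfl; simp at hyx₁
    have hxk : x ∈ LinearMap.ker (U₁ - 1) := hx
    have hx₁k : x₁ ∈ LinearMap.ker (U₁ - 1) := hx₁
    have hle := hU₁.ker_le_one
    have hdim : finrank K (LinearMap.ker (U₁ - 1)) = 1 := by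
      apply le_antisymm hle
      rw [Nat.one_le_iff_ne_zero, Ne, Submodule.finrank_eq_zero]
      intro hbot
      rw [hbot, Submodule.mem_bot] at hx₁k
      exact hx₁0 hx₁k
    obtain ⟨t, ht⟩ := (finrank_eq_one_iff_of_nonzero' (⟨x₁, hx₁k⟩ : LinearMap.ker (U₁ - 1))
      (by intro h; exact hx₁0 (congrArg Subtype.val h))).mp hdim ⟨x, hxk⟩
    have hxt : x = t • x₁ := by
      have := congrArg Subtype.val ht
      simpa using this.symm
    rw [hxt, map_smul, smul_eq_mul] at hyx
    rcases mul_eq_zero.mp hyx with h | h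
    · rw [hxt, h, zero_smul]
    · exact absurd h hyx₁
  have hL' : IsRegNilp (lowN c (L₁ - 1)) := isRegNilp_lowN hL₁ hc
  have hU' : IsRegNilp (upN y (U₁ - 1)) := isRegNilp_upN hU₁ hy
  have hprod : e.conjRingEquiv g = (1 + lowN c (L₁ - 1)) * (1 + upN y (U₁ - 1)) := by
    rw [one_add_lowN_mul_one_add_upN, ← hg₁]
    exact conj_eq_modelG g φ v hv hgv
  refine ⟨e.symm.conjRingEquiv (1 + lowN c (L₁ - 1)), e.symm.conjRingEquiv (1 + upN y (U₁ - 1)),
    ?_, ?_, ?_, ?_, ?_⟩
  · have : e.symm.conjRingEquiv (1 + lowN c (L₁ - 1)) - 1 = e.symm.conjRingEquiv (lowN c (L₁ - 1)) := by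
      rw [map_add, map_one]; abel
    rw [this]
    exact isRegNilp_conj e.symm hL'
  · have : e.symm.conjRingEquiv (1 + upN y (U₁ - 1)) - 1 = e.symm.conjRingEquiv (upN y (U₁ - 1)) := by
      rw [map_add, map_one]; abel
    rw [this]
    exact isRegNilp_conj e.symm hU'
  · rw [← map_mul, ← hprod]
    apply LinearMap.ext
    intro x
    change g x = e.symm (e (g (e.symm (e x))))
    simp
  · have : e.symm.conjRingEquiv (1 + lowN c (L₁ - 1)) - 1 = e.symm.conjRingEquiv (lowN c (L₁ - 1)) := by
      rw [map_add, map_one]; abel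
    rw [this]
    rintro ⟨x, hx⟩
    have h1 : e c' = lowN c (L₁ - 1) (e x) := by
      rw [← hx]
      have : (e.symm.conjRingEquiv (lowN c (L₁ - 1))) x = e.symm (lowN c (L₁ - 1) (e x)) := rfl
      rw [this]; simp
    have h2 : (e c').1 = 0 := by rw [h1]; simp
    exact hc' (by simpa [he] using h2)
  · refine ⟨v, ?_, hy'⟩
    have : e.symm.conjRingEquiv (1 + upN y (U₁ - 1)) - 1 = e.symm.conjRingEquiv (upN y (U₁ - 1)) := by
      rw [map_add, map_one]; abel
    rw [this]
    change e.symm (upN y (U₁ - 1) (e v)) = 0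
    have hev : e v = ((1 : K), (0 : LinearMap.ker φ)) := by
      apply Prod.ext
      · simp [he, hv]
      · apply Subtype.ext
        simp [he, hv]
    rw [hev, upN_apply_one_zero, map_zero]

end Cfsg.Agent.Helper73.LUStep
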