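import Mathlib
import Cfsg.Agent.Helper73.Avoid
import Cfsg.Agent.Helper73.LUStep

set_option autoImplicit false
set_option linter.unusedSectionVars false
set_option linter.unusedSimpArgs false
set_option linter.unusedVariables false

/-!
# Choosing the line and the hyperplane in the LU induction
-/

namespace Cfsg.Agent.Helper73.LUChoice

open Module Cfsg.Agent.Helper43 Cfsg.Agent.Helper73.RegBlock Cfsg.Agent.Helper73.LUStep
  Cfsg.Agent.Helper73.Avoid

variable {K : Type*} [Field K] {V : Type*} [AddCommGroup V] [Module K V] [FiniteDimensional K V]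

theorem exists_dual_ne_zero {x : V} (hx : x ≠ 0) : ∃ φ : Module.Dual K V, φ x ≠ 0 := by
  by_contra hcon
  push Not at hcon
  exact hx ((Module.forall_dual_apply_eq_zero_iff K x).mp hcon)

theorem exists_dual_eq_one {x : V} (hx : x ≠ 0) : ∃ φ : Module.Dual K V, φ x = 1 := by
  obtain ⟨φ, hφ⟩ := exists_dual_ne_zero (K := K) hx
  exact ⟨(φ x)⁻¹ • φ, by simp [hφ]⟩

/-- If `ker ψ ≤ ker φ` then `φ` is a multiple of `ψ`. -/
theorem eq_smul_of_ker_le (φ ψ : Module.Dual K V) (h : ∀ x, ψ x = 0 → φ x = 0) :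
    ∃ t : K, φ = t • ψ := by
  by_cases hψ : ∃ z, ψ z ≠ 0
  · obtain ⟨z, hz⟩ := hψ
    refine ⟨φ z / ψ z, ?_⟩
    apply LinearMap.ext
    intro x
    have h1 : ψ (x - (ψ x / ψ z) • z) = 0 := by
      rw [map_sub, map_smul, smul_eq_mul, div_mul_cancel₀ _ hz, sub_self]
    have h2 := h _ h1
    rw [map_sub, map_smul, smul_eq_mul, sub_eq_zero] at h2
    rw [LinearMap.smul_apply, smul_eq_mul, h2]
    field_simp
  · push Not at hψ
    refine ⟨0, ?_⟩
    apply LinearMap.ext
    intro x
    simpa using h x (hψ x)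

/-- From independent functionals `φ, ψ`, a vector with `φ = 1`, `ψ = 0`. -/
theorem exists_apply_eq_one_eq_zero (φ ψ : Module.Dual K V)
    (hind : ∀ a b : K, a • φ + b • ψ = 0 → a = 0 ∧ b = 0) :
    ∃ x, φ x = 1 ∧ ψ x = 0 := by
  by_contra hcon
  push Not at hcon
  have : ∀ x, ψ x = 0 → φ x = 0 := by
    intro x hx
    by_contra hne
    apply hcon ((φ x)⁻¹ • x)
    · simp [hne]
    · simp [hx]
  obtain ⟨t, ht⟩ := eq_smul_of_ker_le φ ψ this
  have := hind 1 (-t) (by rw [ht]; module)
  exact one_ne_zero this.1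

/-- The invariant carried through the induction. -/
structure Inv (g : Module.End K V) : Prop where
  det : LinearMap.det g = 1
  nonscalar : ∀ μ : K, g ≠ μ • 1
  rank : ∃ a b : V, ∀ s t : K, s • ((g - 1) a) + t • ((g - 1) b) = 0 → s = 0 ∧ t = 0

/-- Properties required of the functional `φ`. -/
structure PhiData (g : Module.End K V) (c' : V) (y' φ : Module.Dual K V) : Prop where
  hc : φ c' ≠ 0
  indep : ∀ a b : K, a • φ + b • φ.comp (g - 1) = 0 → a = 0 ∧ b = 0
  ny : ∀ t : K, φ.comp (g - 1) ≠ t • y'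
  qne : (∀ x, (g - 1) x = 0 → x = 0) ∨
    ∃ h₀, φ h₀ = 0 ∧ φ ((g - 1) h₀) = 0 ∧ (g - 1) h₀ ≠ 0
  qne3 : 3 ≤ finrank K V → ∃ h₀, φ h₀ = 0 ∧ φ ((g - 1) h₀) = 0 ∧ (g - 1) h₀ ≠ 0

theorem not_forall_comp_eq_smul (g : Module.End K V) (hg : Inv g) (y' : Module.Dual K V) :
    ∃ φ : Module.Dual K V, ¬ ∃ t : K, φ.comp (g - 1) = t • y' := by
  by_contra hcon
  push Not at hcon
  obtain ⟨a, b, hab⟩ := hg.rank
  -- ker y' ≤ ker D
  have hker : ∀ x, y' x = 0 → (g - 1) x = 0 := by
    intro x hx
    rw [← Module.forall_dual_apply_eq_zero_iff K]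
    intro φ
    obtain ⟨t, ht⟩ := hcon φ
    have := congrArg (fun f : Module.Dual K V => f x) ht
    simpa [hx] using this
  by_cases hy : ∃ z, y' z ≠ 0
  · obtain ⟨z, hz⟩ := hy
    have hD : ∀ x, (g - 1) x = (y' x / y' z) • (g - 1) z := by
      intro x
      have h1 : y' (x - (y' x / y' z) • z) = 0 := by
        rw [map_sub, map_smul, smul_eq_mul, div_mul_cancel₀ _ hz, sub_self]
      have := hker _ h1
      rw [map_sub, map_smul, sub_eq_zero] at this
      exact this
    by_cases hya : y' a = 0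
    · have := hab 1 0 (by rw [hD a, hya]; simp)
      exact one_ne_zero this.1
    · have := hab (y' b / y' z) (-(y' a / y' z)) (by
        rw [hD a, hD b, smul_smul, smul_smul]
        rw [← add_smul]
        have : y' b / y' z * (y' a / y' z) + -(y' a / y' z) * (y' b / y' z) = 0 := by ring
        rw [this, zero_smul])
      have h2 : y' a / y' z = 0 := by simpa using this.2
      rcases div_eq_zero_iff.mp h2 with h | h
      · exact hya h
      · exact hz h
  · push Not at hy
    have := hab 1 0 (by rw [hker a (hy a)]; simp)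
    exact one_ne_zero this.1

theorem nonscalar_sub_one (g : Module.End K V) (hg : ∀ μ : K, g ≠ μ • 1) :
    ∀ μ : K, (g - 1 : Module.End K V) ≠ μ • 1 := by
  intro μ h
  apply hg (μ + 1)
  rw [add_smul, one_smul, ← h]; abel

theorem exists_phi (s : Finset K) (hs : 4 ≤ s.card) (g : Module.End K V) (hg : Inv g)
    (c' : V) (y' : Module.Dual K V) (hc' : c' ≠ 0) :
    ∃ φ : Module.Dual K V, PhiData g c' y' φ := by
  classical
  set D : Module.End K V := g - 1 with hD
  -- the two subspaces of the dual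
  let X₁ : Submodule K (Module.Dual K V) := LinearMap.ker (Module.Dual.eval K V c')
  let X₂ : Submodule K (Module.Dual K V) := Submodule.comap D.dualMap (K ∙ y')
  have hX₁ : ∀ φ : Module.Dual K V, φ ∈ X₁ ↔ φ c' = 0 := fun φ => by
    simp [X₁, LinearMap.mem_ker]
  have hX₂ : ∀ φ : Module.Dual K V, φ ∈ X₂ ↔ ∃ t : K, φ.comp D = t • y' := fun φ => by
    simp only [X₂, Submodule.mem_comap, Submodule.mem_span_singleton, LinearMap.dualMap_apply']
    constructor
    · rintro ⟨t, ht⟩; exact ⟨t, ht.symm⟩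
    · rintro ⟨t, ht⟩; exact ⟨t, ht.symm⟩
  have n₁ : ∃ φ : Module.Dual K V, ¬ φ ∈ X₁ := by
    obtain ⟨φ, hφ⟩ := exists_dual_ne_zero (K := K) hc'
    exact ⟨φ, fun h => hφ ((hX₁ φ).mp h)⟩
  have n₂ : ∃ φ : Module.Dual K V, ¬ φ ∈ X₂ := by
    obtain ⟨φ, hφ⟩ := not_forall_comp_eq_smul g hg y'
    exact ⟨φ, fun h => hφ ((hX₂ φ).mp h)⟩
  by_cases hinj : ∀ x, D x = 0 → x = 0
  · -- D injective: non-eigenvector of the dual map
    have hT : ∀ μ : K, D.dualMap ≠ μ • LinearMap.id := by
      intro μ h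
      apply nonscalar_sub_one g hg.nonscalar μ
      apply LinearMap.ext
      intro x
      rw [← sub_eq_zero, ← Module.forall_dual_apply_eq_zero_iff K]
      intro φ
      have := congrArg (fun f : Module.Dual K V →ₗ[K] Module.Dual K V => f φ x) h
      simp only [LinearMap.dualMap_apply, LinearMap.smul_apply, LinearMap.id_apply] at this
      have h5 : φ (D x) = μ * φ x := by simpa using this
      rw [map_sub, h5]
      simp
    obtain ⟨φ, h1, h2, h0, hne⟩ := exists_not_eigen s hs D.dualMap hT X₁ X₂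
      (by rintro h; obtain ⟨φ, hφ⟩ := n₁; exact hφ (h ▸ Submodule.mem_top))
      (by rintro h; obtain ⟨φ, hφ⟩ := n₂; exact hφ (h ▸ Submodule.mem_top))
    have hindep : ∀ a b : K, a • φ + b • φ.comp D = 0 → a = 0 ∧ b = 0 := by
      intro a b hab
      by_cases hb : b = 0
      · subst hb
        rw [zero_smul, add_zero] at hab
        rcases smul_eq_zero.mp hab with h | h
        · exact ⟨h, rfl⟩
        · exact absurd h h0
      · exfalso
        apply hne (-(a / b))
        have : φ.comp D = -(a / b) • φ := by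
          have h3 : b • φ.comp D = -(a • φ) := eq_neg_of_add_eq_zero_right hab
          have h4 : φ.comp D = b⁻¹ • (b • φ.comp D) := by
            rw [smul_smul, inv_mul_cancel₀ hb, one_smul]
          rw [h4, h3]
          module
        rw [← this]
        rfl
    refine ⟨φ, ⟨fun h => h1 ((hX₁ φ).mpr h), hindep, fun t ht => h2 ((hX₂ φ).mpr ⟨t, ht⟩),
      Or.inl hinj, ?_⟩⟩
    intro h3
    -- kernel of (φ, φ ∘ D) is nontrivial
    let F : V →ₗ[K] K × K := φ.prod (φ.comp D)
    have hr := LinearMap.finrank_range_add_finrank_ker F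
    have hle : finrank K (LinearMap.range F) ≤ 2 := by
      have := Submodule.finrank_le (LinearMap.range F)
      rwa [Module.finrank_prod, Module.finrank_self] at this
    have hpos : 0 < finrank K (LinearMap.ker F) := by omega
    obtain ⟨⟨h₀, hh₀⟩, hne0⟩ := Module.finrank_pos_iff_exists_ne_zero.mp hpos
    have hh₀' : φ h₀ = 0 ∧ φ (D h₀) = 0 := by
      rw [LinearMap.mem_ker] at hh₀
      simpa [F, Prod.ext_iff] using hh₀
    refine ⟨h₀, hh₀'.1, hh₀'.2, ?_⟩
    intro hz
    exact hne0 (Subtype.ext (hinj h₀ hz))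
  · -- D has a kernel vector
    push Not at hinj
    obtain ⟨x₀, hx₀D, hx₀⟩ := hinj
    let X₃ : Submodule K (Module.Dual K V) := LinearMap.ker (Module.Dual.eval K V x₀)
    have hX₃ : ∀ φ : Module.Dual K V, φ ∈ X₃ ↔ φ x₀ = 0 := fun φ => by
      simp [X₃, LinearMap.mem_ker]
    have n₃ : ∃ φ : Module.Dual K V, ¬ φ ∈ X₃ := by
      obtain ⟨φ, hφ⟩ := exists_dual_ne_zero (K := K) hx₀
      exact ⟨φ, fun h => hφ ((hX₃ φ).mp h)⟩
    obtain ⟨φ, h1, h2, h3⟩ := avoid3 s hs (fun φ => φ ∈ X₁) (fun φ => φ ∈ X₂) (fun φ => φ ∈ X₃)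
      (lineClosed_mem X₁) (lineClosed_mem X₂) (lineClosed_mem X₃) n₁ n₂ n₃
    have hφx₀ : φ x₀ ≠ 0 := fun h => h3 ((hX₃ φ).mpr h)
    have hindep : ∀ a b : K, a • φ + b • φ.comp D = 0 → a = 0 ∧ b = 0 := by
      intro a b hab
      have ha : a = 0 := by
        have := congrArg (fun f : Module.Dual K V => f x₀) hab
        simp only [LinearMap.add_apply, LinearMap.smul_apply, LinearMap.comp_apply, hx₀D, map_zero,
          smul_zero, add_zero, LinearMap.zero_apply, smul_eq_mul, mul_zero] at this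
        rcases mul_eq_zero.mp this with h | h
        · exact h
        · exact absurd h hφx₀
      subst ha
      rw [zero_smul, zero_add] at hab
      refine ⟨rfl, ?_⟩
      rcases smul_eq_zero.mp hab with h | h
      · exact h
      · exfalso; apply h2; rw [hX₂]; exact ⟨0, by rw [h, zero_smul]⟩
    have hq : ∃ h₀, φ h₀ = 0 ∧ φ (D h₀) = 0 ∧ D h₀ ≠ 0 := by
      obtain ⟨a, b, hab⟩ := hg.rank
      -- move a, b into ker φ
      set a' := a - (φ a / φ x₀) • x₀ with ha'
      set b' := b - (φ b / φ x₀) • x₀ with hb'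
      have hφa' : φ a' = 0 := by
        rw [ha', map_sub, map_smul, smul_eq_mul, div_mul_cancel₀ _ hφx₀, sub_self]
      have hφb' : φ b' = 0 := by
        rw [hb', map_sub, map_smul, smul_eq_mul, div_mul_cancel₀ _ hφx₀, sub_self]
      have hDa' : D a' = D a := by rw [ha', map_sub, map_smul, hx₀D, smul_zero, sub_zero]
      have hDb' : D b' = D b := by rw [hb', map_sub, map_smul, hx₀D, smul_zero, sub_zero]
      by_cases hψa : φ (D a') = 0
      · refine ⟨a', hφa', hψa, ?_⟩
        intro h0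
        have := hab 1 0 (by rw [← hDa', h0]; simp)
        exact one_ne_zero this.1
      · refine ⟨φ (D b') • a' - φ (D a') • b', ?_, ?_, ?_⟩
        · rw [map_sub, map_smul, map_smul, hφa', hφb']; simp
        · rw [map_sub, map_smul, map_smul, map_sub, map_smul, map_smul]
          simp only [smul_eq_mul]; ring
        · intro h0
          rw [hDa'] at hψa
          rw [map_sub, map_smul, map_smul, hDa', hDb', sub_eq_add_neg, ← neg_smul] at h0
          have := hab _ _ h0
          apply hψa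
          have h5 := this.2
          rwa [neg_eq_zero] at h5
    exact ⟨φ, ⟨fun h => h1 ((hX₁ φ).mpr h), hindep, fun t ht => h2 ((hX₂ φ).mpr ⟨t, ht⟩),
      Or.inr hq, fun _ => hq⟩⟩

end Cfsg.Agent.Helper73.LUChoice
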