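import Mathlib
import Cfsg.Agent.Helper73.LUChoice

set_option autoImplicit false
set_option linter.unusedSectionVars false
set_option linter.unusedSimpArgs false
set_option linter.unusedVariables false

/-!
# Choosing the vector `v` in the LU induction
-/

namespace Cfsg.Agent.Helper73.LUChoice

open Module Cfsg.Agent.Helper43 Cfsg.Agent.Helper73.RegBlock Cfsg.Agent.Helper73.LUStep
  Cfsg.Agent.Helper73.Avoid

variable {K : Type*} [Field K] {V : Type*} [AddCommGroup V] [Module K V] [FiniteDimensional K V]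

theorem injective_of_det_eq_one (g : Module.End K V) (hdet : LinearMap.det g = 1) :
    ∀ x, g x = 0 → x = 0 := by
  have hu : IsUnit (LinearMap.det g) := by rw [hdet]; exact isUnit_one
  have := (LinearMap.isUnit_iff_isUnit_det g).mpr hu
  have hk := (LinearMap.isUnit_iff_ker_eq_bot g).mp this
  intro x hx
  have : x ∈ LinearMap.ker g := hx
  rwa [hk, Submodule.mem_bot] at this

/-- Sufficient conditions for `Inv (comp1 …)`. -/
theorem inv_comp1_of (g : Module.End K V) (φ : Module.Dual K V) (v : V) (hv : φ v = 1)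
    (hgv : φ (g v) = 1) (hdet : LinearMap.det g = 1)
    (a b : LinearMap.ker φ)
    (hindep : ∀ s t : K, s • (g a - φ (g a) • g v - a) + t • (g b - φ (g b) • g v - b) = 0 →
      s = 0 ∧ t = 0)
    (hns : ∀ μ : K, ∃ x : LinearMap.ker φ, g x - φ (g x) • g v ≠ μ • (x : V)) :
    Inv (comp1 g φ v hgv) where
  det := by rw [det_comp1 g φ v hv hgv, hdet]
  nonscalar := by
    intro μ h
    obtain ⟨x, hx⟩ := hns μ
    apply hx
    have := congrArg (fun f : Module.End K (LinearMap.ker φ) => ((f x : LinearMap.ker φ) : V)) h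
    simpa using this
  rank := by
    refine ⟨a, b, ?_⟩
    intro s t hst
    apply hindep s t
    have := congrArg (fun z : LinearMap.ker φ => (z : V)) hst
    simpa using this

/-- If `f - 1` has range in the line `K w` and `f w = l • w`, then `det f = l`. -/
theorem det_eq_of_range_sub_one_le {W : Type*} [AddCommGroup W] [Module K W]
    [FiniteDimensional K W] (f : Module.End K W) (w : W) (hw : w ≠ 0) (l : K)
    (hfw : f w = l • w) (hrange : ∀ x, ∃ r : K, f x - x = r • w) : LinearMap.det f = l := by
  obtain ⟨χ, hχ⟩ := exists_dual_eq_one (K := K) hw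
  let θ : Module.Dual K W := χ.comp (f - 1)
  have hf : f = LinearMap.transvection θ w := by
    apply LinearMap.ext
    intro x
    obtain ⟨r, hr⟩ := hrange x
    rw [LinearMap.transvection.apply]
    have : θ x = r := by
      change χ ((f - 1) x) = r
      rw [LinearMap.sub_apply, Module.End.one_apply, hr, map_smul, hχ, smul_eq_mul, mul_one]
    rw [this, ← hr]; abel
  rw [hf, LinearMap.transvection.det]
  change 1 + χ ((f - 1) w) = l
  rw [LinearMap.sub_apply, Module.End.one_apply, hfw]
  have : l • w - w = (l - 1) • w := by rw [sub_smul, one_smul]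
  rw [this, map_smul, hχ, smul_eq_mul, mul_one]; ring

/-- The main choice: a functional `φ` and a vector `v` for the LU step. -/
theorem exists_choice (s : Finset K) (hs : 4 ≤ s.card) (g : Module.End K V) (hg : Inv g)
    (c' : V) (y' : Module.Dual K V) (hc' : c' ≠ 0) (hy' : y' ≠ 0) :
    ∃ (φ : Module.Dual K V) (v : V) (hv : φ v = 1) (hgv : φ (g v) = 1), φ c' ≠ 0 ∧ y' v ≠ 0 ∧
      cvec g φ v hv hgv ≠ 0 ∧ yfun g φ ≠ 0 ∧
      (3 ≤ finrank K V → Inv (comp1 g φ v hgv)) := by
  classical
  obtain ⟨φ, hφ⟩ := exists_phi s hs g hg c' y' hc'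
  set D : Module.End K V := g - 1 with hD
  set ψ : Module.Dual K V := φ.comp D with hψ
  have hgD : ∀ x, g x = D x + x := fun x => by simp [hD]
  have hφg : ∀ x, φ (g x) = ψ x + φ x := fun x => by rw [hgD, map_add]; rfl
  have hginj := injective_of_det_eq_one g hg.det
  obtain ⟨v₀, hv₀φ, hv₀ψ⟩ := exists_apply_eq_one_eq_zero φ ψ hφ.indep
  obtain ⟨h₁, hh₁ψ, hh₁φ⟩ := exists_apply_eq_one_eq_zero ψ φ (by
    intro a b hab
    have := hφ.indep b a (by rw [add_comm]; exact hab)
    exact ⟨this.2, this.1⟩)
  -- the codimension two subspace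
  let H₀ : Submodule K V := LinearMap.ker φ ⊓ LinearMap.ker ψ
  have hH₀ : ∀ x : V, x ∈ H₀ ↔ φ x = 0 ∧ ψ x = 0 := fun x => by
    simp [H₀, Submodule.mem_inf, LinearMap.mem_ker]
  -- the two standard predicates
  let fy : H₀ →ₗ[K] K := y'.comp H₀.subtype
  let fD : H₀ →ₗ[K] V := D.comp H₀.subtype
  let fg : H₀ →ₗ[K] V := -(g.comp H₀.subtype)
  have P₂c : LineClosed K (fun h : H₀ => fy h + y' v₀ = 0) := lineClosed_affine_eq fy (y' v₀)
  have P₃c : LineClosed K (fun h : H₀ => fD h + D v₀ = 0) := lineClosed_affine_eq fD (D v₀)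
  have P₂n : ∃ h : H₀, ¬ (fy h + y' v₀ = 0) := by
    by_contra hcon
    push Not at hcon
    have h0 : y' v₀ = 0 := by simpa using hcon 0
    have hH : ∀ x ∈ H₀, y' x = 0 := by
      intro x hx
      have := hcon ⟨x, hx⟩
      simpa [fy, h0] using this
    -- y' vanishes on ker ψ
    have hker : ∀ x, ψ x = 0 → y' x = 0 := by
      intro x hx
      have hx' : x - φ x • v₀ ∈ H₀ := by
        rw [hH₀]
        constructor
        · rw [map_sub, map_smul, hv₀φ, smul_eq_mul, mul_one, sub_self]
        · rw [map_sub, map_smul, hv₀ψ, hx, smul_zero, sub_zero]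
      have := hH _ hx'
      rw [map_sub, map_smul, h0, smul_zero, sub_zero] at this
      exact this
    obtain ⟨t, ht⟩ := eq_smul_of_ker_le y' ψ hker
    have ht0 : t ≠ 0 := by
      rintro rfl
      rw [zero_smul] at ht
      exact hy' ht
    apply hφ.ny t⁻¹
    rw [ht, smul_smul, inv_mul_cancel₀ ht0, one_smul]
  have P₃n : ∃ h : H₀, ¬ (fD h + D v₀ = 0) := by
    rcases hφ.qne with hinj | ⟨h₀, hh₀φ, hh₀ψ, hDh₀⟩
    · refine ⟨0, ?_⟩
      intro h
      have : D v₀ = 0 := by simpa using h
      have := hinj v₀ this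
      rw [this, map_zero] at hv₀φ
      exact zero_ne_one hv₀φ
    · by_cases hDv₀ : D v₀ = 0
      · refine ⟨⟨h₀, (hH₀ h₀).mpr ⟨hh₀φ, hh₀ψ⟩⟩, ?_⟩
        intro h
        have hDh₀' : D h₀ ≠ 0 := hDh₀
        apply hDh₀'
        simpa [fD, hDv₀] using h
      · refine ⟨0, ?_⟩
        intro h
        apply hDv₀
        simpa using h
  -- final assembly from a chosen h
  have assemble : ∀ h : H₀, ¬ (fy h + y' v₀ = 0) → ¬ (fD h + D v₀ = 0) →
      (∀ (hv : φ (v₀ + (h : V)) = 1) (hgv : φ (g (v₀ + (h : V))) = 1),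
        3 ≤ finrank K V → Inv (comp1 g φ (v₀ + (h : V)) hgv)) →
      ∃ (φ : Module.Dual K V) (v : V) (hv : φ v = 1) (hgv : φ (g v) = 1), φ c' ≠ 0 ∧ y' v ≠ 0 ∧
        cvec g φ v hv hgv ≠ 0 ∧ yfun g φ ≠ 0 ∧
        (3 ≤ finrank K V → Inv (comp1 g φ v hgv)) := by
    intro h h2 h3 hinv
    have hh := (hH₀ h).mp h.2
    have hv : φ (v₀ + (h : V)) = 1 := by rw [map_add, hv₀φ, hh.1, add_zero]
    have hψv : ψ (v₀ + (h : V)) = 0 := by rw [map_add, hv₀ψ, hh.2, add_zero]
    have hgv : φ (g (v₀ + (h : V))) = 1 := by rw [hφg, hψv, hv, zero_add]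
    refine ⟨φ, v₀ + (h : V), hv, hgv, hφ.hc, ?_, ?_, ?_, hinv hv hgv⟩
    · intro h0
      apply h2
      have : y' (h : V) + y' v₀ = 0 := by rw [add_comm, ← map_add]; exact h0
      exact this
    · intro h0
      apply h3
      have h4 := congrArg (fun z : LinearMap.ker φ => (z : V)) h0
      simp only [cvec, ZeroMemClass.coe_zero] at h4
      have h5 : D (v₀ + (h : V)) = 0 := by rw [hD]; simpa using h4
      have : D (h : V) + D v₀ = 0 := by rw [add_comm, ← map_add]; exact h5
      exact this
    · intro h0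
      have := congrArg (fun f : Module.Dual K (LinearMap.ker φ) =>
        f ⟨h₁, hh₁φ⟩) h0
      simp only [yfun_apply, LinearMap.zero_apply] at this
      rw [hφg, hh₁ψ, hh₁φ, add_zero] at this
      exact one_ne_zero this
  by_cases h3 : 3 ≤ finrank K V
  · obtain ⟨h₀, hh₀φ, hh₀ψ, hDh₀⟩ := hφ.qne3 h3
    have hh₀0 : h₀ ≠ 0 := by rintro rfl; simp at hDh₀
    have hh₀H : h₀ ∈ H₀ := (hH₀ h₀).mpr ⟨hh₀φ, hh₀ψ⟩
    have hDh₀' : D h₀ ≠ 0 := hDh₀
    have hh₁k : h₁ ∈ LinearMap.ker φ := hh₁φ
    by_cases hI : ∃ k₀ : V, k₀ ∈ H₀ ∧ ∀ a b : K, a • k₀ + b • g k₀ = 0 → a = 0 ∧ b = 0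
    · -- Case I
      obtain ⟨k₀, hk₀H, hk₀⟩ := hI
      have hk₀' := (hH₀ k₀).mp hk₀H
      set q₀ : V := g k₀ - k₀ with hq₀
      have hq₀0 : q₀ ≠ 0 := by
        intro h0
        have := hk₀ 1 (-1) (by rw [one_smul, neg_smul, one_smul, ← sub_eq_add_neg, ← neg_sub, ← hq₀, h0, neg_zero])
        exact one_ne_zero this.1
      have P₁c : LineClosed K (fun h : H₀ => fg h + (D h₁ - g v₀) ∈ K ∙ q₀) :=
        lineClosed_affine fg (D h₁ - g v₀) (K ∙ q₀)
      have P₁n : ∃ h : H₀, ¬ (fg h + (D h₁ - g v₀) ∈ K ∙ q₀) := by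
        by_contra hcon
        push Not at hcon
        have e0 := hcon 0
        have e1 := hcon ⟨k₀, hk₀H⟩
        have e2 := (K ∙ q₀).sub_mem e0 e1
        have e3 : g k₀ ∈ K ∙ q₀ := by
          have : fg 0 + (D h₁ - g v₀) - (fg ⟨k₀, hk₀H⟩ + (D h₁ - g v₀)) = g k₀ := by
            simp [fg]
          rwa [this] at e2
        obtain ⟨τ, hτ⟩ := Submodule.mem_span_singleton.mp e3
        have := hk₀ τ (1 - τ) (by
          have e4 : τ • k₀ + (1 - τ) • g k₀ = g k₀ - τ • (g k₀ - k₀) := by module
          rw [e4, ← hq₀, hτ, sub_self])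
        have h1 : (1 : K) = 0 := by
          have h2 := this.2
          rw [this.1, sub_zero] at h2
          exact h2
        exact one_ne_zero h1
      obtain ⟨h, hh1, hh2, hh3⟩ := avoid3 (K := K) (W := H₀) s hs _ _ _ P₁c P₂c P₃c P₁n P₂n P₃n
      refine assemble h hh2 hh3 (fun hv hgv _ => ?_)
      have hk₀k : k₀ ∈ LinearMap.ker φ := hk₀'.1
      refine inv_comp1_of g φ _ hv hgv hg.det ⟨k₀, hk₀k⟩ ⟨h₁, hh₁k⟩ ?_ ?_
      · intro a b hab
        have ea : φ (g k₀) = 0 := by rw [hφg, hk₀'.2, hk₀'.1, add_zero]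
        have eb : φ (g h₁) = 1 := by rw [hφg, hh₁ψ, hh₁φ, add_zero]
        simp only [ea, eb, zero_smul, sub_zero, one_smul] at hab
        have ez : g h₁ - g (v₀ + (h : V)) - h₁ = fg h + (D h₁ - g v₀) := by
          simp only [fg, LinearMap.neg_apply, LinearMap.comp_apply, Submodule.subtype_apply, hD,
            LinearMap.sub_apply, Module.End.one_apply, map_add]
          abel
        rw [ez, ← hq₀] at hab
        by_cases hb : b = 0
        · subst hb
          rw [zero_smul, add_zero] at hab
          rcases smul_eq_zero.mp hab with h' | h'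
          · exact ⟨h', rfl⟩
          · exact absurd h' hq₀0
        · exfalso
          apply hh1
          rw [Submodule.mem_span_singleton]
          refine ⟨-(b⁻¹ * a), ?_⟩
          have h5 : b • (fg h + (D h₁ - g v₀)) = -(a • q₀) := eq_neg_of_add_eq_zero_right hab
          have h6 : fg h + (D h₁ - g v₀) = b⁻¹ • (b • (fg h + (D h₁ - g v₀))) := by
            rw [smul_smul, inv_mul_cancel₀ hb, one_smul]
          rw [h6, h5]
          module
      · intro μ
        refine ⟨⟨k₀, hk₀k⟩, ?_⟩
        have ea : φ (g k₀) = 0 := by rw [hφg, hk₀'.2, hk₀'.1, add_zero]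
        simp only [ea, zero_smul, sub_zero]
        intro h'
        have := hk₀ μ (-1) (by rw [neg_smul, one_smul, h']; abel)
        have h1 : (-1 : K) = 0 := this.2
        exact one_ne_zero (neg_eq_zero.mp h1)
    · -- Case II : every vector of H₀ is an eigenvector of g
      push Not at hI
      have heig : ∀ k : V, k ∈ H₀ → k ≠ 0 → ∃ l : K, g k = l • k := by
        intro k hk hk0
        obtain ⟨a, b, hab, hne⟩ := hI k hk
        have hb : b ≠ 0 := by
          intro hb
          subst hb
          rw [zero_smul, add_zero] at hab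
          rcases smul_eq_zero.mp hab with h' | h'
          · exact hne h' rfl
          · exact hk0 h'
        refine ⟨-(b⁻¹ * a), ?_⟩
        have h5 : b • g k = -(a • k) := eq_neg_of_add_eq_zero_right hab
        have h6 : g k = b⁻¹ • (b • g k) := by rw [smul_smul, inv_mul_cancel₀ hb, one_smul]
        rw [h6, h5]
        module
      obtain ⟨l, hl⟩ := heig h₀ hh₀H hh₀0
      have hl1 : l ≠ 1 := by
        rintro rfl
        apply hDh₀'
        rw [hD, LinearMap.sub_apply, Module.End.one_apply, hl, one_smul, sub_self]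
      have P₁c : LineClosed K (fun h : H₀ => fg h + (g h₁ - g v₀ - l • h₁) = 0) :=
        lineClosed_affine_eq fg (g h₁ - g v₀ - l • h₁)
      have P₁n : ∃ h : H₀, ¬ (fg h + (g h₁ - g v₀ - l • h₁) = 0) := by
        by_contra hcon
        push Not at hcon
        have e0 := hcon 0
        have e1 := hcon ⟨h₀, hh₀H⟩
        have e2 : g h₀ = 0 := by
          have : fg 0 + (g h₁ - g v₀ - l • h₁) - (fg ⟨h₀, hh₀H⟩ + (g h₁ - g v₀ - l • h₁)) = g h₀ := by
            simp [fg]
          rw [← this, e0, e1, sub_zero]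
        exact hh₀0 (hginj h₀ e2)
      obtain ⟨h, hh1, hh2, hh3⟩ := avoid3 (K := K) (W := H₀) s hs _ _ _ P₁c P₂c P₃c P₁n P₂n P₃n
      refine assemble h hh2 hh3 (fun hv hgv _ => ?_)
      have hh₀k : h₀ ∈ LinearMap.ker φ := hh₀φ
      have ea : φ (g h₀) = 0 := by rw [hφg]; rw [show ψ h₀ = 0 from hh₀ψ, hh₀φ, add_zero]
      have eb : φ (g h₁) = 1 := by rw [hφg, hh₁ψ, hh₁φ, add_zero]
      have ez : g h₁ - g (v₀ + (h : V)) - l • h₁ = fg h + (g h₁ - g v₀ - l • h₁) := by
        simp only [fg, LinearMap.neg_apply, LinearMap.comp_apply, Submodule.subtype_apply, map_add]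
        abel
      have hns : ∀ μ : K, ∃ x : LinearMap.ker φ,
          g x - φ (g x) • g (v₀ + (h : V)) ≠ μ • (x : V) := by
        intro μ
        by_cases hμ : μ = l
        · subst hμ
          refine ⟨⟨h₁, hh₁k⟩, ?_⟩
          simp only [eb, one_smul]
          intro h'
          apply hh1
          rw [← ez, h', sub_self]
        · refine ⟨⟨h₀, hh₀k⟩, ?_⟩
          simp only [ea, zero_smul, sub_zero]
          rw [hl]
          intro h'
          have : (l - μ) • h₀ = 0 := by rw [sub_smul, h', sub_self]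
          rcases smul_eq_zero.mp this with h'' | h''
          · exact hμ (sub_eq_zero.mp h'').symm
          · exact hh₀0 h''
      by_cases hIIa : ∃ k : V, k ∈ H₀ ∧ ∀ a b : K, a • h₀ + b • k = 0 → a = 0 ∧ b = 0
      · -- two independent eigenvectors in H₀
        obtain ⟨k, hkH, hk⟩ := hIIa
        have hk' := (hH₀ k).mp hkH
        have hk0 : k ≠ 0 := by
          rintro rfl
          have := hk 0 1 (by simp)
          exact one_ne_zero this.2
        obtain ⟨l', hl'⟩ := heig k hkH hk0
        have hsum0 : h₀ + k ≠ 0 := by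
          intro h'
          have := hk 1 1 (by rw [one_smul, one_smul, h'])
          exact one_ne_zero this.1
        obtain ⟨m, hm⟩ := heig (h₀ + k) (H₀.add_mem hh₀H hkH) hsum0
        have hll' : l' = l := by
          rw [map_add, hl, hl', smul_add] at hm
          have := hk (l - m) (l' - m) (by rw [sub_smul, sub_smul]; rw [← sub_eq_zero] at hm; rw [← hm]; abel)
          rw [sub_eq_zero.mp this.1, sub_eq_zero.mp this.2]
        subst hll'
        have hkk : k ∈ LinearMap.ker φ := hk'.1
        refine inv_comp1_of g φ _ hv hgv hg.det ⟨h₀, hh₀k⟩ ⟨k, hkk⟩ ?_ hns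
        intro a b hab
        have ec : φ (g k) = 0 := by rw [hφg, hk'.2, hk'.1, add_zero]
        simp only [ea, ec, zero_smul, sub_zero] at hab
        simp only [hl, hl'] at hab
        have h7 : (a * (l' - 1)) • h₀ + (b * (l' - 1)) • k = 0 := by
          rw [← hab]; module
        have := hk _ _ h7
        have hl1' : l' - 1 ≠ 0 := sub_ne_zero.mpr hl1
        exact ⟨(mul_eq_zero.mp this.1).resolve_right hl1', (mul_eq_zero.mp this.2).resolve_right hl1'⟩
      · -- H₀ is the line through h₀
        push Not at hIIa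
        have hline : ∀ k : V, k ∈ H₀ → ∃ r : K, k = r • h₀ := by
          intro k hk
          obtain ⟨a, b, hab, hne⟩ := hIIa k hk
          have hb : b ≠ 0 := by
            intro hb
            subst hb
            rw [zero_smul, add_zero] at hab
            rcases smul_eq_zero.mp hab with h' | h'
            · exact hne h' rfl
            · exact hh₀0 h'
          refine ⟨-(b⁻¹ * a), ?_⟩
          have h5 : b • k = -(a • h₀) := eq_neg_of_add_eq_zero_right hab
          have h6 : k = b⁻¹ • (b • k) := by rw [smul_smul, inv_mul_cancel₀ hb, one_smul]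
          rw [h6, h5]
          module
        refine inv_comp1_of g φ _ hv hgv hg.det ⟨h₀, hh₀k⟩ ⟨h₁, hh₁k⟩ ?_ hns
        intro a b hab
        simp only [ea, eb, zero_smul, sub_zero, one_smul] at hab
        simp only [hl] at hab
        by_cases hb : b = 0
        · subst hb
          rw [zero_smul, add_zero] at hab
          have : (a * (l - 1)) • h₀ = 0 := by rw [← hab]; module
          rcases smul_eq_zero.mp this with h' | h'
          · exact ⟨(mul_eq_zero.mp h').resolve_right (sub_ne_zero.mpr hl1), rfl⟩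
          · exact absurd h' hh₀0
        · exfalso
          -- then z = g h₁ - g v - h₁ is a multiple of h₀ and det (comp1) = l
          set v := v₀ + (h : V) with hvdef
          have hz : ∃ τ : K, g h₁ - g v - h₁ = τ • h₀ := by
            refine ⟨-(b⁻¹ * a * (l - 1)), ?_⟩
            have h5 : b • (g h₁ - g v - h₁) = -(a • (l • h₀ - h₀)) := eq_neg_of_add_eq_zero_right hab
            have h6 : g h₁ - g v - h₁ = b⁻¹ • (b • (g h₁ - g v - h₁)) := by
              rw [smul_smul, inv_mul_cancel₀ hb, one_smul]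
            rw [h6, h5]
            module
          obtain ⟨τ, hτ⟩ := hz
          have hdet1 : LinearMap.det (comp1 g φ v hgv) = 1 := by
            rw [det_comp1 g φ v hv hgv, hg.det]
          have hw : (⟨h₀, hh₀k⟩ : LinearMap.ker φ) ≠ 0 := by
            intro h'
            exact hh₀0 (congrArg Subtype.val h')
          have hdetl : LinearMap.det (comp1 g φ v hgv) = l := by
            apply det_eq_of_range_sub_one_le (comp1 g φ v hgv) ⟨h₀, hh₀k⟩ hw l
            · apply Subtype.ext
              rw [comp1_apply_coe]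
              simp only [ea, zero_smul, sub_zero, Submodule.coe_smul]
              exact hl
            · intro x
              have hxφ : φ (x : V) = 0 := x.2
              have hxH : (x : V) - ψ x • h₁ ∈ H₀ := by
                rw [hH₀]
                constructor
                · rw [map_sub, map_smul, hh₁φ, hxφ, smul_zero, sub_zero]
                · rw [map_sub, map_smul, hh₁ψ, smul_eq_mul, mul_one, sub_self]
              obtain ⟨r, hr⟩ := hline _ hxH
              have e1 : φ (g (x : V)) = ψ x := by rw [hφg, hxφ, add_zero]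
              obtain ⟨p, hp⟩ : ∃ p : K, ψ (x : V) = p := ⟨_, rfl⟩
              rw [hp] at hr e1
              have hx : (x : V) = p • h₁ + r • h₀ := by rw [← hr]; abel
              refine ⟨p * τ + r * (l - 1), ?_⟩
              apply Subtype.ext
              rw [Submodule.coe_sub, comp1_apply_coe, Submodule.coe_smul]
              rw [e1]
              have e2 : g (x : V) = p • g h₁ + r • (l • h₀) := by
                rw [hx, map_add, map_smul, map_smul, hl]
              have e3 : g h₁ = τ • h₀ + g v + h₁ := by rw [← hτ]; abel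
              rw [e2, e3, hx]
              change _ = (p * τ + r * (l - 1)) • h₀
              module
          exact hl1 (hdetl.symm.trans hdet1)
  · obtain ⟨h, hh2, hh3⟩ := avoid2 (K := K) (W := H₀) s (by omega) _ _ P₂c P₃c P₂n P₃n
    exact assemble h hh2 hh3 (fun _ _ h3' => absurd h3' h3)

end Cfsg.Agent.Helper73.LUChoice
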