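import Mathlib
import Cfsg.Agent.Helper73.LUChoice2

set_option autoImplicit false
set_option linter.unusedSectionVars false
set_option linter.unusedSimpArgs false
set_option linter.unusedVariables false

/-!
# Every non-scalar endomorphism of determinant one (dimension at least three, at least four
scalars) is a product of two regular unipotent endomorphisms
-/

namespace Cfsg.Agent.Helper73.LUMain

open Module Cfsg.Agent.Helper43 Cfsg.Agent.Helper73.RegBlock Cfsg.Agent.Helper73.LUStep
  Cfsg.Agent.Helper73.Avoid Cfsg.Agent.Helper73.LUChoice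

universe u

variable {K : Type*} [Field K]

theorem finrank_ker_of_apply_eq_one {V : Type u} [AddCommGroup V] [Module K V]
    [FiniteDimensional K V] (φ : Module.Dual K V) (v : V) (hv : φ v = 1) :
    finrank K (LinearMap.ker φ) + 1 = finrank K V := by
  have h := LinearMap.finrank_range_add_finrank_ker φ
  have hr : LinearMap.range φ = ⊤ := by
    rw [LinearMap.range_eq_top]
    intro a
    exact ⟨a • v, by simp [hv]⟩
  rw [hr, finrank_top, Module.finrank_self] at h
  omega

/-- The strengthened LU statement, by induction on the dimension. -/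
theorem sol_main (s : Finset K) (hs : 4 ≤ s.card) :
    ∀ (n : ℕ) (V : Type u) [AddCommGroup V] [Module K V] [FiniteDimensional K V],
      finrank K V = n → ∀ (g : Module.End K V) (c' : V) (y' : Module.Dual K V), c' ≠ 0 → y' ≠ 0 →
      LinearMap.det g = 1 → (2 ≤ n → Inv g) → Sol g c' y'
  | 0 => by
    intro V _ _ _ hn g c' y' hc'
    have : Subsingleton V := Module.finrank_zero_iff.mp hn
    exact absurd (Subsingleton.elim c' 0) hc'
  | 1 => by
    intro V _ _ _ hn g c' y' hc' hy' hdet _
    -- g is the identity
    have hg1 : g = 1 := by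
      obtain ⟨μ, hμ⟩ : ∃ μ : K, g c' = μ • c' := by
        have := (finrank_eq_one_iff_of_nonzero' c' hc').mp hn (g c')
        obtain ⟨μ, hμ⟩ := this
        exact ⟨μ, hμ.symm⟩
      have hgμ : g = μ • 1 := by
        apply LinearMap.ext
        intro x
        obtain ⟨t, ht⟩ := (finrank_eq_one_iff_of_nonzero' c' hc').mp hn x
        rw [← ht, map_smul, hμ, LinearMap.smul_apply, Module.End.one_apply, smul_comm]
      have : LinearMap.det g = μ := by
        rw [hgμ, LinearMap.det_smul, hn, pow_one, map_one, mul_one]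
      rw [hdet] at this
      rw [hgμ, ← this, one_smul]
    subst hg1
    have hreg : IsRegNilp ((1 : Module.End K V) - 1) := by
      refine ⟨?_, ?_⟩
      · rw [sub_self, hn, pow_one]
      · exact (Submodule.finrank_le _).trans (le_of_eq hn)
    refine ⟨1, 1, hreg, hreg, by rw [one_mul], ?_, ?_⟩
    · rintro ⟨x, hx⟩
      apply hc'
      rw [← hx, sub_self, LinearMap.zero_apply]
    · obtain ⟨x, hx⟩ : ∃ x, y' x ≠ 0 := by
        by_contra hcon
        push Not at hcon
        exact hy' (LinearMap.ext hcon)
      exact ⟨x, by rw [sub_self, LinearMap.zero_apply], hx⟩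
  | (n + 2) => by
    intro V _ _ _ hn g c' y' hc' hy' hdet hinv
    have hg : Inv g := hinv (by omega)
    obtain ⟨φ, v, hv, hgv, hφc', hy'v, hc, hy, hinv1⟩ := exists_choice s hs g hg c' y' hc' hy'
    have hfr : finrank K (LinearMap.ker φ) = n + 1 := by
      have := finrank_ker_of_apply_eq_one φ v hv
      omega
    have hsol := sol_main s hs (n + 1) (LinearMap.ker φ) hfr (comp1 g φ v hgv)
      (cvec g φ v hv hgv) (yfun g φ) hc hy (by rw [det_comp1 g φ v hv hgv, hdet])
      (fun h2 => hinv1 (by omega))
    exact sol_of_comp1 g φ v hv hgv c' y' hφc' hy'v hsol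

section Transvection

variable {V : Type u} [AddCommGroup V] [Module K V] [FiniteDimensional K V]

theorem exists_not_mem_range_of_isNilpotent {H : Type*} [AddCommGroup H] [Module K H]
    [FiniteDimensional K H] [Nontrivial H] {N : Module.End K H} (hN : IsNilpotent N) :
    ∃ z, z ∉ LinearMap.range N := by
  by_contra hcon
  push Not at hcon
  have hsurj : Function.Surjective N := fun z => hcon z
  obtain ⟨k, hk⟩ := hN
  have hsk : Function.Surjective (N ^ k) := by
    have : ∀ j : ℕ, Function.Surjective (N ^ j) := by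
      intro j
      induction j with
      | zero => rw [pow_zero]; exact Function.surjective_id
      | succ j ih =>
        rw [pow_succ]
        exact ih.comp hsurj
    exact this k
  obtain ⟨x, hx⟩ := exists_ne (0 : H)
  obtain ⟨z, hz⟩ := hsk x
  rw [hk, LinearMap.zero_apply] at hz
  exact hx hz.symm

/-- The rank one case: `g x = x + θ x • u` with `θ u = 0`. -/
theorem exists_factor_transvection (s : Finset K) (hs : 3 ≤ s.card) (g : Module.End K V)
    (θ : Module.Dual K V) (u a₀ : V) (hu : u ≠ 0) (hθu : θ u = 0) (hθa : θ a₀ = 1)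
    (hg : ∀ x, g x = x + θ x • u) :
    ∃ L U : Module.End K V, IsRegNilp (L - 1) ∧ IsRegNilp (U - 1) ∧ g = L * U := by
  classical
  set e := decomp θ a₀ hθa with he
  let û : LinearMap.ker θ := ⟨u, hθu⟩
  have hû : û ≠ 0 := fun h => hu (congrArg Subtype.val h)
  have hnt : Nontrivial (LinearMap.ker θ) := ⟨⟨û, 0, hû⟩⟩
  obtain ⟨N₁, hN₁⟩ := exists_isRegNilp (K := K) (V := LinearMap.ker θ)
  obtain ⟨M₁, hM₁, hNM, hMN⟩ := exists_inverse hN₁
  obtain ⟨z, hz⟩ := exists_not_mem_range_of_isNilpotent hN₁.isNilpotent
  obtain ⟨z', hz'⟩ := exists_not_mem_range_of_isNilpotent hM₁.isNilpotent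
  -- choose c_B
  have P₁c : LineClosed K (fun x : LinearMap.ker θ => x ∈ LinearMap.range M₁) :=
    lineClosed_mem _
  have P₂c : LineClosed K (fun x : LinearMap.ker θ => (-(1 + N₁)) x + û ∈ LinearMap.range N₁) :=
    lineClosed_affine (-(1 + N₁)) û (LinearMap.range N₁)
  have P₂n : ∃ x : LinearMap.ker θ, ¬ ((-(1 + N₁)) x + û ∈ LinearMap.range N₁) := by
    refine ⟨(1 + M₁) (û - z), ?_⟩
    have : (-(1 + N₁)) ((1 + M₁) (û - z)) + û = z := by
      rw [LinearMap.neg_apply, ← Module.End.mul_apply, hNM, Module.End.one_apply]; abel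
    rw [this]; exact hz
  obtain ⟨cB, hcB1, hcB2⟩ := avoid2 (K := K) s hs _ _ P₁c P₂c ⟨z', hz'⟩ P₂n
  set cA : LinearMap.ker θ := (-(1 + N₁)) cB + û with hcA
  have hA : IsRegNilp (lowN cA N₁) := isRegNilp_lowN hN₁ hcB2
  have hB : IsRegNilp (lowN cB M₁) := isRegNilp_lowN hM₁ hcB1
  have hprod : e.conjRingEquiv g = (1 + lowN cA N₁) * (1 + lowN cB M₁) := by
    apply LinearMap.ext
    rintro ⟨a, h⟩
    have hh : θ (h : V) = 0 := h.2
    change e (g (e.symm (a, h))) = _
    rw [he, decomp_symm_apply, hg]
    have h1 : (1 + N₁) ((1 + M₁) h) = h := by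
      rw [← Module.End.mul_apply, hNM, Module.End.one_apply]
    apply Prod.ext
    · simp [hθa, hh, hθu]
    · apply Subtype.ext
      rw [decomp_apply_snd]
      have h3 : h + (a • cB + M₁ h) + (a • cA + N₁ (h + (a • cB + M₁ h)))
          = (1 + N₁) ((1 + M₁) h) + a • ((1 + N₁) cB + cA) := by
        simp only [LinearMap.add_apply, Module.End.one_apply, map_add, map_smul, smul_add]
        abel
      have h4 : (1 + N₁) cB + cA = û := by
        rw [hcA, LinearMap.neg_apply]; abel
      have h5 : (((1 + lowN cA N₁) * (1 + lowN cB M₁)) (a, h)).2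
          = h + (a • cB + M₁ h) + (a • cA + N₁ (h + (a • cB + M₁ h))) := by
        simp only [Module.End.mul_apply, LinearMap.add_apply, Module.End.one_apply, lowN_apply,
          Prod.mk_add_mk, add_zero, Prod.snd_add, Prod.fst_add]
      rw [h5, h3, h1, h4]
      simp only [map_add, map_smul, hθa, hh, hθu, smul_eq_mul, mul_one, add_zero, mul_zero,
        Submodule.coe_add, Submodule.coe_smul]
      change _ = (h : V) + a • u
      module
  refine ⟨e.symm.conjRingEquiv (1 + lowN cA N₁), e.symm.conjRingEquiv (1 + lowN cB M₁), ?_, ?_, ?_⟩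
  · have : e.symm.conjRingEquiv (1 + lowN cA N₁) - 1 = e.symm.conjRingEquiv (lowN cA N₁) := by
      rw [map_add, map_one]; abel
    rw [this]
    exact isRegNilp_conj e.symm hA
  · have : e.symm.conjRingEquiv (1 + lowN cB M₁) - 1 = e.symm.conjRingEquiv (lowN cB M₁) := by
      rw [map_add, map_one]; abel
    rw [this]
    exact isRegNilp_conj e.symm hB
  · rw [← map_mul, ← hprod]
    apply LinearMap.ext
    intro x
    change g x = e.symm (e (g (e.symm (e x))))
    simp

end Transvection

/-- Main abstract theorem: a non-scalar endomorphism of determinant one of a space of dimension at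
least three over a field with at least four elements is a product of two regular unipotents. -/
theorem exists_factor (s : Finset K) (hs : 4 ≤ s.card) {V : Type u} [AddCommGroup V] [Module K V]
    [FiniteDimensional K V] (hV : 3 ≤ finrank K V) (g : Module.End K V)
    (hdet : LinearMap.det g = 1) (hns : ∀ μ : K, g ≠ μ • 1) :
    ∃ L U : Module.End K V, IsRegNilp (L - 1) ∧ IsRegNilp (U - 1) ∧ g = L * U := by
  by_cases hrank : ∃ a b : V, ∀ s t : K, s • ((g - 1) a) + t • ((g - 1) b) = 0 → s = 0 ∧ t = 0
  · have hinv : Inv g := ⟨hdet, hns, hrank⟩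
    have hnt : Nontrivial V := Module.nontrivial_of_finrank_pos (R := K) (by omega)
    obtain ⟨c', hc'⟩ := exists_ne (0 : V)
    obtain ⟨y', hy'⟩ := exists_dual_ne_zero (K := K) hc'
    have hy'0 : y' ≠ 0 := by
      rintro rfl
      simp at hy'
    obtain ⟨L, U, hL, hU, hg, _, _⟩ :=
      sol_main s hs (finrank K V) V rfl g c' y' hc' hy'0 hdet (fun _ => hinv)
    exact ⟨L, U, hL, hU, hg⟩
  · have hg1 : g ≠ 1 := by
      have := hns 1
      rwa [one_smul] at this
    obtain ⟨a₀, ha₀⟩ : ∃ a₀, (g - 1) a₀ ≠ 0 := by
      by_contra hcon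
      push Not at hcon
      apply hg1
      apply LinearMap.ext
      intro x
      have := hcon x
      rw [LinearMap.sub_apply, sub_eq_zero] at this
      exact this
    obtain ⟨χ, hχ⟩ := exists_dual_eq_one (K := K) ha₀
    have hmul : ∀ x, (g - 1) x = χ ((g - 1) x) • (g - 1) a₀ := by
      intro x
      by_contra hne
      apply hrank
      refine ⟨a₀, x, ?_⟩
      intro s t hst
      have h1 : s + t * χ ((g - 1) x) = 0 := by
        have := congrArg χ hst
        rw [map_add, map_smul, map_smul, hχ, map_zero, smul_eq_mul, smul_eq_mul, mul_one] at this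
        exact this
      have hs' : s = -(t * χ ((g - 1) x)) := eq_neg_of_add_eq_zero_left h1
      have h2 : t • ((g - 1) x - χ ((g - 1) x) • (g - 1) a₀) = 0 := by
        rw [hs'] at hst
        rw [← hst]
        module
      rcases smul_eq_zero.mp h2 with ht | h
      · rw [ht] at hs'
        simp at hs'
        exact ⟨hs', ht⟩
      · exact absurd (sub_eq_zero.mp h) hne
    have hgx : ∀ x, g x = x + (χ.comp (g - 1)) x • (g - 1) a₀ := by
      intro x
      have := hmul x
      rw [LinearMap.comp_apply, ← this, LinearMap.sub_apply, Module.End.one_apply]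
      abel
    have hgt : g = LinearMap.transvection (χ.comp (g - 1)) ((g - 1) a₀) := by
      apply LinearMap.ext
      intro x
      rw [LinearMap.transvection.apply]
      exact hgx x
    have hθu : (χ.comp (g - 1)) ((g - 1) a₀) = 0 := by
      have h := LinearMap.transvection.det (χ.comp (g - 1)) ((g - 1) a₀)
      rw [← hgt, hdet] at h
      have : (1 : K) + (χ.comp (g - 1)) ((g - 1) a₀) = 1 + 0 := by rw [← h, add_zero]
      exact add_left_cancel this
    have hs3 : 3 ≤ s.card := by omega
    exact exists_factor_transvection s hs3 g (χ.comp (g - 1)) ((g - 1) a₀) a₀ ha₀ hθu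
      (by rw [LinearMap.comp_apply]; exact hχ) hgx

end Cfsg.Agent.Helper73.LUMain
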