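import Mathlib
import Cfsg.Agent.Helper62.Ore.Defs

/-!
# S2444 (helper62's Ore farm #12939), piece (CDAT) `claimC_datum`

Greedy construction of a basis `p` and a strictly upper triangular `Δ` with `R Δ` upper
triangular with non-zero superdiagonal.
-/

set_option autoImplicit false

namespace Cfsg.Agent.Helper73.Ore

open Polynomial Module Cfsg.Agent.Helper62.Ore

variable {F : Type*} [Field F] {V : Type*} [AddCommGroup V] [Module F V]

theorem CDAT_image_snoc {P : Type*} {k : ℕ} (p : Fin k → P) (x : P) (q : ℕ → Prop)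
    (hq : ∀ n, q n → n < k) :
    (Fin.snoc p x : Fin (k + 1) → P) '' {i | q (i : ℕ)} = p '' {i | q (i : ℕ)} := by
  ext y
  constructor
  · rintro ⟨i, hi, rfl⟩
    induction i using Fin.lastCases with
    | last =>
      have := hq _ hi
      simp at this
    | cast i =>
      exact ⟨i, hi, by simp⟩
  · rintro ⟨i, hi, rfl⟩
    exact ⟨Fin.castSucc i, hi, by simp⟩

/-- one greedy step -/
theorem CDAT_step {P : Type*} [AddCommGroup P] [Module F P] [FiniteDimensional F P]
    (R : P ≃ₗ[F] P) {k : ℕ} (hk : k < finrank F P)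
    (p : Fin k → P) (hp : LinearIndependent F p) :
    ∃ (x y : P), x ∉ Submodule.span F (Set.range p) ∧ y ∈ Submodule.span F (Set.range p) ∧
      R y ∈ Submodule.span F (Set.range (Fin.snoc p x : Fin (k + 1) → P)) ∧
      (0 < k → R y ∉ Submodule.span F
        ((Fin.snoc p x : Fin (k + 1) → P) '' {i | (i : ℕ) + 1 ≠ k})) := by
  set Pk := Submodule.span F (Set.range p) with hPk
  have hfin : finrank F Pk = k := by
    rw [hPk, finrank_span_eq_card hp, Fintype.card_fin]
  have hne : Pk ≠ ⊤ := by
    intro h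
    rw [h, finrank_top] at hfin
    omega
  obtain ⟨x0, -, hx0⟩ := SetLike.exists_of_lt (lt_top_iff_ne_top.mpr hne)
  rcases Nat.eq_zero_or_pos k with hk0 | hkpos
  · refine ⟨x0, 0, hx0, Submodule.zero_mem _, ?_, ?_⟩
    · rw [map_zero]
      exact Submodule.zero_mem _
    · intro h
      omega
  · -- the previous vector
    set i0 : Fin k := ⟨k - 1, by omega⟩ with hi0
    have hprev : p i0 ∈ Pk := Submodule.subset_span ⟨i0, rfl⟩
    -- common end of both cases
    have key : ∀ (x y : P), x ∉ Pk → y ∈ Pk → (R y = p i0 + x ∨ R y = p i0) →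
        R y ∈ Submodule.span F (Set.range (Fin.snoc p x : Fin (k + 1) → P)) ∧
        (0 < k → R y ∉ Submodule.span F
          ((Fin.snoc p x : Fin (k + 1) → P) '' {i | (i : ℕ) + 1 ≠ k})) := by
      intro x y hx hy hRy
      have hLI : LinearIndependent F (Fin.snoc p x : Fin (k + 1) → P) :=
        linearIndependent_finSnoc.mpr ⟨hp, hx⟩
      have e1 : (Fin.snoc p x : Fin (k + 1) → P) (Fin.castSucc i0) = p i0 := by simp
      have e2 : (Fin.snoc p x : Fin (k + 1) → P) (Fin.last k) = x := by simp
      have m1 : p i0 ∈ Submodule.span F (Set.range (Fin.snoc p x : Fin (k + 1) → P)) :=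
        Submodule.subset_span ⟨Fin.castSucc i0, e1⟩
      have m2 : x ∈ Submodule.span F (Set.range (Fin.snoc p x : Fin (k + 1) → P)) :=
        Submodule.subset_span ⟨Fin.last k, e2⟩
      have hnot : p i0 ∉ Submodule.span F
          ((Fin.snoc p x : Fin (k + 1) → P) '' {i | (i : ℕ) + 1 ≠ k}) := by
        rw [← e1]
        apply hLI.notMem_span_image
        simp only [Set.mem_ofPred_eq, not_not, Fin.val_castSucc, hi0]
        omega
      have m3 : x ∈ Submodule.span F
          ((Fin.snoc p x : Fin (k + 1) → P) '' {i | (i : ℕ) + 1 ≠ k}) := by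
        apply Submodule.subset_span
        refine ⟨Fin.last k, ?_, e2⟩
        simp only [Set.mem_ofPred_eq, Fin.val_last]
        omega
      rcases hRy with h | h
      · refine ⟨?_, fun _ hmem => hnot ?_⟩
        · rw [h]
          exact Submodule.add_mem _ m1 m2
        · have : p i0 = R y - x := by rw [h]; abel
          rw [this]
          exact Submodule.sub_mem _ hmem m3
      · refine ⟨?_, fun _ hmem => hnot ?_⟩
        · rw [h]
          exact m1
        · rw [← h]
          exact hmem
    by_cases hA : ∃ y ∈ Pk, R y ∉ Pk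
    · obtain ⟨y, hy, hRy⟩ := hA
      have hx : R y - p i0 ∉ Pk := by
        intro h
        apply hRy
        have : R y = (R y - p i0) + p i0 := by abel
        rw [this]
        exact Submodule.add_mem _ h hprev
      obtain ⟨k1, k2⟩ := key (R y - p i0) y hx hy (Or.inl (by abel))
      exact ⟨R y - p i0, y, hx, hy, k1, k2⟩
    · push Not at hA
      have hle : Submodule.map (R : P →ₗ[F] P) Pk ≤ Pk := by
        rintro _ ⟨y, hy, rfl⟩
        exact hA y hy
      have heq : Submodule.map (R : P →ₗ[F] P) Pk = Pk :=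
        Submodule.eq_of_le_of_finrank_eq hle (LinearEquiv.finrank_map_eq R Pk)
      have : p i0 ∈ Submodule.map (R : P →ₗ[F] P) Pk := by rw [heq]; exact hprev
      obtain ⟨y, hy, hRy⟩ := this
      obtain ⟨k1, k2⟩ := key x0 y hx0 hy (Or.inr hRy)
      exact ⟨x0, y, hx0, hy, k1, k2⟩

/-- the greedy family of length `k` -/
theorem CDAT_family {P : Type*} [AddCommGroup P] [Module F P] [FiniteDimensional F P]
    (R : P ≃ₗ[F] P) (k : ℕ) (hk : k ≤ finrank F P) :
    ∃ (p d : Fin k → P), LinearIndependent F p ∧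
      (∀ j : Fin k, d j ∈ Submodule.span F (p '' {i | (i : ℕ) < j})) ∧
      (∀ j : Fin k, R (d j) ∈ Submodule.span F (p '' {i | (i : ℕ) ≤ j})) ∧
      (∀ j : Fin k, 0 < (j : ℕ) →
        R (d j) ∉ Submodule.span F (p '' {i | (i : ℕ) ≤ j ∧ (i : ℕ) + 1 ≠ j})) := by
  induction k with
  | zero =>
    exact ⟨Fin.elim0, Fin.elim0, linearIndependent_empty_type, fun j => j.elim0,
      fun j => j.elim0, fun j => j.elim0⟩
  | succ k ih =>
    obtain ⟨p, d, hp, h1, h2, h3⟩ := ih (by omega)
    obtain ⟨x, y, hx, hy, hRy, hRy'⟩ := CDAT_step R (by omega : k < finrank F P) p hp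
    refine ⟨Fin.snoc p x, Fin.snoc d y, linearIndependent_finSnoc.mpr ⟨hp, hx⟩, ?_, ?_, ?_⟩
    · intro j
      induction j using Fin.lastCases with
      | last =>
        have hs : (Fin.snoc p x : Fin (k + 1) → P) '' {i | (i : ℕ) < ((Fin.last k : Fin (k + 1)) : ℕ)}
            = Set.range p := by
          rw [Fin.val_last, CDAT_image_snoc p x (fun n => n < k) (fun n h => h)]
          ext z
          constructor
          · rintro ⟨i, -, rfl⟩
            exact ⟨i, rfl⟩
          · rintro ⟨i, rfl⟩
            exact ⟨i, i.2, rfl⟩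
        rw [hs, Fin.snoc_last]
        exact hy
      | cast j =>
        rw [Fin.snoc_castSucc, Fin.val_castSucc,
          CDAT_image_snoc p x (fun n => n < (j : ℕ)) (fun n h => lt_trans h j.2)]
        exact h1 j
    · intro j
      induction j using Fin.lastCases with
      | last =>
        have hs : (Fin.snoc p x : Fin (k + 1) → P) '' {i | (i : ℕ) ≤ ((Fin.last k : Fin (k + 1)) : ℕ)}
            = Set.range (Fin.snoc p x : Fin (k + 1) → P) := by
          ext z
          constructor
          · rintro ⟨i, -, rfl⟩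
            exact ⟨i, rfl⟩
          · rintro ⟨i, rfl⟩
            refine ⟨i, ?_, rfl⟩
            simp only [Set.mem_ofPred_eq, Fin.val_last]
            omega
        rw [hs, Fin.snoc_last]
        exact hRy
      | cast j =>
        rw [Fin.snoc_castSucc, Fin.val_castSucc,
          CDAT_image_snoc p x (fun n => n ≤ (j : ℕ)) (fun n h => lt_of_le_of_lt h j.2)]
        exact h2 j
    · intro j hj
      induction j using Fin.lastCases with
      | last =>
        have hs : {i : Fin (k + 1) | (i : ℕ) ≤ ((Fin.last k : Fin (k + 1)) : ℕ) ∧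
            (i : ℕ) + 1 ≠ ((Fin.last k : Fin (k + 1)) : ℕ)} = {i : Fin (k + 1) | (i : ℕ) + 1 ≠ k} := by
          ext i
          simp only [Set.mem_ofPred_eq, Fin.val_last]
          constructor
          · exact fun h => h.2
          · exact fun h => ⟨by omega, h⟩
        rw [hs, Fin.snoc_last]
        rw [Fin.val_last] at hj
        exact hRy' hj
      | cast j =>
        rw [Fin.val_castSucc] at hj
        rw [Fin.snoc_castSucc, Fin.val_castSucc,
          CDAT_image_snoc p x (fun n => n ≤ (j : ℕ) ∧ n + 1 ≠ (j : ℕ))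
            (fun n h => lt_of_le_of_lt h.1 j.2)]
        exact h3 j hj

/-- (CDAT) Claim C, triangular form. -/
theorem claimC_datum {P : Type*} [AddCommGroup P] [Module F P] [FiniteDimensional F P]
    {l : ℕ} (hl : finrank F P = l) (R : P ≃ₗ[F] P) :
    ∃ (p : Fin l → P) (Δ : Module.End F P), LinearIndependent F p ∧
      (∀ j, Δ (p j) ∈ Submodule.span F (p '' {i | i < j})) ∧
      (∀ j, R (Δ (p j)) ∈ Submodule.span F (p '' {i | i ≤ j})) ∧
      (∀ j : Fin l, 0 < (j : ℕ) →
        R (Δ (p j)) ∉ Submodule.span F (p '' {i | i ≤ j ∧ (i : ℕ) + 1 ≠ j})) := by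
  obtain ⟨p, d, hp, h1, h2, h3⟩ := CDAT_family R l (le_of_eq hl.symm)
  let b : Basis (Fin l) F P :=
    Basis.mk hp (by
      rw [hp.span_eq_top_of_card_eq_finrank' (by rw [Fintype.card_fin, hl])])
  have hb : ∀ j, b j = p j := fun j => by
    simp [b]
  have hΔ : ∀ j, (b.constr F d) (p j) = d j := fun j => by
    rw [← hb j, Basis.constr_basis]
  refine ⟨p, b.constr F d, hp, ?_, ?_, ?_⟩
  · intro j
    rw [hΔ]
    exact h1 j
  · intro j
    rw [hΔ]
    exact h2 j
  · intro j hj
    rw [hΔ]
    exact h3 j hj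

end Cfsg.Agent.Helper73.Ore
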