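import Mathlib
import Cfsg.Agent.Helper79.CharBasic
import Cfsg.Agent.Helper80.CharLevel

/-!
helper73: piece (CNT) of helper3's PL1 farm (S4711): the counting step.
-/

set_option autoImplicit false
set_option linter.unusedSectionVars false
set_option linter.unusedVariables false

namespace Cfsg.Agent.Helper73.PL1

open Cfsg

universe u

variable {p : ℕ} [Fact p.Prime] {G : Type u} [Group G]

/-- (CNT) the counting step: a generalized character `∑ m χ • χ` with natural coefficients, not all zero, that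
vanishes on `P ∖ {1}`, has a constituent with positive coefficient that is trivial on `P`, if every constituent is
trivial on `P` or sums to zero over `P`. -/
theorem CNT [Finite G] (B : Set (IrrCharacter G)) (m : IrrCharacter G → ℕ)
    (P : Subgroup G)
    (hvan : ∀ u ∈ P, u ≠ 1 → ∑ᶠ χ ∈ B, (m χ : ℂ) * (χ : G → ℂ) u = 0)
    (hsum : ∀ χ ∈ B, (∀ u ∈ P, (χ : G → ℂ) u = (χ : G → ℂ) 1) ∨ ∑ᶠ u ∈ (P : Set G), (χ : G → ℂ) u = 0)
    (hne : ∃ χ ∈ B, 0 < m χ) :
    ∃ χ ∈ B, 0 < m χ ∧ ∀ u ∈ P, (χ : G → ℂ) u = (χ : G → ℂ) 1 := by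
  classical
  have : Finite (IrrCharacter G) := Cfsg.Agent.Helper79.irr_finite'
  have hBfin : B.Finite := Set.toFinite B
  have hPfin : (P : Set G).Finite := Set.toFinite _
  by_contra hcon
  push Not at hcon
  -- degrees
  have hdeg : ∀ χ : IrrCharacter G, ∃ n : ℕ, 0 < n ∧ (χ : G → ℂ) 1 = n := by
    intro χ
    obtain ⟨n, hn⟩ := Cfsg.Agent.Helper80.IsCharacter.map_one
      (Cfsg.Agent.Helper80.IsIrrCharacter.isCharacter χ.2)
    have h0 := Cfsg.Agent.Helper80.IsIrrCharacter.map_one_ne_zero χ.2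
    refine ⟨n, ?_, hn⟩
    rcases Nat.eq_zero_or_pos n with h | h
    · exfalso; apply h0; rw [hn, h]; simp
    · exact h
  choose deg hdegpos hdegeq using hdeg
  -- every term of the swapped sum vanishes
  have hterm : ∀ χ ∈ hBfin.toFinset, (m χ : ℂ) * ∑ u ∈ hPfin.toFinset, (χ : G → ℂ) u = 0 := by
    intro χ hχ
    have hχB : χ ∈ B := by simpa using hχ
    rcases Nat.eq_zero_or_pos (m χ) with h0 | hpos
    · rw [h0]; simp
    · obtain ⟨u, huP, hu⟩ := hcon χ hχB hpos
      rcases hsum χ hχB with h | h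
      · exact absurd (h u huP) hu
      · rw [finsum_mem_eq_finite_toFinset_sum _ hPfin] at h
        rw [h, mul_zero]
  have hzero : ∑ χ ∈ hBfin.toFinset, (m χ : ℂ) * ∑ u ∈ hPfin.toFinset, (χ : G → ℂ) u = 0 :=
    Finset.sum_eq_zero hterm
  -- the other evaluation
  have hother : ∑ χ ∈ hBfin.toFinset, (m χ : ℂ) * ∑ u ∈ hPfin.toFinset, (χ : G → ℂ) u
      = ∑ χ ∈ hBfin.toFinset, (m χ : ℂ) * (χ : G → ℂ) 1 := by
    simp_rw [Finset.mul_sum]
    rw [Finset.sum_comm]
    rw [Finset.sum_eq_single (1 : G)]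
    · intro u hu hu1
      have huP : u ∈ P := by simpa using hu
      have := hvan u huP hu1
      rwa [finsum_mem_eq_finite_toFinset_sum _ hBfin] at this
    · intro h1
      exfalso; apply h1
      simp [P.one_mem]
  rw [hother] at hzero
  have hcast : ∑ χ ∈ hBfin.toFinset, (m χ : ℂ) * (χ : G → ℂ) 1
      = ((∑ χ ∈ hBfin.toFinset, m χ * deg χ : ℕ) : ℂ) := by
    push_cast
    refine Finset.sum_congr rfl ?_
    intro χ _
    rw [hdegeq χ]
  rw [hcast] at hzero
  have hz : ∑ χ ∈ hBfin.toFinset, m χ * deg χ = 0 := by exact_mod_cast hzero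
  obtain ⟨χ0, hχ0B, hχ0⟩ := hne
  have hmem : χ0 ∈ hBfin.toFinset := by simpa using hχ0B
  have := (Finset.sum_eq_zero_iff.mp hz) χ0 hmem
  have hpos : 0 < m χ0 * deg χ0 := Nat.mul_pos hχ0 (hdegpos χ0)
  omega

end Cfsg.Agent.Helper73.PL1
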