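import Mathlib
import Cfsg.Agent.Helper99.Pron.Defs
import Cfsg.Agent.Helper55.PronBM3
import Cfsg.Agent.Helper34.PronDET

/-!
helper73: piece (C6U) of helper99's farm #15213 (S2225/S2226 block I).
-/

set_option autoImplicit false
set_option linter.unusedSectionVars false

namespace Cfsg.Agent.Helper73.Pron

open Matrix Cfsg.Agent.Helper99.Pron

variable {F : Type*} [Field F] {ι : Type*} [Fintype ι] [DecidableEq ι]

/-- `1 × 1` matrices commute -/
theorem C6U_comm [Unique ι] (M N : Matrix ι ι F) : M * N = N * M := by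
  ext i j
  simp only [Matrix.mul_apply, Fintype.sum_unique]
  rw [Subsingleton.elim i default, Subsingleton.elim j default]
  exact mul_comm _ _

/-- `1 × 1` matrices are scalar -/
theorem C6U_scalar [Unique ι] (M : Matrix ι ι F) :
    M = (M default default) • (1 : Matrix ι ι F) := by
  ext i j
  rw [Subsingleton.elim i default, Subsingleton.elim j default]
  simp

/-- (C6U) the commutant of `Ksub (Wr P)` is the scalars on a one point index type, from `Inv P` only. -/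
theorem comm6_Wr_of_unique [Unique ι] (h2 : (2 : F) ≠ 0) (P : Subgroup (GL ι F)) (hP : Cfsg.Agent.Helper99.Pron.Inv P) :
    ∀ X : Matrix (ι ⊕ ι) (ι ⊕ ι) F,
      (∀ g ∈ Wr P, (∃ e ∈ Wr P, (g : Matrix (ι ⊕ ι) (ι ⊕ ι) F).det =
          (e : Matrix (ι ⊕ ι) (ι ⊕ ι) F).det ^ 2) →
        (g : Matrix (ι ⊕ ι) (ι ⊕ ι) F) * X = X * (g : Matrix (ι ⊕ ι) (ι ⊕ ι) F)) →
      ∃ l : F, X = l • 1 := by
  intro X hX
  obtain ⟨c, hcP, hcc⟩ := hP.neg
  have h1W : (1 : GL (ι ⊕ ι) F) ∈ Wr P := Subgroup.one_mem _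
  have hdet1 : ((1 : GL (ι ⊕ ι) F) : Matrix (ι ⊕ ι) (ι ⊕ ι) F).det ^ 2 = 1 := by simp
  -- the inverse of `c` is `-c`
  have hci : (c⁻¹ : GL ι F).1 = -(c : Matrix ι ι F) := by
    have h1 : (c⁻¹ : GL ι F).1 * (c : Matrix ι ι F) = 1 := by
      rw [← Units.val_mul, inv_mul_cancel, Units.val_one]
    calc (c⁻¹ : GL ι F).1 = (c⁻¹ : GL ι F).1 * ((c : Matrix ι ι F) * (-(c : Matrix ι ι F))) := by
          rw [Matrix.mul_neg, hcc, neg_neg, Matrix.mul_one]
      _ = ((c⁻¹ : GL ι F).1 * (c : Matrix ι ι F)) * (-(c : Matrix ι ι F)) := by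
          rw [Matrix.mul_assoc]
      _ = -(c : Matrix ι ι F) := by rw [h1, Matrix.one_mul]
  have hcu : ∀ M : Matrix ι ι F, (c : Matrix ι ι F) * M = 0 → M = 0 := by
    intro M hM
    have h1 : (c⁻¹ : GL ι F).1 * (c : Matrix ι ι F) = 1 := by
      rw [← Units.val_mul, inv_mul_cancel, Units.val_one]
    calc M = ((c⁻¹ : GL ι F).1 * (c : Matrix ι ι F)) * M := by rw [h1, Matrix.one_mul]
      _ = (c⁻¹ : GL ι F).1 * ((c : Matrix ι ι F) * M) := by rw [Matrix.mul_assoc]
      _ = 0 := by rw [hM, Matrix.mul_zero]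
  have hdouble : ∀ M : Matrix ι ι F, M + M = 0 → M = 0 := by
    intro M hM
    have : (2 : F) • M = 0 := by rw [two_smul]; exact hM
    exact (smul_eq_zero.mp this).resolve_left h2
  -- first test element
  have hg1 := hX (bd c c⁻¹) (bd_mem_Wr hcP (P.inv_mem hcP)) ⟨1, h1W, by
    rw [hdet1, Cfsg.Agent.Helper34.Pron.det_bd, ← det_mul, ← Units.val_mul, mul_inv_cancel,
      Units.val_one, det_one]⟩
  obtain ⟨X11, X12, X21, X22, rfl⟩ : ∃ A B C D : Matrix ι ι F, X = fromBlocks A B C D :=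
    ⟨_, _, _, _, (fromBlocks_toBlocks X).symm⟩
  rw [bd_val, fromBlocks_multiply, fromBlocks_multiply, fromBlocks_inj] at hg1
  obtain ⟨-, h12, h21, -⟩ := hg1
  simp only [Matrix.zero_mul, Matrix.mul_zero, add_zero, zero_add] at h12 h21
  have hX12 : X12 = 0 := by
    apply hcu
    apply hdouble
    rw [hci, Matrix.mul_neg, C6U_comm X12 (c : Matrix ι ι F)] at h12
    nth_rewrite 2 [h12]
    rw [add_neg_cancel]
  have hX21 : X21 = 0 := by
    apply hcu
    apply hdouble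
    rw [hci, Matrix.neg_mul, C6U_comm X21 (c : Matrix ι ι F)] at h21
    nth_rewrite 1 [← h21]
    rw [neg_add_cancel]
  subst hX12 hX21
  -- second test element
  have hm0 : ((c * c : GL ι F) : Matrix ι ι F) = -1 := by rw [Units.val_mul, hcc]
  have hg2 := hX (ad 1 (c * c)) (ad_mem_Wr P.one_mem (P.mul_mem hcP hcP)) ⟨1, h1W, by
    rw [hdet1, ad_val, hm0, Units.val_one]
    exact Cfsg.Agent.Helper34.Pron.det_J⟩
  rw [C6U_scalar X11, C6U_scalar X22] at hg2 ⊢
  have hlm := Cfsg.Agent.Helper55.Pron.BM3 _ _ 1 (c * c) hg2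
  refine ⟨X11 default default, ?_⟩
  rw [← hlm, ← fromBlocks_one, fromBlocks_smul, smul_zero]

end Cfsg.Agent.Helper73.Pron
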