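import Mathlib
import Cfsg.Agent.Helper99.Pron.Defs
import Cfsg.Agent.Helper10.PronGIDX
import Cfsg.Agent.Helper66.PronIX3

/-!
helper73: piece (GN) of helper99's farm #15213 (S2225/S2226 block I).
-/

set_option autoImplicit false
set_option linter.unusedSectionVars false

namespace Cfsg.Agent.Helper73.Pron

open Matrix Cfsg.Agent.Helper99.Pron

variable {F : Type*} [Field F] {ι : Type*} [Fintype ι] [DecidableEq ι]

/-- `diag(1, 0)` is not a scalar matrix -/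
theorem GN_not_scalar [Nonempty ι] (l : F)
    (h : fromBlocks (1 : Matrix ι ι F) 0 0 0 = l • (1 : Matrix (ι ⊕ ι) (ι ⊕ ι) F)) : False := by
  obtain ⟨i⟩ := ‹Nonempty ι›
  have h1 := congrFun (congrFun h (Sum.inl i)) (Sum.inl i)
  have h2 := congrFun (congrFun h (Sum.inr i)) (Sum.inr i)
  simp only [fromBlocks_apply₁₁, fromBlocks_apply₂₂, Matrix.smul_apply, Matrix.one_apply_eq,
    Matrix.zero_apply, smul_eq_mul, mul_one] at h1 h2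
  rw [← h2] at h1
  exact one_ne_zero h1

/-- (GN) an element normalising `Y` maps the block diagonal part of `Y` into block diagonal matrices,
provided every index-two subgroup of `Y` containing an antidiagonal element has scalar commutant. -/
theorem GN [Nonempty ι] (P : Subgroup (GL ι F)) (Y : Subgroup (GL (ι ⊕ ι) F)) (hY : Y ≤ Wr P)
    (hK : ∀ T : Subgroup (GL (ι ⊕ ι) F), Idx2 Y T → (∃ a b : GL ι F, ad a b ∈ T) →
      ∀ X : Matrix (ι ⊕ ι) (ι ⊕ ι) F,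
        (∀ g ∈ T, (g : Matrix (ι ⊕ ι) (ι ⊕ ι) F) * X = X * (g : Matrix (ι ⊕ ι) (ι ⊕ ι) F)) →
          ∃ l : F, X = l • 1)
    (x : GL (ι ⊕ ι) F) (hx : x ∈ Subgroup.normalizer (Y : Set (GL (ι ⊕ ι) F))) :
    ∀ g ∈ Y ⊓ Bs P, x * g * x⁻¹ ∈ Bs P := by
  intro g hg
  by_contra hcon
  have hgY : x * g * x⁻¹ ∈ Y := (hx g).mp hg.1
  obtain ⟨a', ha', b', hb', hab | hab⟩ := mem_Wr.1 (hY hgY)
  · exact hcon ⟨a', ha', b', hb', hab⟩
  have hidx : Idx2 Y ((Y ⊓ Bs P).map (MulAut.conj x).toMonoidHom) :=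
    Cfsg.Agent.Helper66.Pron.Idx2.map_conj (Cfsg.Agent.Helper10.Pron.GIDX P Y hY) hx
  have hadT : ad a' b' ∈ (Y ⊓ Bs P).map (MulAut.conj x).toMonoidHom := by
    rw [← hab]
    exact Subgroup.mem_map.mpr ⟨g, hg, rfl⟩
  have hxx' : (x⁻¹ : GL (ι ⊕ ι) F).1 * (x : Matrix (ι ⊕ ι) (ι ⊕ ι) F) = 1 := by
    rw [← Units.val_mul, inv_mul_cancel, Units.val_one]
  obtain ⟨l, hl⟩ := hK _ hidx ⟨a', b', hadT⟩
    ((x : Matrix (ι ⊕ ι) (ι ⊕ ι) F) * fromBlocks (1 : Matrix ι ι F) 0 0 0 * (x⁻¹ : GL (ι ⊕ ι) F).1) (by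
      intro t ht
      obtain ⟨g', hg', rfl⟩ := Subgroup.mem_map.mp ht
      obtain ⟨a, _, b, _, rfl⟩ := hg'.2
      have ht1 : (((MulAut.conj x).toMonoidHom (bd a b) : GL (ι ⊕ ι) F) : Matrix (ι ⊕ ι) (ι ⊕ ι) F)
          = (x : Matrix (ι ⊕ ι) (ι ⊕ ι) F) * fromBlocks a.1 0 0 b.1 * (x⁻¹ : GL (ι ⊕ ι) F).1 := rfl
      rw [ht1]
      have hcomm : fromBlocks a.1 0 0 b.1 * fromBlocks (1 : Matrix ι ι F) 0 0 0
          = fromBlocks (1 : Matrix ι ι F) 0 0 0 * fromBlocks a.1 0 0 b.1 := by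
        simp [fromBlocks_multiply]
      calc (x : Matrix (ι ⊕ ι) (ι ⊕ ι) F) * fromBlocks a.1 0 0 b.1 * (x⁻¹ : GL (ι ⊕ ι) F).1 *
            ((x : Matrix (ι ⊕ ι) (ι ⊕ ι) F) * fromBlocks (1 : Matrix ι ι F) 0 0 0 *
              (x⁻¹ : GL (ι ⊕ ι) F).1)
          = (x : Matrix (ι ⊕ ι) (ι ⊕ ι) F) * fromBlocks a.1 0 0 b.1 *
              ((x⁻¹ : GL (ι ⊕ ι) F).1 * (x : Matrix (ι ⊕ ι) (ι ⊕ ι) F)) *
              fromBlocks (1 : Matrix ι ι F) 0 0 0 * (x⁻¹ : GL (ι ⊕ ι) F).1 := by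
            simp only [Matrix.mul_assoc]
        _ = (x : Matrix (ι ⊕ ι) (ι ⊕ ι) F) *
              (fromBlocks a.1 0 0 b.1 * fromBlocks (1 : Matrix ι ι F) 0 0 0) *
              (x⁻¹ : GL (ι ⊕ ι) F).1 := by
            rw [hxx', Matrix.mul_one]
            simp only [Matrix.mul_assoc]
        _ = (x : Matrix (ι ⊕ ι) (ι ⊕ ι) F) *
              (fromBlocks (1 : Matrix ι ι F) 0 0 0 * fromBlocks a.1 0 0 b.1) *
              (x⁻¹ : GL (ι ⊕ ι) F).1 := by rw [hcomm]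
        _ = (x : Matrix (ι ⊕ ι) (ι ⊕ ι) F) * fromBlocks (1 : Matrix ι ι F) 0 0 0 *
              ((x⁻¹ : GL (ι ⊕ ι) F).1 * (x : Matrix (ι ⊕ ι) (ι ⊕ ι) F)) *
              fromBlocks a.1 0 0 b.1 * (x⁻¹ : GL (ι ⊕ ι) F).1 := by
            rw [hxx', Matrix.mul_one]
            simp only [Matrix.mul_assoc]
        _ = (x : Matrix (ι ⊕ ι) (ι ⊕ ι) F) * fromBlocks (1 : Matrix ι ι F) 0 0 0 *
              (x⁻¹ : GL (ι ⊕ ι) F).1 *
              ((x : Matrix (ι ⊕ ι) (ι ⊕ ι) F) * fromBlocks a.1 0 0 b.1 * (x⁻¹ : GL (ι ⊕ ι) F).1) := by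
            simp only [Matrix.mul_assoc])
  apply GN_not_scalar (ι := ι) l
  calc fromBlocks (1 : Matrix ι ι F) 0 0 0
      = ((x⁻¹ : GL (ι ⊕ ι) F).1 * (x : Matrix (ι ⊕ ι) (ι ⊕ ι) F)) *
          fromBlocks (1 : Matrix ι ι F) 0 0 0 *
          ((x⁻¹ : GL (ι ⊕ ι) F).1 * (x : Matrix (ι ⊕ ι) (ι ⊕ ι) F)) := by
        rw [hxx', Matrix.one_mul, Matrix.mul_one]
    _ = (x⁻¹ : GL (ι ⊕ ι) F).1 * ((x : Matrix (ι ⊕ ι) (ι ⊕ ι) F) *
          fromBlocks (1 : Matrix ι ι F) 0 0 0 * (x⁻¹ : GL (ι ⊕ ι) F).1) *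
          (x : Matrix (ι ⊕ ι) (ι ⊕ ι) F) := by
        simp only [Matrix.mul_assoc]
    _ = l • (1 : Matrix (ι ⊕ ι) (ι ⊕ ι) F) := by
        rw [hl, Matrix.mul_smul, Matrix.mul_one, Matrix.smul_mul, hxx']

end Cfsg.Agent.Helper73.Pron
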