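import Cfsg.Agent.Helper43.PsuM.RDefs

/-!
# S2089 block R (helper43 #14254), piece (CPL): complement from a fixed-point-free element.
-/

set_option autoImplicit false

namespace Cfsg.Agent.Helper73.PsuM

open scoped commutatorElement
open Cfsg.Agent.Helper96.StLift Cfsg.Agent.Helper43.PsuM

universe u

theorem CPL_pow_conj {Γ : Type u} [Group Γ] (A : Subgroup Γ) (z : Γ) (hzA : ∀ a ∈ A, z * a * z⁻¹ = a) (x a : Γ) (ha : a ∈ A)
    (h : z * x * z⁻¹ = a * x) (k : ℕ) :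
    z ^ k * x * (z ^ k)⁻¹ = a ^ k * x := by
  induction k with
  | zero => simp
  | succ k ih =>
    have hak : z * a ^ k * z⁻¹ = a ^ k := hzA _ (A.pow_mem ha k)
    calc z ^ (k + 1) * x * (z ^ (k + 1))⁻¹ = z * (z ^ k * x * (z ^ k)⁻¹) * z⁻¹ := by
          rw [pow_succ']; group
      _ = z * (a ^ k * x) * z⁻¹ := by rw [ih]
      _ = (z * a ^ k * z⁻¹) * (z * x * z⁻¹) := by group
      _ = a ^ k * (a * x) := by rw [hak, h]
      _ = a ^ (k + 1) * x := by rw [pow_succ, mul_assoc]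

section central

variable {Γ G : Type u} [Group Γ] [Group G] (τ : Γ →* G) (hτ : Function.Surjective τ)
  (hc : τ.ker ≤ Subgroup.center Γ)

include hτ hc

omit hτ hc in
/-- (CPL) complement from a fixed-point-free element. -/
theorem exists_complement_of_fpf [Finite Γ] (M A : Subgroup Γ) (hAM : A ≤ M)
    (hM : ∀ x ∈ M, ∀ y ∈ M, Commute x y) (z : Γ) (hzM : ∀ x ∈ M, z * x * z⁻¹ ∈ M)
    (hzA : ∀ a ∈ A, z * a * z⁻¹ = a) (d : ℕ) (hd : ∀ x ∈ M, z ^ d * x * (z ^ d)⁻¹ = x)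
    (hAd : ∀ a ∈ A, a ^ d = 1 → a = 1) (hfpf : ∀ x ∈ M, z * x * z⁻¹ * x⁻¹ ∈ A → x ∈ A) :
    ∃ C : Subgroup Γ, C ≤ M ∧ C ⊓ A = ⊥ ∧ C ⊔ A = M ∧ (∀ x ∈ M, z * x * z⁻¹ * x⁻¹ ∈ C) ∧
      (∀ c ∈ C, ∃ x ∈ M, z * x * z⁻¹ * x⁻¹ = c) ∧
      ∀ g : Γ, (∀ x ∈ M, g * x * g⁻¹ ∈ M) →
        (∀ x ∈ M, g * (z * x * z⁻¹) * g⁻¹ = z * (g * x * g⁻¹) * z⁻¹) → ∀ c ∈ C, g * c * g⁻¹ ∈ C := by
  have hmemφ : ∀ x : ↥M, z * x * z⁻¹ * (x : Γ)⁻¹ ∈ M := fun x =>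
    M.mul_mem (hzM x x.2) (M.inv_mem x.2)
  let φ : ↥M →* ↥M := MonoidHom.mk' (fun x => ⟨z * x * z⁻¹ * (x : Γ)⁻¹, hmemφ x⟩) (by
    intro x y
    apply Subtype.ext
    have hc : Commute ((x : Γ)⁻¹) (z * y * z⁻¹ * (y : Γ)⁻¹) :=
      hM _ (M.inv_mem x.2) _ (hmemφ y)
    change z * ((x : Γ) * y) * z⁻¹ * ((x : Γ) * y)⁻¹ =
      (z * x * z⁻¹ * (x : Γ)⁻¹) * (z * y * z⁻¹ * (y : Γ)⁻¹)
    calc z * ((x : Γ) * y) * z⁻¹ * ((x : Γ) * y)⁻¹
        = z * x * z⁻¹ * ((z * y * z⁻¹ * (y : Γ)⁻¹) * (x : Γ)⁻¹) := by group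
      _ = z * x * z⁻¹ * ((x : Γ)⁻¹ * (z * y * z⁻¹ * (y : Γ)⁻¹)) := by rw [hc.eq]
      _ = (z * x * z⁻¹ * (x : Γ)⁻¹) * (z * y * z⁻¹ * (y : Γ)⁻¹) := by group)
  have hφ : ∀ x : ↥M, ((φ x : ↥M) : Γ) = z * x * z⁻¹ * (x : Γ)⁻¹ := fun x => rfl
  -- the kernel of φ is A
  have hker : φ.ker = A.subgroupOf M := by
    ext x
    rw [MonoidHom.mem_ker, Subgroup.mem_subgroupOf]
    constructor
    · intro hx
      apply hfpf x x.2
      rw [← hφ x, hx]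
      exact A.one_mem
    · intro hx
      apply Subtype.ext
      rw [hφ x, hzA _ hx, mul_inv_cancel]
      rfl
  have hCmem : ∀ c : Γ, c ∈ φ.range.map M.subtype ↔ ∃ x ∈ M, z * x * z⁻¹ * x⁻¹ = c := by
    intro c
    constructor
    · intro hc
      obtain ⟨c', ⟨x, rfl⟩, rfl⟩ := Subgroup.mem_map.1 hc
      exact ⟨x, x.2, (hφ x).symm⟩
    · rintro ⟨x, hx, rfl⟩
      exact Subgroup.mem_map.2 ⟨φ ⟨x, hx⟩, ⟨⟨x, hx⟩, rfl⟩, hφ ⟨x, hx⟩⟩
  have hdisj : φ.range.map M.subtype ⊓ A = ⊥ := by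
    rw [eq_bot_iff]
    intro c hc
    obtain ⟨hcC, hcA⟩ := Subgroup.mem_inf.1 hc
    obtain ⟨x, hx, rfl⟩ := (hCmem c).1 hcC
    rw [Subgroup.mem_bot]
    set a := z * x * z⁻¹ * x⁻¹ with ha
    have h1 : z * x * z⁻¹ = a * x := by rw [ha]; group
    have h2 := CPL_pow_conj A z hzA x a hcA h1 d
    rw [hd x hx] at h2
    apply hAd a hcA
    have : a ^ d * x = 1 * x := by rw [one_mul]; exact h2.symm
    exact mul_right_cancel this
  refine ⟨φ.range.map M.subtype, Subgroup.map_subtype_le _, hdisj, ?_, ?_, ?_, ?_⟩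
  · -- C ⊔ A = M by counting inside M
    have hcard : Nat.card ↥φ.range * Nat.card ↥(A.subgroupOf M) = Nat.card ↥M := by
      rw [← Subgroup.index_ker φ, hker, mul_comm]
      exact Subgroup.card_mul_index _
    have hdisj' : Disjoint φ.range (A.subgroupOf M) := by
      rw [disjoint_iff, eq_bot_iff]
      intro c hc
      obtain ⟨hcC, hcA⟩ := Subgroup.mem_inf.1 hc
      rw [Subgroup.mem_bot]
      apply Subtype.ext
      have : (c : Γ) ∈ φ.range.map M.subtype ⊓ A :=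
        Subgroup.mem_inf.2 ⟨Subgroup.mem_map.2 ⟨c, hcC, rfl⟩, Subgroup.mem_subgroupOf.1 hcA⟩
      rw [hdisj, Subgroup.mem_bot] at this
      exact this
    have hcompl := Subgroup.isComplement'_of_card_mul_and_disjoint hcard hdisj'
    have htop := hcompl.sup_eq_top
    have := congrArg (Subgroup.map M.subtype) htop
    rw [Subgroup.map_sup, Subgroup.map_subgroupOf_eq_of_le hAM, ← MonoidHom.range_eq_map,
      Subgroup.range_subtype] at this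
    exact this
  · intro x hx
    exact (hCmem _).2 ⟨x, hx, rfl⟩
  · intro c hc
    exact (hCmem c).1 hc
  · intro g hgM hgz c hc
    obtain ⟨x, hx, rfl⟩ := (hCmem c).1 hc
    refine (hCmem _).2 ⟨g * x * g⁻¹, hgM x hx, ?_⟩
    rw [← hgz x hx]
    group

end central

end Cfsg.Agent.Helper73.PsuM
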