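import Cfsg.Agent.Helper43.PsuM.RDefs
import Cfsg.Agent.Helper49.PsuM_PL3

/-!
# S2089 block R (helper43 #14254), piece (RK1): `⟨X̃₁, X̃₂⟩` meets the kernel trivially when
`X₁ ⊔ X₂` has no stem extension with `p'`-kernel.
-/

set_option autoImplicit false

namespace Cfsg.Agent.Helper73.PsuM

open scoped commutatorElement
open Cfsg.Agent.Helper96.StLift Cfsg.Agent.Helper43.PsuM

universe u

/-- A homomorphism from a subgroup `E` generated by `p`-elements to a commutative group takes values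
in `p`-elements. -/
theorem RK1_forall_pow {Γ : Type*} [Group Γ] (E : Subgroup Γ) {B : Type*} [CommGroup B]
    (f : ↥E →* B) (p : ℕ) (S : Set Γ) (hSE : S ⊆ (E : Set Γ)) (hES : E ≤ Subgroup.closure S)
    (hS : ∀ g ∈ S, ∃ k : ℕ, g ^ p ^ k = 1) (e : ↥E) : ∃ k : ℕ, f e ^ p ^ k = 1 := by
  let K : Subgroup ↥E :=
    { carrier := {e | ∃ k : ℕ, f e ^ p ^ k = 1}
      one_mem' := ⟨0, by simp⟩
      mul_mem' := by
        rintro a b ⟨k, hk⟩ ⟨l, hl⟩
        refine ⟨k + l, ?_⟩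
        rw [map_mul, mul_pow, pow_add, pow_mul, hk, one_pow, mul_comm (p ^ k) (p ^ l), pow_mul, hl,
          one_pow, one_mul]
      inv_mem' := by
        rintro a ⟨k, hk⟩
        exact ⟨k, by rw [map_inv, inv_pow, hk, inv_one]⟩ }
  have hle : Subgroup.closure S ≤ K.map E.subtype := by
    rw [Subgroup.closure_le]
    intro g hg
    obtain ⟨k, hk⟩ := hS g hg
    refine Subgroup.mem_map.2 ⟨⟨g, hSE hg⟩, ⟨k, ?_⟩, rfl⟩
    rw [← map_pow]
    have : (⟨g, hSE hg⟩ : ↥E) ^ p ^ k = 1 := Subtype.ext (by simpa using hk)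
    rw [this, map_one]
  obtain ⟨e', he'K, he'⟩ := Subgroup.mem_map.1 (hle (hES e.2))
  have : e' = e := Subtype.ext he'
  rw [← this]
  exact he'K

section plift

variable {Γ G : Type u} [Group Γ] [Group G] [Finite Γ] (τ : Γ →* G) (hτ : Function.Surjective τ)
  (hc : τ.ker ≤ Subgroup.center Γ) (p : ℕ) [Fact p.Prime] (hcop : (Nat.card τ.ker).Coprime p)

include hτ hc hcop

/-- (RK1) rank one input. -/
theorem plift_sup_inf_ker (X₁ X₂ : Subgroup G) (h₁ : IsPGroup p X₁) (h₂ : IsPGroup p X₂)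
    (hL : NoStemP' ↥(X₁ ⊔ X₂) p) : (plift τ p X₁ ⊔ plift τ p X₂) ⊓ τ.ker = ⊥ := by
  set E : Subgroup Γ := plift τ p X₁ ⊔ plift τ p X₂ with hE
  -- `E` is generated by `p`-elements
  have hEcl : E = Subgroup.closure
      ({g | τ g ∈ X₁ ∧ ∃ k : ℕ, g ^ p ^ k = 1} ∪ {g | τ g ∈ X₂ ∧ ∃ k : ℕ, g ^ p ^ k = 1}) := by
    rw [hE, Subgroup.closure_union]
    rfl
  have hEle : E ≤ (X₁ ⊔ X₂).comap τ := by
    rw [hE]
    refine sup_le ?_ ?_
    · exact (plift_le_comap τ p X₁).trans (Subgroup.comap_mono le_sup_left)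
    · exact (plift_le_comap τ p X₂).trans (Subgroup.comap_mono le_sup_right)
  -- the restriction of `τ`
  let τ' : ↥E →* ↥(X₁ ⊔ X₂) :=
    (τ.comp E.subtype).codRestrict (X₁ ⊔ X₂) (fun e => hEle e.2)
  have hτ' : ∀ e : ↥E, ((τ' e : ↥(X₁ ⊔ X₂)) : G) = τ (e : Γ) := fun e => rfl
  have hker' : ∀ e : ↥E, e ∈ τ'.ker ↔ (e : Γ) ∈ τ.ker := by
    intro e
    rw [MonoidHom.mem_ker, MonoidHom.mem_ker]
    constructor
    · intro h
      have := congrArg Subtype.val h
      exact this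
    · intro h
      apply Subtype.ext
      rw [hτ' e, h]
      rfl
  -- surjective
  have hsurj : Function.Surjective τ' := by
    have hmapE : E.map τ = X₁ ⊔ X₂ := by
      rw [hE, Subgroup.map_sup, Cfsg.Agent.Helper49.PsuM.plift_map τ hτ hc p hcop X₁ h₁,
        Cfsg.Agent.Helper49.PsuM.plift_map τ hτ hc p hcop X₂ h₂]
    rintro ⟨x, hx⟩
    rw [← hmapE] at hx
    obtain ⟨e, heE, rfl⟩ := Subgroup.mem_map.1 hx
    exact ⟨⟨e, heE⟩, Subtype.ext rfl⟩
  -- central kernel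
  have hcent : τ'.ker ≤ Subgroup.center ↥E := by
    intro e he
    rw [Subgroup.mem_center_iff]
    intro e'
    apply Subtype.ext
    exact Subgroup.mem_center_iff.1 (hc ((hker' e).1 he)) e'.1
  -- kernel inside the commutator subgroup
  have hSE : ({g | τ g ∈ X₁ ∧ ∃ k : ℕ, g ^ p ^ k = 1} ∪
      {g | τ g ∈ X₂ ∧ ∃ k : ℕ, g ^ p ^ k = 1} : Set Γ) ⊆ (E : Set Γ) := by
    intro g hg
    rw [hEcl]
    exact Subgroup.subset_closure hg
  have hSp : ∀ g ∈ ({g | τ g ∈ X₁ ∧ ∃ k : ℕ, g ^ p ^ k = 1} ∪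
      {g | τ g ∈ X₂ ∧ ∃ k : ℕ, g ^ p ^ k = 1} : Set Γ), ∃ k : ℕ, g ^ p ^ k = 1 := by
    rintro g (hg | hg)
    · exact hg.2
    · exact hg.2
  have hcomm : τ'.ker ≤ commutator ↥E := by
    intro e he
    obtain ⟨k, hk⟩ := RK1_forall_pow E (Abelianization.of : ↥E →* Abelianization ↥E) p _ hSE
      (le_of_eq hEcl) hSp e
    -- `e` has order prime to `p`
    have heker : (e : Γ) ∈ τ.ker := (hker' e).1 he
    have hpow : (e : Γ) ^ Nat.card ↥τ.ker = 1 := by
      have h1 : (⟨(e : Γ), heker⟩ : ↥τ.ker) ^ Nat.card ↥τ.ker = 1 := pow_card_eq_one'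
      have h2 := congrArg Subtype.val h1
      simpa using h2
    have hpow' : (Abelianization.of e : Abelianization ↥E) ^ Nat.card ↥τ.ker = 1 := by
      rw [← map_pow]
      have : e ^ Nat.card ↥τ.ker = 1 := Subtype.ext (by simpa using hpow)
      rw [this, map_one]
    have hcop' : Nat.Coprime (p ^ k) (Nat.card ↥τ.ker) := (Nat.Coprime.pow_left k hcop.symm)
    have h1 : (Abelianization.of e : Abelianization ↥E) ^ Nat.gcd (p ^ k) (Nat.card ↥τ.ker) = 1 :=
      pow_gcd_eq_one.2 ⟨hk, hpow'⟩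
    rw [hcop', pow_one] at h1
    have h2 : e ∈ (Abelianization.of : ↥E →* Abelianization ↥E).ker := MonoidHom.mem_ker.2 h1
    rwa [Abelianization.ker_of] at h2
  -- the kernel has order prime to `p`
  have hcopE : (Nat.card ↥τ'.ker).Coprime p := by
    have hdvd : Nat.card ↥τ'.ker ∣ Nat.card ↥τ.ker := by
      let ι : ↥τ'.ker →* ↥τ.ker :=
        { toFun := fun e => ⟨((e : ↥E) : Γ), (hker' e.1).1 e.2⟩
          map_one' := rfl
          map_mul' := fun _ _ => rfl }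
      have hinj : Function.Injective ι := by
        intro a b hab
        apply Subtype.ext
        apply Subtype.ext
        have := congrArg Subtype.val hab
        exact this
      exact Subgroup.card_dvd_of_injective ι hinj
    exact Nat.Coprime.coprime_dvd_left hdvd hcop
  have hbot : τ'.ker = ⊥ := hL ↥E τ' ⟨hsurj, hcent, hcomm⟩ hcopE
  rw [eq_bot_iff]
  intro x hx
  obtain ⟨hxE, hxk⟩ := Subgroup.mem_inf.1 hx
  have h1 : (⟨x, hxE⟩ : ↥E) ∈ τ'.ker := (hker' ⟨x, hxE⟩).2 hxk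
  rw [hbot, Subgroup.mem_bot] at h1
  rw [Subgroup.mem_bot]
  exact congrArg Subtype.val h1

end plift

end Cfsg.Agent.Helper73.PsuM
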