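import Cfsg.Agent.Helper23.PsuOs.Q2Defs
import Cfsg.Agent.Helper59.PsuM_ASM

/-!
helper73, S2089 odd specials (helper23's farm #15666), piece (QCINF) `Cq_inf_ker` (port of helper64's
`PsuE2_CINF`).
-/

set_option autoImplicit false
set_option linter.unusedVariables false
set_option linter.unusedSectionVars false

namespace Cfsg.Agent.Helper73.PsuOs

open scoped commutatorElement
open Cfsg.Agent.Helper96.StLift
open Cfsg.Agent.Helper5.PsuE2 (F4Facts f4Facts)
open Cfsg.Agent.Helper23.PsuOs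

universe u

section group

variable {K : Type u} [Field K] {σ : K →+* K} {G : Type u} [Group G] {m : ℕ} (D : RootData G K m)
  {Γ : Type u} [Group Γ] [Finite Γ] (τ : Γ →* G) (hτ : Function.Surjective τ)

/-- (CINF) `Cfsg.Agent.Helper59.PsuM.sup_inf_ker_eq_bot` (ASM) with `C = Csh D τ`, `W = closure (range zT)`. -/
theorem Cq_inf_ker (E : Ext2 D τ hτ) (F : F4Facts σ) (R : RootFacts σ D) (hm : 2 ≤ m)
    (L : LiftFacts D τ hτ) (zT : Fin m → Γ) (Z : ZFacts D τ hτ zT)
    (hZ : Subgroup.closure (Set.range zT) ⊓ τ.ker = ⊥) :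
    Cq D τ zT ⊓ τ.ker = ⊥ := by
  unfold Cq
  have hWQ : Subgroup.closure (Set.range zT) ≤ (D.Q).comap τ := by
    rw [Subgroup.closure_le]
    rintro _ ⟨a, rfl⟩
    show zT a ∈ (D.Q).comap τ
    rw [Subgroup.mem_comap, Z.map_zT]
    exact R.z_mem a
  apply Cfsg.Agent.Helper59.PsuM.sup_inf_ker_eq_bot τ
  · intro w hw c hc
    have hwQ : τ w ∈ D.Q := Subgroup.mem_comap.1 (hWQ hw)
    have hcQ : τ c ∈ D.Q := Subgroup.mem_comap.1 (csh_le D τ R.T_norm hc)
    have hcomm : Commute w c := E.comm w c hwQ hcQ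
    rw [hcomm.eq, mul_inv_cancel_right]
    exact hc
  · exact L.csh_inf
  · exact hZ
  · rw [csh_map D τ hτ, MonoidHom.map_closure]
    have himg : (τ '' Set.range zT) = Set.range fun i : Fin m => D.z i 1 := by
      rw [← Set.range_comp]
      congr 1
      funext a
      exact Z.map_zT a
    rw [himg]
    exact R.comm_inf

end group

end Cfsg.Agent.Helper73.PsuOs
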