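import Cfsg.Agent.Helper23.PsuOs.Q2Defs

/-!
helper73, S2089 odd specials (helper23's farm #15666), piece (QINDEP): the canonical lift `zt D τ hτ a b` of
`D.z a 1` does not depend on the auxiliary index `b` (port of helper24's `PsuE2_INDEP`).
-/

set_option autoImplicit false
set_option linter.unusedSectionVars false
set_option linter.unusedVariables false

namespace Cfsg.Agent.Helper73.PsuOs

open scoped commutatorElement
open Cfsg.Agent.Helper96.StLift
open Cfsg.Agent.Helper5.PsuE2 (F4Facts f4Facts)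
open Cfsg.Agent.Helper23.PsuOs

universe u

section group

variable {K : Type u} [Field K] {σ : K →+* K} {G : Type u} [Group G] {m : ℕ} (D : RootData G K m)
  {Γ : Type u} [Group Γ] [Finite Γ] (τ : Γ →* G) (hτ : Function.Surjective τ)

/-- **(INDEP)** -/
theorem zt_indep (E : Ext2 D τ hτ) (F : F4Facts σ) (R : RootFacts σ D) (hm : 2 ≤ m)
    (L : LiftFacts D τ hτ) (a b c : Fin m) (hab : a ≠ b) (hac : a ≠ c) (hbc : b ≠ c) :
    zt D τ hτ a b = zt D τ hτ a c := by
  obtain ⟨g₁, hg₁⟩ := hτ (D.x b c 1)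
  obtain ⟨g₂, hg₂⟩ := hτ (D.x c b 1)
  obtain ⟨n, hndef⟩ : ∃ n, n = g₁ * g₂ * g₁ := ⟨_, rfl⟩
  have hn : τ n = nE D b c := by
    rw [hndef, map_mul, map_mul, hg₁, hg₂]; rfl
  -- (1) `n` commutes with `zt a b`
  have hz : τ (zt D τ hτ a b) = D.z a 1 := map_zt D τ hτ R hab
  have c1 : Commute g₁ (zt D τ hτ a b) := L.x_z g₁ _ b c a 1 hbc hac hg₁ hz
  have c2 : Commute g₂ (zt D τ hτ a b) := L.x_z g₂ _ c b a 1 hbc.symm hab hg₂ hz
  have cn : Commute n (zt D τ hτ a b) := by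
    rw [hndef]
    exact (c1.mul_left c2).mul_left c1
  have h1 : n * zt D τ hτ a b * n⁻¹ = zt D τ hτ a b := by
    rw [cn.eq, mul_inv_cancel_right]
  -- (2) `n` normalises `Csh D τ`
  have hnQ : ∀ y ∈ D.Q, nE D b c * y * (nE D b c)⁻¹ ∈ D.Q := by
    intro y hy
    have e : nE D b c * y * (nE D b c)⁻¹
        = D.x b c 1 * (D.x c b 1 * (D.x b c 1 * y * (D.x b c 1)⁻¹) * (D.x c b 1)⁻¹)
          * (D.x b c 1)⁻¹ := by
      unfold nE; group
    rw [e]
    exact R.x_norm _ _ _ _ (R.x_norm _ _ _ _ (R.x_norm _ _ _ _ hy))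
  have hnC : ∀ x ∈ Csh D τ, n * x * n⁻¹ ∈ Csh D τ := by
    apply conj_mem_commutator
    · intro x hx
      rw [Subgroup.mem_comap] at hx ⊢
      rw [map_mul, map_mul, map_inv, hn]
      exact hnQ _ hx
    · intro x hx
      rw [Subgroup.mem_comap] at hx ⊢
      rw [map_mul, map_mul, map_inv, hn]
      exact R.n_T b c hbc _ hx
  have h2 : n * cT D τ a b 1 * n⁻¹ = cT D τ a c 1 := by
    apply cT_unique D τ hτ R L.csh_inf hac (hnC _ (cT_mem D τ hτ R hab 1))
    rw [map_mul, map_mul, map_inv, hn, map_cT D τ hτ R hab]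
    exact R.n_c a b c hab hac hbc 1
  -- (3) the `lc` part
  have h3 : n * lc hτ (D.x a b 1) (D.z b 1) * n⁻¹ = lc hτ (D.x a c 1) (D.z c 1) := by
    rw [lc_conj hτ E.central, hn, R.n_x a b c hab hac hbc 1, R.n_z b c hbc]
  calc zt D τ hτ a b = n * zt D τ hτ a b * n⁻¹ := h1.symm
    _ = (n * lc hτ (D.x a b 1) (D.z b 1) * n⁻¹) * (n * cT D τ a b 1 * n⁻¹)⁻¹ := by
        unfold zt; group
    _ = zt D τ hτ a c := by rw [h2, h3]; rfl

end group

end Cfsg.Agent.Helper73.PsuOs
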