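import Cfsg.Agent.Helper6.SPrep2

/-!
# Local auxiliary lemmas for the pieces (S0g) and (A3c) of helper6's plan for `Sp_{2n}(q)` (S2347)

Self-contained versions of the action of a Heisenberg element, of the non-degeneracy of
`hypCompl`, and of the transport of the fixed-point spaces.
-/

set_option autoImplicit false

namespace Cfsg.Agent.Helper73.SPrep

open Matrix Cfsg.Agent.Helper13 Cfsg.Agent.Helper5 Cfsg.Agent.Helper6.SPrep Module

variable {F : Type*} [Field F] {m : ℕ}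

local notation "Vec" => (Fin m ⊕ Fin m → F)
local notation "⟪" x ", " y "⟫" => Cfsg.sympForm m F x y

/-- the action of a Heisenberg element -/
theorem spMat_eiW_mulVec' (W : Submodule F (Fin m ⊕ Fin m → F)) (u y : Vec) (hu : u ∈ W)
    (hy : y ∈ W) (hyu : ⟪y, u⟫ = 0) (c : F) (x : Vec) :
    spMat (eiW W u y hu hy c) *ᵥ x =
      x + ⟪x, u⟫ • y + ⟪x, y⟫ • u + (c * ⟪x, u⟫) • u := by
  have huy : ⟪u, y⟫ = 0 := by rw [sympForm_swap, hyu, neg_zero]
  rw [eiW, spMat_mul, spMat_mul, ← Matrix.mulVec_mulVec, ← Matrix.mulVec_mulVec,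
    spMat_tvW_mulVec, spMat_tvW_mulVec, spMat_tvW_mulVec]
  simp only [sympForm_add_left, sympForm_add_right, sympForm_smul_left, sympForm_smul_right,
    sympForm_self, huy, hyu, mul_zero, add_zero, zero_add, one_mul]
  module

theorem eiW_fix_u (W : Submodule F (Fin m ⊕ Fin m → F)) (u y : Vec) (hu : u ∈ W)
    (hy : y ∈ W) (hyu : ⟪y, u⟫ = 0) (c : F) :
    spMat (eiW W u y hu hy c) *ᵥ u = u := by
  have huy : ⟪u, y⟫ = 0 := by rw [sympForm_swap, hyu, neg_zero]
  rw [spMat_eiW_mulVec' W u y hu hy hyu, sympForm_self, huy]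
  simp

/-- `hypCompl` of a hyperbolic pair in a non-degenerate `W` is non-degenerate -/
theorem relNondeg_hypCompl' {W : Submodule F (Fin m ⊕ Fin m → F)} (hW : RelNondeg W) (u u' : Vec)
    (hu : u ∈ W) (hu' : u' ∈ W) (huu' : ⟪u, u'⟫ = 1) : RelNondeg (hypCompl W u u') := by
  intro v hv hv0
  obtain ⟨x, hx, hxv⟩ := hW v hv.1 hv0
  have hu'u : ⟪u', u⟫ = -1 := by rw [sympForm_swap, huu']
  have huv : ⟪u, v⟫ = 0 := by rw [sympForm_swap, hv.2.1, neg_zero]
  have hu'v : ⟪u', v⟫ = 0 := by rw [sympForm_swap, hv.2.2, neg_zero]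
  refine ⟨x - ⟪x, u'⟫ • u + ⟪x, u⟫ • u', ⟨?_, ?_, ?_⟩, ?_⟩
  · exact W.add_mem (W.sub_mem hx (W.smul_mem _ hu)) (W.smul_mem _ hu')
  · rw [sympForm_add_left, sympForm_sub_left, sympForm_smul_left, sympForm_smul_left,
      sympForm_self, hu'u]
    ring
  · rw [sympForm_add_left, sympForm_sub_left, sympForm_smul_left, sympForm_smul_left,
      sympForm_self, huu']
    ring
  · rw [sympForm_add_left, sympForm_sub_left, sympForm_smul_left, sympForm_smul_left, huv, hu'v]
    simpa using hxv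

/-- in a non-degenerate `W`, a prescribed value of the form against a non-zero vector -/
theorem exists_sympForm_eq {W : Submodule F (Fin m ⊕ Fin m → F)} (hW : RelNondeg W) {y : Vec}
    (hy : y ∈ W) (hy0 : y ≠ 0) (a : F) : ∃ z ∈ W, ⟪y, z⟫ = a := by
  obtain ⟨x, hx, hxy⟩ := hW y hy hy0
  have h1 : ⟪y, x⟫ ≠ 0 := by
    rw [sympForm_swap]
    exact neg_ne_zero.mpr hxy
  refine ⟨(a * (⟪y, x⟫)⁻¹) • x, W.smul_mem _ hx, ?_⟩
  rw [sympForm_smul_right, mul_assoc, inv_mul_cancel₀ h1, mul_one]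

section rep

variable {M : Type*} [AddCommGroup M] [Module ℂ M]

theorem map_fixZ' {W : Submodule F (Fin m ⊕ Fin m → F)} (ρ : Representation ℂ ↥(spW W) M)
    (g : spW W) (p : Vec) (hp : p ∈ W) (x : M) (hx : x ∈ fixZ W ρ p hp) :
    ρ g x ∈ fixZ W ρ (spMat g *ᵥ p) (spMat_mulVec_mem g hp) := by
  intro c
  rw [← conj_tvW g p hp c, map_mul, map_mul, Module.End.mul_apply, Module.End.mul_apply,
    ← Module.End.mul_apply (ρ g⁻¹), ← map_mul, inv_mul_cancel, map_one, Module.End.one_apply,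
    hx c]

theorem fixZ_smul' {W : Submodule F (Fin m ⊕ Fin m → F)} (ρ : Representation ℂ ↥(spW W) M)
    (p : Vec) (hp : p ∈ W) (a : F) (ha : a ≠ 0) :
    fixZ W ρ (a • p) (W.smul_mem a hp) = fixZ W ρ p hp := by
  ext x
  constructor
  · intro hx c
    have := hx (c * (a ^ 2)⁻¹)
    rwa [tvW_smul, mul_assoc, inv_mul_cancel₀ (pow_ne_zero 2 ha), mul_one] at this
  · intro hx c
    rw [tvW_smul]
    exact hx _

end rep

end Cfsg.Agent.Helper73.SPrep
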